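import Cfsg.Agent.H614.AMod.EightE

/-!
# Representations of `Alt (Fin 8)` of degree at most 12, odd or zero characteristic

`c'_fix` : the 3-cycle `(4 5 6)` acts trivially on `[V, (0 1)(2 3)]`.
-/

set_option autoImplicit false
set_option linter.unusedSectionVars false

namespace Cfsg.Agent.H614.AMod

open Equiv Equiv.Perm E8

namespace E8

def w12 : A8 := ⟨swap 1 2 * swap 5 6, by rw [mem_alternatingGroup]; decide⟩

end E8

variable {K V : Type*} [Field K] [AddCommGroup V] [Module K V] [FiniteDimensional K V] {ρ : Representation K A8 V}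

theorem c_zero (h2 : (2 : K) ≠ 0) (hle : Module.finrank K V ≤ 12) : nW ρ 1 (-1) 1 (-1) = 0 := by
  have h1 : nW ρ (-1) 1 (-1) 1 = 0 := by
    unfold nW
    rw [Submodule.finrank_eq_zero, eq_bot_iff]
    rintro v ⟨⟨⟨f1, f2⟩, f3⟩, f4⟩
    rw [SetLike.mem_coe, mem_eg_neg] at f1 f3
    have h3 := not_nz (ρ := ρ) h2 hle v
    rw [f3, map_sub, map_neg, f1] at h3
    rw [Submodule.mem_bot]
    have h4 : (2 : K) • ((2 : K) • v) = 0 := by
      rw [two_smul, two_smul]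
      have : v + v + (v + v) = (- -v - -v) - (-v - v) := by abel
      rw [this, h3, sub_self]
    rcases smul_eq_zero.mp h4 with h | h
    · exact absurd h h2
    · rcases smul_eq_zero.mp h with h | h
      · exact absurd h h2
      · exact h
  have c1 := conj_a ρ 1 (-1)
  have c2 := conj_a ρ (-1) (-1)
  have c3 := conj_a ρ (-1) 1
  have d1 := conj_b ρ 1 (-1)
  omega

theorem nA_conj : nA ρ (-1) 1 1 = nA ρ 1 1 (-1) ∧ nA ρ (-1) 1 1 = nA ρ (-1) 1 (-1) ∧
    (∀ z : K, nA ρ (-1) 1 z = nA ρ (-1) (-1) z) ∧ (∀ z : K, nA ρ (-1) 1 z = nA ρ 1 (-1) z) := by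
  refine ⟨?_, ?_, ?_, ?_⟩
  · apply finrank_eq_of_map ρ g1
    · rintro v ⟨⟨e1, e2⟩, e3⟩
      exact ⟨⟨eg_move ρ (g := s) (by decide) e3, eg_move ρ (g := d2) (by decide) e2⟩,
        eg_move ρ (g := d1) (by decide) e1⟩
    · rintro v ⟨⟨e1, e2⟩, e3⟩
      exact ⟨⟨eg_move ρ (g := s) (by decide) e3, eg_move ρ (g := d2) (by decide) e2⟩,
        eg_move ρ (g := d1) (by decide) e1⟩
  · apply finrank_eq_of_map ρ b1
    · rintro v ⟨⟨e1, e2⟩, e3⟩
      have e4 := eg_mul ρ e1 e3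
      rw [mul_one] at e4
      exact ⟨⟨eg_move ρ (g := d1) (by decide) e1, eg_move ρ (g := d2) (by decide) e2⟩,
        eg_move ρ (g := d1 * s) (by decide) e4⟩
    · rintro v ⟨⟨e1, e2⟩, e3⟩
      have e4 := eg_mul ρ e1 e3
      rw [neg_mul_neg, mul_one] at e4
      exact ⟨⟨eg_move ρ (g := d1) (by decide) e1, eg_move ρ (g := d2) (by decide) e2⟩,
        eg_move ρ (g := d1 * s) (by decide) e4⟩
  · intro z
    apply finrank_eq_of_map ρ hh
    · rintro v ⟨⟨e1, e2⟩, e3⟩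
      have e4 := eg_mul ρ e1 e2
      rw [mul_one] at e4
      exact ⟨⟨eg_move ρ (g := d1) (by decide) e1, eg_move ρ (g := d1 * d2) (by decide) e4⟩,
        eg_move ρ (g := s) (by decide) e3⟩
    · rintro v ⟨⟨e1, e2⟩, e3⟩
      have e4 := eg_mul ρ e1 e2
      rw [neg_mul_neg, mul_one] at e4
      exact ⟨⟨eg_move ρ (g := d1) (by decide) e1, eg_move ρ (g := d1 * d2) (by decide) e4⟩,
        eg_move ρ (g := s) (by decide) e3⟩
  · intro z
    apply finrank_eq_of_map ρ w12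
    · rintro v ⟨⟨e1, e2⟩, e3⟩
      exact ⟨⟨eg_move ρ (g := d2) (by decide) e2, eg_move ρ (g := d1) (by decide) e1⟩,
        eg_move ρ (g := s) (by decide) e3⟩
    · rintro v ⟨⟨e1, e2⟩, e3⟩
      exact ⟨⟨eg_move ρ (g := d2) (by decide) e2, eg_move ρ (g := d1) (by decide) e1⟩,
        eg_move ρ (g := s) (by decide) e3⟩

theorem b_le (h2 : (2 : K) ≠ 0) (hle : Module.finrank K V ≤ 12) : nW ρ 1 1 1 (-1) ≤ 1 := by
  have hc0 := c_zero (ρ := ρ) h2 hle
  -- dim {d₁ = -1}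
  have s1 := split ρ h2 four_a.xx (W := eg ρ d1 (-1)) (inv_eg ρ (by decide) _)
  have e1 : eg ρ d1 (-1) ⊓ eg ρ a1 1 = eg ρ a1 1 ⊓ eg ρ b1 (-1) := by
    ext v
    constructor
    · rintro ⟨h3, h4⟩
      refine ⟨h4, ?_⟩
      have h5 := eg_right four_a.xx h4 h3
      rwa [one_mul] at h5
    · rintro ⟨h3, h4⟩
      refine ⟨?_, h3⟩
      have h5 := eg_mul ρ h3 h4
      rwa [one_mul] at h5
  have e2 : eg ρ d1 (-1) ⊓ eg ρ a1 (-1) = eg ρ a1 (-1) ⊓ eg ρ b1 1 := by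
    ext v
    constructor
    · rintro ⟨h3, h4⟩
      refine ⟨h4, ?_⟩
      have h5 := eg_right four_a.xx h4 h3
      rwa [neg_mul_neg, one_mul] at h5
    · rintro ⟨h3, h4⟩
      refine ⟨?_, h3⟩
      have h5 := eg_mul ρ h3 h4
      rwa [mul_one] at h5
  rw [e1, e2, split_ab ρ h2, split_ab ρ h2] at s1
  have c1 := conj_a ρ 1 (-1)
  have c2 := conj_a ρ (-1) (-1)
  have c3 := conj_a ρ (-1) 1
  have c4 := conj_b ρ 1 (-1)
  have c5 := conj_b ρ 1 1
  have c6 := conj_a ρ 1 1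
  have c7 := conj_s ρ 1 (-1) 1 1
  have c8 := conj_b ρ (-1) 1
  have c9 := conj_b ρ (-1) (-1)
  have hd : Module.finrank K (eg ρ d1 (-1) : Submodule K V) = 4 * nW ρ 1 1 1 (-1) := by omega
  -- total
  have t0 := split ρ h2 (g := d1) (by decide) (W := (⊤ : Submodule K V)) (inv_top ρ _)
  rw [top_inf_eq, top_inf_eq, finrank_top] at t0
  have t1 := split ρ h2 (g := d2) (by decide) (W := eg ρ d1 (-1)) (inv_eg ρ (by decide) _)
  have t2 := split ρ h2 (g := s) (by decide) (W := eg ρ d1 (-1) ⊓ eg ρ d2 1)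
    (Inv.inf ρ (inv_eg ρ (by decide) _) (inv_eg ρ (by decide) _))
  have t3 := split ρ h2 (g := s) (by decide) (W := eg ρ d1 (-1) ⊓ eg ρ d2 (-1))
    (Inv.inf ρ (inv_eg ρ (by decide) _) (inv_eg ρ (by decide) _))
  have t4 := split ρ h2 (g := d2) (by decide) (W := eg ρ d1 1) (inv_eg ρ (by decide) _)
  have t5 := split ρ h2 (g := s) (by decide) (W := eg ρ d1 1 ⊓ eg ρ d2 1)
    (Inv.inf ρ (inv_eg ρ (by decide) _) (inv_eg ρ (by decide) _))
  have t6 := split ρ h2 (g := s) (by decide) (W := eg ρ d1 1 ⊓ eg ρ d2 (-1))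
    (Inv.inf ρ (inv_eg ρ (by decide) _) (inv_eg ρ (by decide) _))
  obtain ⟨k1, k2, k3, k4⟩ := nA_conj (ρ := ρ)
  have k5 := k3 1
  have k6 := k3 (-1)
  have k7 := k4 1
  have k8 := k4 (-1)
  unfold nA at k1 k2 k5 k6 k7 k8
  omega

/-- `V₄'` acts trivially on `[V, a₁]` -/
theorem b_fix (h2 : (2 : K) ≠ 0) (hle : Module.finrank K V ≤ 12) {v : V} (hv : ρ a1 v = -v) :
    ρ b1 v = v ∧ ρ b2 v = v := by
  have key : ∀ {w : V}, ρ a1 w = -w → ρ b1 w = w := by
    intro w hw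
    have h3 := not_nz (ρ := ρ) h2 hle w
    rw [map_sub, ← rho_mul, show a1 * b1 = b1 * a1 by decide, rho_mul, hw, map_neg] at h3
    have h4 : (2 : K) • (ρ b1 w - w) = 0 := by
      rw [two_smul]
      have : ρ b1 w - w + (ρ b1 w - w) = (ρ b1 w - w) - (-ρ b1 w - -w) := by abel
      rw [this, h3, sub_self]
    rcases smul_eq_zero.mp h4 with h | h
    · exact absurd h h2
    · exact sub_eq_zero.mp h
  refine ⟨key hv, ?_⟩
  have h3 : ρ b1 (ρ c' v) = ρ c' v := by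
    apply key
    rw [← rho_mul, show a1 * c' = c' * a1 by decide, rho_mul, hv, map_neg]
  have h4 : ρ b2 v = ρ c'⁻¹ (ρ b1 (ρ c' v)) := by
    rw [← rho_mul, ← rho_mul, show c'⁻¹ * b1 * c' = b2 by decide]
  rw [h4, h3, rho_inv_self]

theorem c'_fix_line (h2 : (2 : K) ≠ 0) (hle : Module.finrank K V ≤ 12) {v : V} (hv : v ∈ W ρ 1 (-1) 1 1) :
    ρ c' v = v := by
  by_cases hv0 : v = 0
  · rw [hv0, map_zero]
  have hle1 : Module.finrank K (W ρ 1 (-1) 1 1) ≤ 1 := by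
    have h3 := b_le (ρ := ρ) h2 hle
    have h4 := conj_s ρ 1 (-1) 1 1
    unfold nW at h3 h4
    omega
  obtain ⟨⟨⟨f1, f2⟩, f3⟩, f4⟩ := id hv
  obtain ⟨x, hx⟩ := line_span hle1 hv hv0 (v := ρ c' v) ⟨⟨⟨eg_move ρ (g := a1) (by decide) f1,
    eg_move ρ (g := a2) (by decide) f2⟩, eg_move ρ (g := b2) (by decide) f4⟩, by
      have h5 := eg_mul ρ f3 f4
      rw [one_mul] at h5
      exact eg_move ρ (g := b1 * b2) (by decide) h5⟩
  obtain ⟨y, hy⟩ := line_span hle1 hv hv0 (v := ρ t v) ⟨⟨⟨eg_move ρ (g := a1) (by decide) f1, by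
      have h5 := eg_mul ρ f1 f2
      rw [one_mul] at h5
      exact eg_move ρ (g := a1 * a2) (by decide) h5⟩, eg_move ρ (g := b1) (by decide) f3⟩, by
      have h5 := eg_mul ρ f3 f4
      rw [one_mul] at h5
      exact eg_move ρ (g := b1 * b2) (by decide) h5⟩
  have inj : ∀ {p q : K}, p • v = q • v → p = q := fun {p q} hpq => smul_left_injective K hv0 hpq
  have hy0 : y ≠ 0 := by
    rintro rfl
    rw [zero_smul] at hy
    have := rho_inv_self ρ t v
    rw [hy, map_zero] at this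
    exact hv0 this.symm
  have h3 : ρ c' (ρ t (ρ c' v)) = ρ t v := by
    rw [← rho_mul, ← rho_mul, show c' * t * c' = t by decide]
  rw [hx, map_smul, hy, map_smul, map_smul, hx, smul_smul, smul_smul] at h3
  have h4 : x * x = 1 := by
    have h5 := inj h3
    have h6 : y * (x * x) = y * 1 := by
      rw [mul_one]
      calc y * (x * x) = x * y * x := by ring
        _ = y := h5
    exact mul_left_cancel₀ hy0 h6
  have h5 : x * x * x = 1 := by
    apply inj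
    have h6 : ρ c' (ρ c' (ρ c' v)) = v := by
      rw [← rho_mul, ← rho_mul, show c' * c' * c' = 1 by decide, rho_one]
    rw [hx, map_smul, map_smul, hx, map_smul, hx, smul_smul, smul_smul] at h6
    rw [one_smul]
    exact h6
  rw [hx, eq_one_of_sq_cube h4 h5, one_smul]

/-- the 3-cycle `(4 5 6)` acts trivially on `{a₁ = -1}` -/
theorem c'_fix (h2 : (2 : K) ≠ 0) (hle : Module.finrank K V ≤ 12) {v : V} (hv : ρ a1 v = -v) : ρ c' v = v := by
  obtain ⟨h3, h4⟩ := b_fix h2 hle hv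
  have aa : ∀ y : V, ρ a2 (ρ a2 y) = y := fun y => by rw [← rho_mul, show a2 * a2 = 1 by decide, rho_one]
  have hv2 : ρ a1 (ρ a2 v) = -ρ a2 v := by
    rw [← rho_mul, show a1 * a2 = a2 * a1 by decide, rho_mul, hv, map_neg]
  -- v = v₊ + v₋
  have hp : ρ c' (v + ρ a2 v) = v + ρ a2 v := by
    -- a₁ = -1, a₂ = 1 : conjugate by c
    have h5 : ρ a1 (v + ρ a2 v) = -(v + ρ a2 v) := by rw [map_add, hv, hv2]; abel
    have h6 : ρ a2 (v + ρ a2 v) = v + ρ a2 v := by rw [map_add, aa, add_comm]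
    obtain ⟨h7, h8⟩ := b_fix h2 hle h5
    have h9 := c'_fix_line (ρ := ρ) h2 hle (v := ρ c (v + ρ a2 v)) ⟨⟨⟨
      eg_move ρ (g := a2) (by decide) ((mem_eg_one ρ).mpr h6), by
        have h10 := eg_mul ρ ((mem_eg_neg ρ).mpr h5) ((mem_eg_one ρ).mpr h6)
        rw [mul_one] at h10
        exact eg_move ρ (g := a1 * a2) (by decide) h10⟩,
      eg_move ρ (g := b1) (by decide) ((mem_eg_one ρ).mpr h7)⟩,
      eg_move ρ (g := b2) (by decide) ((mem_eg_one ρ).mpr h8)⟩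
    rw [← rho_mul, show c' * c = c * c' by decide, rho_mul] at h9
    have h10 := congrArg (ρ c⁻¹) h9
    rwa [rho_inv_self, rho_inv_self] at h10
  have hm : ρ c' (v - ρ a2 v) = v - ρ a2 v := by
    -- a₁ = -1, a₂ = -1 : conjugate by c⁻¹
    have h5 : ρ a1 (v - ρ a2 v) = -(v - ρ a2 v) := by rw [map_sub, hv, hv2]; abel
    have h6 : ρ a2 (v - ρ a2 v) = -(v - ρ a2 v) := by rw [map_sub, aa]; abel
    obtain ⟨h7, h8⟩ := b_fix h2 hle h5
    have h9 := c'_fix_line (ρ := ρ) h2 hle (v := ρ c⁻¹ (v - ρ a2 v)) ⟨⟨⟨by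
        have h10 := eg_mul ρ ((mem_eg_neg ρ).mpr h5) ((mem_eg_neg ρ).mpr h6)
        rw [neg_mul_neg, one_mul] at h10
        exact eg_move ρ (g := a1 * a2) (by decide) h10,
      eg_move ρ (g := a1) (by decide) ((mem_eg_neg ρ).mpr h5)⟩,
      eg_move ρ (g := b1) (by decide) ((mem_eg_one ρ).mpr h7)⟩,
      eg_move ρ (g := b2) (by decide) ((mem_eg_one ρ).mpr h8)⟩
    rw [← rho_mul, show c' * c⁻¹ = c⁻¹ * c' by decide, rho_mul] at h9
    have h10 := congrArg (ρ c) h9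
    rwa [rho_self_inv, rho_self_inv] at h10
  have h11 : (2 : K) • ρ c' v = (2 : K) • v := by
    have h12 : (2 : K) • v = (v + ρ a2 v) + (v - ρ a2 v) := by rw [two_smul]; abel
    rw [← map_smul, h12, map_add, hp, hm]
  exact smul_right_injective V h2 h11

end Cfsg.Agent.H614.AMod
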