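import Cfsg.Agent.H614.AMod.Natural
import Cfsg.Agent.H614.AMod.EightF

/-!
# Representations of `Alt α`, `|α| ≥ 8`, of degree at most 12: odd or zero characteristic

`indep_odd` : disjoint 3-cycles act independently.
-/

set_option autoImplicit false
set_option linter.unusedSectionVars false

namespace Cfsg.Agent.H614.AMod

open Equiv Equiv.Perm E8

variable {α : Type*} [Fintype α] [DecidableEq α]
variable {K V : Type*} [Field K] [AddCommGroup V] [Module K V] [FiniteDimensional K V]
  {ρ : Representation K (alternatingGroup α) V}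

/-- the restriction to `Alt (Fin 8)` -/
def res8 (ρ : Representation K (alternatingGroup α) V) (q : Fin 8 ↪ α) : Representation K A8 V := MonoidHom.comp ρ (ex q)

theorem res8_apply (q : Fin 8 ↪ α) (g : A8) (v : V) : res8 ρ q g v = ρ (ex q g) v := rfl

/-- `(4 5 6)` acts trivially on `[V, (0 1)(2 3)]` -/
theorem c'_pst (h2 : (2 : K) ≠ 0) (hle : Module.finrank K V ≤ 12) (q : Fin 8 ↪ α) :
    ex q c' ∈ pst ρ (U ρ (ex q a1)) := by
  intro w hw
  obtain ⟨u, rfl⟩ := (mem_U ρ).mp hw
  have h3 := c'_fix (ρ := res8 ρ q) h2 hle (v := ρ (ex q a1) u - u) (by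
    rw [res8_apply, map_sub, ← rho_mul, ← map_mul, show a1 * a1 = 1 by decide, map_one, rho_one]
    abel)
  exact h3

/-- eight points from six -/
theorem exists_eight (h8 : 8 ≤ Fintype.card α) (e : Fin 6 ↪ α) : ∃ q : Fin 8 ↪ α, ∀ i : Fin 6, q (Fin.castLE (by omega) i) = e i := by
  obtain ⟨x, hx⟩ : ∃ x, x ∉ Finset.univ.map e := by
    by_contra hne
    push Not at hne
    have h1 : (Finset.univ : Finset α) ⊆ Finset.univ.map e := fun x _ => hne x
    have h2 := Finset.card_le_card h1
    rw [Finset.card_map, Finset.card_univ, Finset.card_univ, Fintype.card_fin] at h2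
    omega
  obtain ⟨y, hy⟩ : ∃ y, y ∉ insert x (Finset.univ.map e) := by
    by_contra hne
    push Not at hne
    have h1 : (Finset.univ : Finset α) ⊆ insert x (Finset.univ.map e) := fun x _ => hne x
    have h2 := (Finset.card_le_card h1).trans (Finset.card_insert_le _ _)
    rw [Finset.card_map, Finset.card_univ, Finset.card_univ, Fintype.card_fin] at h2
    omega
  have hyx : y ≠ x := fun h => hy (h ▸ Finset.mem_insert_self _ _)
  have hy' : ∀ i, e i ≠ y := by
    intro i hi
    exact hy (Finset.mem_insert_of_mem (Finset.mem_map.mpr ⟨i, Finset.mem_univ _, hi⟩))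
  have hx' : ∀ i, e i ≠ x := by
    intro i hi
    exact hx (Finset.mem_map.mpr ⟨i, Finset.mem_univ _, hi⟩)
  let f : Fin 8 → α := fun i => if h : (i : ℕ) < 6 then e ⟨i, h⟩ else if (i : ℕ) = 6 then x else y
  have hf : Function.Injective f := by
    intro i j hij
    simp only [f] at hij
    apply Fin.ext
    by_cases hi : (i : ℕ) < 6
    · by_cases hj : (j : ℕ) < 6
      · rw [dif_pos hi, dif_pos hj] at hij
        have := e.injective hij
        exact Fin.mk.inj_iff.mp this
      · rw [dif_pos hi, dif_neg hj] at hij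
        split_ifs at hij with h6
        · exact absurd hij (hx' _)
        · exact absurd hij (hy' _)
    · by_cases hj : (j : ℕ) < 6
      · rw [dif_neg hi, dif_pos hj] at hij
        split_ifs at hij with h6
        · exact absurd hij.symm (hx' _)
        · exact absurd hij.symm (hy' _)
      · rw [dif_neg hi, dif_neg hj] at hij
        have hi' := i.isLt
        have hj' := j.isLt
        split_ifs at hij with h6 h6' h6'
        · omega
        · exact absurd hij.symm hyx
        · exact absurd hij hyx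
        · omega
  refine ⟨⟨f, hf⟩, fun i => ?_⟩
  show f (Fin.castLE (by omega) i) = e i
  simp only [f]
  rw [dif_pos (by exact i.isLt)]
  rfl

/-- rearrangements of eight points -/
def r1 : Fin 8 ↪ Fin 8 := ⟨![0, 1, 6, 7, 3, 4, 5, 2], by decide⟩
def r2 : Fin 8 ↪ Fin 8 := ⟨![1, 2, 6, 7, 3, 4, 5, 0], by decide⟩

theorem ex_swap2 {k : ℕ} (e : Fin k ↪ α) (i j l m : Fin k) (σ : alternatingGroup (Fin k))
    (hσ : (σ : Perm (Fin k)) = swap i j * swap l m) :
    ((ex e σ : alternatingGroup α) : Perm α) = swap (e i) (e j) * swap (e l) (e m) := by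
  have hsw : ∀ (i j : Fin k), exP e (swap i j) = swap (e i) (e j) := by
    intro i j
    apply Equiv.ext
    intro x
    by_cases hx : ∃ a, e a = x
    · obtain ⟨a, rfl⟩ := hx
      rw [exP_apply]
      by_cases h1 : a = i
      · rw [h1, swap_apply_left, swap_apply_left]
      by_cases h2 : a = j
      · rw [h2, swap_apply_right, swap_apply_right]
      rw [swap_apply_of_ne_of_ne h1 h2, swap_apply_of_ne_of_ne (e.injective.ne h1) (e.injective.ne h2)]
    · rw [not_exists] at hx
      rw [exP_of_notMem e _ hx, swap_apply_of_ne_of_ne (fun h => hx i h.symm) (fun h => hx j h.symm)]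
  rw [coe_ex, hσ, map_mul, hsw, hsw]

theorem indep_odd (h8 : 8 ≤ Fintype.card α) (h2 : (2 : K) ≠ 0) (hle : Module.finrank K V ≤ 12) : Indep ρ := by
  intro e
  obtain ⟨q, hq⟩ := exists_eight h8 e
  have q0 : q 0 = e 0 := hq 0
  have q1 : q 1 = e 1 := hq 1
  have q2 : q 2 = e 2 := hq 2
  have q3 : q 3 = e 3 := hq 3
  have q4 : q 4 = e 4 := hq 4
  have q5 : q 5 = e 5 := hq 5
  -- (0 1 2) = (0 1)(6 7) * (1 2)(6 7)
  have hd1 : ex e d1 = ex (r1.trans q) a1 * ex (r2.trans q) a1 := by
    apply Subtype.ext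
    rw [Subgroup.coe_mul, ex_swap2 e 0 1 1 2 d1 rfl, ex_swap2 (r1.trans q) 0 1 2 3 a1 rfl,
      ex_swap2 (r2.trans q) 0 1 2 3 a1 rfl]
    show swap (e 0) (e 1) * swap (e 1) (e 2) =
      swap (q 0) (q 1) * swap (q 6) (q 7) * (swap (q 1) (q 2) * swap (q 6) (q 7))
    have hc : swap (q 1) (q 2) * swap (q 6) (q 7) = swap (q 6) (q 7) * swap (q 1) (q 2) := by
      apply (Equiv.Perm.Disjoint.commute ?_).eq
      intro x
      have n16 : q 1 ≠ q 6 := q.injective.ne (by decide)
      have n17 : q 1 ≠ q 7 := q.injective.ne (by decide)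
      have n26 : q 2 ≠ q 6 := q.injective.ne (by decide)
      have n27 : q 2 ≠ q 7 := q.injective.ne (by decide)
      by_cases h1 : x = q 1
      · right; rw [h1, swap_apply_of_ne_of_ne n16 n17]
      by_cases h2 : x = q 2
      · right; rw [h2, swap_apply_of_ne_of_ne n26 n27]
      left; rw [swap_apply_of_ne_of_ne h1 h2]
    rw [hc, mul_assoc, ← mul_assoc (swap (q 6) (q 7)) (swap (q 6) (q 7)), swap_mul_self, one_mul, q0, q1, q2]
  have hd2 : ∀ (r : Fin 8 ↪ Fin 8), r 4 = 3 → r 5 = 4 → r 6 = 5 → ex e d2 = ex (r.trans q) c' := by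
    intro r h4 h5 h6
    apply Subtype.ext
    rw [ex_swap2 e 3 4 4 5 d2 rfl, ex_swap2 (r.trans q) 4 5 5 6 c' rfl]
    show swap (e 3) (e 4) * swap (e 4) (e 5) = swap (q (r 4)) (q (r 5)) * swap (q (r 5)) (q (r 6))
    rw [h4, h5, h6, q3, q4, q5]
  have h3 : ex e d2 ∈ pst ρ (U ρ (ex (r1.trans q) a1) ⊔ U ρ (ex (r2.trans q) a1)) := by
    apply mem_pst_sup
    · rw [hd2 r1 rfl rfl rfl]
      exact c'_pst h2 hle _
    · rw [hd2 r2 rfl rfl rfl]
      exact c'_pst h2 hle _
  rw [hd1]
  exact pst_anti ρ (U_mul_le ρ _ _) h3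

end Cfsg.Agent.H614.AMod
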