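import Cfsg.Agent.H614.AMod.NineC
import Cfsg.Agent.H964.AltMod.Mat
import Cfsg.Agent.H825.SpinForm

/-!
# Cores with simple quotient `A_m`, `m ≥ 8`, in dimension at most 12

* `alt_cases` : `P` is the natural module of `A_m` (`NatM`, see H964/AltMod), or `n = 8`, `m = 9`, `p = 2` with fixed
  point free 3-cycles, or `n = 8` and `P = 2.A_m`, `m = 8, 9`, or `m = 10`, `p = 5`;
* `alt_sd_fr` : in all cases `SD P` and `Fr P p`;
* `alt_dim` : the dimensions.
-/

set_option autoImplicit false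
set_option linter.unusedSectionVars false

namespace Cfsg.Agent.H614.AMod.Main

open Equiv Equiv.Perm Cfsg Cfsg.Geo Matrix
open Cfsg.Agent.H614.AMod Cfsg.Agent.H882.Del Cfsg.Agent.H915.LD Cfsg.Agent.H964.AltMod

universe u

variable {ι : Type} [Fintype ι] [DecidableEq ι] {F : Type u} [Field F] [Finite F] {P : Subgroup (GL ι F)} {m : ℕ}

/-- the natural case -/
structure Nat' (P : Subgroup (GL ι F)) (m : ℕ) (e : Soc P ≃* alternatingGroup (Fin m)) : Prop where
  nat : ∃ φ : P ≃* alternatingGroup (Fin m), (∀ x, φ x = e (toSoc P x)) ∧ ∃ w : Fin m → Fin m → (ι → F), NatM (rep φ) w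

/-- the spin module of `A_9` in characteristic 2 -/
structure Nine (P : Subgroup (GL ι F)) (m : ℕ) (e : Soc P ≃* alternatingGroup (Fin m)) : Prop where
  m9 : m = 9
  n8 : Fintype.card ι = 8
  two : (2 : F) = 0
  fpf : ∃ φ : P ≃* alternatingGroup (Fin m), (∀ x, φ x = e (toSoc P x)) ∧
    ∀ (f : Fin 3 ↪ Fin m) (v : ι → F), rep φ (ex f c3) v = v → v = 0

theorem char_cases (p : ℕ) [hp : Fact p.Prime] [CharP F p] : ((2 : F) = 0 ↔ p = 2) := by
  constructor
  · intro h
    have h1 : ((2 : ℕ) : F) = 0 := by exact_mod_cast h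
    have h2 := (CharP.cast_eq_zero_iff F p 2).mp h1
    exact (Nat.prime_dvd_prime_iff_eq hp.out Nat.prime_two).mp h2
  · rintro rfl
    exact CharTwo.two_eq_zero

/-- **Cores with simple quotient `A_m`, `m ≥ 8`.** -/
theorem alt_cases (hC : Core P) (p : ℕ) [hp : Fact p.Prime] [CharP F p]
    (e : Soc P ≃* alternatingGroup (Fin m)) (hm : 8 ≤ m) (hn : Fintype.card ι ≤ 12) (h82 : ¬ (m = 8 ∧ p = 2)) :
    Nat' P m e ∨ Nine P m e ∨
      (Fintype.card ι = 8 ∧ (m = 8 ∨ m = 9 ∨ (m = 10 ∧ p = 5)) ∧ p ≠ 2 ∧ SD P ∧ Fr P p ∧ FixQ P ∧ ¬ FixA P) := by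
  rcases H825.Spin.alt_red hC p e hm hn with ⟨φ, hφ⟩ | h
  · have hfr : Module.finrank F (ι → F) ≤ 12 := by rwa [Module.finrank_fintype_fun_eq_card]
    have h8 : 8 ≤ Fintype.card (Fin m) := by rwa [Fintype.card_fin]
    by_cases h2 : (2 : F) = 0
    · have hp2 : p = 2 := (char_cases p).mp h2
      have hm9 : m ≠ 8 := fun h => h82 ⟨h, hp2⟩
      by_cases hm10 : 10 ≤ m
      · left
        have h5 : (5 : F) ≠ 0 := by
          intro h5
          have h6 : (5 : F) = 1 := by linear_combination 2 * h2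
          rw [h6] at h5
          exact one_ne_zero h5
        obtain ⟨w, hw⟩ := exists_natM φ hC h8 (indep_ten (by rwa [Fintype.card_fin]) h5 (by omega))
        exact ⟨φ, hφ, w, hw⟩
      · have h9 : m = 9 := by omega
        have h3 : ((3 : ℕ) : F) ≠ 0 := by
          intro h3
          have h6 : ((3 : ℕ) : F) = 1 := by
            push_cast
            linear_combination h2
          rw [h6] at h3
          exact one_ne_zero h3
        obtain ⟨a, v, hv⟩ := exists_move_rep φ hC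
        rcases nine (ρ := rep φ) (by rw [Fintype.card_fin]; omega) h3 hfr (irr_rep φ hC) hv with h4 | ⟨h4, h5⟩
        · left
          obtain ⟨w, hw⟩ := exists_natM φ hC h8 h4
          exact ⟨φ, hφ, w, hw⟩
        · right; left
          rw [Module.finrank_fintype_fun_eq_card] at h4
          exact ⟨h9, h4, h2, φ, hφ, h5⟩
    · left
      obtain ⟨w, hw⟩ := exists_natM_odd φ hC h8 h2 hn
      exact ⟨φ, hφ, w, hw⟩
  · exact Or.inr (Or.inr h)

theorem Nat'.sd {e : Soc P ≃* alternatingGroup (Fin m)} (hC : Core P) (hm : 8 ≤ m) (h : Nat' P m e) : SD P := by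
  obtain ⟨φ, -, w, hw⟩ := h
  exact H964.AltMod.sd hC (by rwa [Fintype.card_fin]) hw

theorem Nat'.fr {e : Soc P ≃* alternatingGroup (Fin m)} (hC : Core P) (hm : 8 ≤ m) (h : Nat' P m e) (p : ℕ)
    [hp : Fact p.Prime] [CharP F p] : Fr P p := by
  obtain ⟨φ, -, w, hw⟩ := h
  exact H964.AltMod.fr hC (by rwa [Fintype.card_fin]) hw p

theorem Nine.sd_fr {e : Soc P ≃* alternatingGroup (Fin m)} (h : Nine P m e) (p : ℕ)
    [hp : Fact p.Prime] [CharP F p] : SD P ∧ Fr P p := by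
  obtain ⟨rfl, h8, h2, φ, -, hf⟩ := h
  have hp2 : p = 2 := (char_cases p).mp h2
  subst hp2
  have h8' : Module.finrank F (ι → F) = 8 := by rwa [Module.finrank_fintype_fun_eq_card]
  have hodd : ∀ g (hg : g ∈ P), ¬ 2 ∣ orderOf g → Odd (orderOf (φ ⟨g, hg⟩)) := by
    intro g hg h3
    rw [MulEquiv.orderOf_eq, Subgroup.orderOf_mk]
    rwa [← Nat.not_even_iff_odd, even_iff_two_dvd]
  constructor
  · apply SD.of_reg 2
    intro g hg h3
    have h4 := E9.trace_inv (ρ := rep φ) h2 hf h8' _ (hodd g hg h3)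
    rw [← map_inv, trace_rep, trace_rep] at h4
    exact h4
  · apply Fr.of_reg' 2
    intro g hg h3
    have h4 := E9.trace_sq (ρ := rep φ) _ (hodd g hg h3)
    rw [← map_pow, trace_rep, trace_rep] at h4
    have h5 := tr_pow_char 2 g 1
    rw [pow_one] at h5
    rw [← h5]
    exact h4

/-- **`SD P` and `Fr P p`** for all cores with simple quotient `A_m`, `m ≥ 8`, `n ≤ 12`, `(m, p) ≠ (8, 2)`. -/
theorem alt_sd_fr (hC : Core P) (p : ℕ) [hp : Fact p.Prime] [CharP F p]
    (e : Soc P ≃* alternatingGroup (Fin m)) (hm : 8 ≤ m) (hn : Fintype.card ι ≤ 12) (h82 : ¬ (m = 8 ∧ p = 2)) :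
    SD P ∧ Fr P p := by
  rcases alt_cases hC p e hm hn h82 with h | h | h
  · exact ⟨h.sd hC hm, h.fr hC hm p⟩
  · exact h.sd_fr p
  · exact ⟨h.2.2.2.1, h.2.2.2.2.1⟩

/-- the dimensions in the natural case -/
theorem Nat'.dim {e : Soc P ≃* alternatingGroup (Fin m)} (hC : Core P) (hm : 8 ≤ m) (h : Nat' P m e) (p : ℕ)
    [hp : Fact p.Prime] [CharP F p] : (¬ p ∣ m ∧ Fintype.card ι + 1 = m) ∨ (p ∣ m ∧ Fintype.card ι + 2 = m) := by
  obtain ⟨φ, -, w, hw⟩ := h
  have h1 := H964.AltMod.dim_cases hC (by rwa [Fintype.card_fin]) hw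
  rw [Fintype.card_fin, ne_eq, CharP.cast_eq_zero_iff F p m] at h1
  exact h1

end Cfsg.Agent.H614.AMod.Main
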