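import Cfsg.Agent.H614.AMod.Recog

/-!
# The natural module of `Alt α`

`natural` : see `Recog`.
-/

set_option autoImplicit false
set_option linter.unusedSectionVars false

namespace Cfsg.Agent.H614.AMod

open Equiv Equiv.Perm

variable {α : Type*} [Fintype α] [DecidableEq α]
variable {K V : Type*} [Field K] [AddCommGroup V] [Module K V] [FiniteDimensional K V]

/-- `(0 1)(5 6)` -/
def tau : alternatingGroup (Fin 8) := ⟨swap 0 1 * swap 5 6, by rw [mem_alternatingGroup]; decide⟩

theorem tau_apply_zero (q : Fin 8 ↪ α) : ((ex q tau : alternatingGroup α) : Perm α) (q 0) = q 1 := by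
  rw [ex_apply]; rfl
theorem tau_apply_one (q : Fin 8 ↪ α) : ((ex q tau : alternatingGroup α) : Perm α) (q 1) = q 0 := by
  rw [ex_apply]; rfl

section

variable {ρ : Representation K (alternatingGroup α) V}

/-- an element of `U(012) ⊓ U(013)` is fixed by the stabilizer of `0, 1` -/
theorem fixed_of_inter (hD : Indep ρ) (h8 : 8 ≤ Fintype.card α) (q : Fin 8 ↪ α) {f : V}
    (h2 : f ∈ U ρ (T q 0 1 2)) (h3 : f ∈ U ρ (T q 0 1 3)) (g : alternatingGroup α)
    (g0 : (g : Perm α) (q 0) = q 0) (g1 : (g : Perm α) (q 1) = q 1) : ρ g f = f := by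
  have hinj := q.injective
  have hfin : ∀ g : alternatingGroup α, g ∈ pst ρ (Submodule.span K {f}) ↔ ρ g f = f := by
    intro g
    rw [mem_pst]
    constructor
    · intro h
      exact h f (Submodule.mem_span_singleton_self f)
    · intro h w hw
      obtain ⟨c, rfl⟩ := Submodule.mem_span_singleton.mp hw
      rw [map_smul, h]
  rw [← hfin]
  apply mem_of_cyc (pst ρ (Submodule.span K {f})) {z | z ≠ q 0 ∧ z ≠ q 1} (x := q 5) (y := q 6)
    ⟨hinj.ne (by decide), hinj.ne (by decide)⟩ ⟨hinj.ne (by decide), hinj.ne (by decide)⟩ (hinj.ne (by decide))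
  · intro e' h0 h1 hz
    rw [hfin]
    have hfix : ∀ z, z ≠ q 5 → z ≠ q 6 → z ≠ e' 2 → ((ex e' c3 : alternatingGroup α) : Perm α) z = z := by
      intro z h5 h6 h7
      apply ex_of_notMem
      intro i
      fin_cases i
      · exact fun h => h5 (by rw [← h]; exact h0)
      · exact fun h => h6 (by rw [← h]; exact h1)
      · exact fun h => h7 h.symm
    by_cases z2 : e' 2 = q 2
    · refine hD.off h8 _ _ ?_ f h3
      intro i
      fin_cases i
      · exact hfix _ (hinj.ne (by decide)) (hinj.ne (by decide)) hz.1.symm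
      · exact hfix _ (hinj.ne (by decide)) (hinj.ne (by decide)) hz.2.symm
      · refine hfix (q 3) (hinj.ne (by decide)) (hinj.ne (by decide)) ?_
        rw [z2]
        exact hinj.ne (by decide)
    · refine hD.off h8 _ _ ?_ f h2
      intro i
      fin_cases i
      · exact hfix _ (hinj.ne (by decide)) (hinj.ne (by decide)) hz.1.symm
      · exact hfix _ (hinj.ne (by decide)) (hinj.ne (by decide)) hz.2.symm
      · exact hfix (q 2) (hinj.ne (by decide)) (hinj.ne (by decide)) fun h => z2 h.symm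
  · intro z hz
    simp only [Set.mem_setOf_eq, not_and_or, not_not] at hz
    rcases hz with rfl | rfl
    · exact g0
    · exact g1

/-- two points -/
def emb2 (x y : α) (hxy : x ≠ y) : Fin 2 ↪ α :=
  ⟨![x, y], by
    intro i j h
    fin_cases i <;> fin_cases j <;> simp_all [hxy.symm]⟩

theorem exists_g2 (h8 : 8 ≤ Fintype.card α) (q : Fin 8 ↪ α) (x y : α) (hxy : x ≠ y) :
    ∃ g : alternatingGroup α, (g : Perm α) (q 0) = x ∧ (g : Perm α) (q 1) = y := by
  obtain ⟨g, hg⟩ := exists_move (by omega) (emb2 (q 0) (q 1) (q.injective.ne (by decide))) (emb2 x y hxy)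
  exact ⟨g, hg 0, hg 1⟩

open Classical in
/-- the system of vectors -/
noncomputable def FF (ρ : Representation K (alternatingGroup α) V) (q : Fin 8 ↪ α) (f : V) (x y : α) : V :=
  if h : x = y then 0 else
    if h' : ∃ g : alternatingGroup α, (g : Perm α) (q 0) = x ∧ (g : Perm α) (q 1) = y then ρ h'.choose f else 0

theorem FF_self (q : Fin 8 ↪ α) (f : V) (x : α) : FF ρ q f x x = 0 := by
  unfold FF
  rw [dif_pos rfl]

/-- the hypotheses on `f` -/
structure Good (ρ : Representation K (alternatingGroup α) V) (q : Fin 8 ↪ α) (f : V) : Prop where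
  fix : ∀ g : alternatingGroup α, (g : Perm α) (q 0) = q 0 → (g : Perm α) (q 1) = q 1 → ρ g f = f
  sum : f + ρ (T q 0 1 2) f + ρ (T q 0 1 2 * T q 0 1 2) f = 0

theorem FF_eq (h8 : 8 ≤ Fintype.card α) {q : Fin 8 ↪ α} {f : V} (hf : Good ρ q f) (g : alternatingGroup α) :
    FF ρ q f ((g : Perm α) (q 0)) ((g : Perm α) (q 1)) = ρ g f := by
  unfold FF
  have hne : (g : Perm α) (q 0) ≠ (g : Perm α) (q 1) := (g : Perm α).injective.ne (q.injective.ne (by decide))
  have h' : ∃ g' : alternatingGroup α, (g' : Perm α) (q 0) = (g : Perm α) (q 0) ∧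
      (g' : Perm α) (q 1) = (g : Perm α) (q 1) := ⟨g, rfl, rfl⟩
  rw [dif_neg hne, dif_pos h']
  have h1 := h'.choose_spec
  set g' := h'.choose
  have h2 : ρ (g⁻¹ * g') f = f := by
    apply hf.fix
    · rw [Subgroup.coe_mul, Perm.mul_apply, h1.1, InvMemClass.coe_inv]
      exact (g : Perm α).symm_apply_apply _
    · rw [Subgroup.coe_mul, Perm.mul_apply, h1.2, InvMemClass.coe_inv]
      exact (g : Perm α).symm_apply_apply _
  rw [rho_mul] at h2
  have h3 := congrArg (ρ g) h2
  rwa [rho_self_inv] at h3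

theorem FF_smul (h8 : 8 ≤ Fintype.card α) {q : Fin 8 ↪ α} {f : V} (hf : Good ρ q f) (g : alternatingGroup α)
    (x y : α) : ρ g (FF ρ q f x y) = FF ρ q f ((g : Perm α) x) ((g : Perm α) y) := by
  by_cases hxy : x = y
  · rw [hxy, FF_self, FF_self, map_zero]
  · obtain ⟨h, h0, h1⟩ := exists_g2 h8 q x y hxy
    rw [← h0, ← h1, FF_eq h8 hf, ← rho_mul]
    have h2 := FF_eq h8 hf (g * h)
    rw [Subgroup.coe_mul, Perm.mul_apply, Perm.mul_apply] at h2
    exact h2.symm

theorem FF_base (h8 : 8 ≤ Fintype.card α) {q : Fin 8 ↪ α} {f : V} (hf : Good ρ q f) : FF ρ q f (q 0) (q 1) = f := by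
  have h := FF_eq h8 hf 1
  rwa [rho_one] at h

theorem FF_swap (h8 : 8 ≤ Fintype.card α) {q : Fin 8 ↪ α} {f : V} (hf : Good ρ q f) {c : K}
    (hc : ρ (ex q tau) f = c • f) {x y : α} (hxy : x ≠ y) : FF ρ q f y x = c • FF ρ q f x y := by
  obtain ⟨h, h0, h1⟩ := exists_g2 h8 q x y hxy
  have h2 := FF_smul h8 hf (h * ex q tau) (q 0) (q 1)
  rw [Subgroup.coe_mul, Perm.mul_apply, Perm.mul_apply, tau_apply_zero, tau_apply_one, h0, h1, FF_base h8 hf, rho_mul,
    hc, map_smul] at h2
  have h3 := FF_smul h8 hf h (q 0) (q 1)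
  rw [h0, h1, FF_base h8 hf] at h3
  rw [← h2, h3]

theorem FF_tri (h8 : 8 ≤ Fintype.card α) {q : Fin 8 ↪ α} {f : V} (hf : Good ρ q f) {x y z : α} (hxy : x ≠ y)
    (hyz : y ≠ z) (hxz : x ≠ z) : FF ρ q f x y + FF ρ q f y z + FF ρ q f z x = 0 := by
  obtain ⟨h, hh⟩ := exists_move (by omega) ((f3 0 1 2).trans q) (emb3 x y z hxy hyz hxz)
  have h0 : (h : Perm α) (q 0) = x := hh 0
  have h1 : (h : Perm α) (q 1) = y := hh 1
  have h2 : (h : Perm α) (q 2) = z := hh 2
  have e1 := FF_smul h8 hf h (q 0) (q 1)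
  have e2 := FF_smul h8 hf (h * T q 0 1 2) (q 0) (q 1)
  have e3 := FF_smul h8 hf (h * (T q 0 1 2 * T q 0 1 2)) (q 0) (q 1)
  rw [Subgroup.coe_mul, Subgroup.coe_mul, Perm.mul_apply, Perm.mul_apply, Perm.mul_apply, Perm.mul_apply,
    T_apply_fst, T_apply_snd, T_apply_thd, h2, h0] at e3
  rw [Subgroup.coe_mul, Perm.mul_apply, Perm.mul_apply, T_apply_fst, T_apply_snd, h1, h2] at e2
  rw [h0, h1] at e1
  rw [FF_base h8 hf] at e1 e2 e3
  rw [← e1, ← e2, ← e3, rho_mul, rho_mul ρ h (T q 0 1 2 * T q 0 1 2), ← map_add, ← map_add, hf.sum, map_zero]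

/-- In the symmetric case the vectors vanish unless `2 = 0`. -/
theorem eq_zero_of_symm (h8 : 8 ≤ Fintype.card α) (hirr : Irr ρ) {g₀ : alternatingGroup α} {v₀ : V}
    (hne : ρ g₀ v₀ ≠ v₀) (h2 : (2 : K) ≠ 0) {q : Fin 8 ↪ α} {f : V} (hf : Good ρ q f)
    (hc : ρ (ex q tau) f = f) : f = 0 := by
  have hc' : ρ (ex q tau) f = (1 : K) • f := by rw [one_smul]; exact hc
  have hsw : ∀ x y, x ≠ y → FF ρ q f y x = FF ρ q f x y := by
    intro x y hxy
    rw [FF_swap h8 hf hc' hxy, one_smul]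
  have hinj := q.injective
  have hdis : ∀ i j k l : Fin 8, i ≠ j → k ≠ l → i ≠ k → i ≠ l → j ≠ k → j ≠ l →
      FF ρ q f (q i) (q j) = FF ρ q f (q k) (q l) := by
    intro i j k l hij hkl hik hil hjk hjl
    have a1 := FF_tri h8 hf (hinj.ne hij) (hinj.ne hjk) (hinj.ne hik)
    have a2 := FF_tri h8 hf (hinj.ne hij) (hinj.ne hjl) (hinj.ne hil)
    have a3 := FF_tri h8 hf (hinj.ne hik) (hinj.ne hkl) (hinj.ne hil)
    have a4 := FF_tri h8 hf (hinj.ne hjk) (hinj.ne hkl) (hinj.ne hjl)
    rw [hsw _ _ (hinj.ne hik)] at a1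
    rw [hsw _ _ (hinj.ne hil)] at a2 a3
    rw [hsw _ _ (hinj.ne hjl)] at a4
    have h5 : (2 : K) • (FF ρ q f (q i) (q j) - FF ρ q f (q k) (q l)) = 0 := by
      have h6 : (2 : K) • (FF ρ q f (q i) (q j) - FF ρ q f (q k) (q l)) =
          (FF ρ q f (q i) (q j) + FF ρ q f (q j) (q k) + FF ρ q f (q i) (q k)) +
          (FF ρ q f (q i) (q j) + FF ρ q f (q j) (q l) + FF ρ q f (q i) (q l)) -
          (FF ρ q f (q i) (q k) + FF ρ q f (q k) (q l) + FF ρ q f (q i) (q l)) -
          (FF ρ q f (q j) (q k) + FF ρ q f (q k) (q l) + FF ρ q f (q j) (q l)) := by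
        rw [two_smul]; abel
      rw [h6, a1, a2, a3, a4]; simp
    rcases smul_eq_zero.mp h5 with h | h
    · exact absurd h h2
    · exact sub_eq_zero.mp h
  -- f is fixed by every 3-cycle
  have h01 : FF ρ q f (q 0) (q 1) = FF ρ q f (q 0) (q 2) := by
    rw [hdis 0 1 3 4 (by decide) (by decide) (by decide) (by decide) (by decide) (by decide),
      hdis 3 4 0 2 (by decide) (by decide) (by decide) (by decide) (by decide) (by decide)]
  have h12 : FF ρ q f (q 1) (q 2) = FF ρ q f (q 0) (q 1) := by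
    rw [hdis 1 2 3 4 (by decide) (by decide) (by decide) (by decide) (by decide) (by decide),
      hdis 3 4 0 1 (by decide) (by decide) (by decide) (by decide) (by decide) (by decide)]
  have hT : ρ (T q 0 1 2) f = f := by
    have h := FF_smul h8 hf (T q 0 1 2) (q 0) (q 1)
    rw [T_apply_fst, T_apply_snd, h12, FF_base h8 hf] at h
    exact h
  have hfix : ∀ g : alternatingGroup α, ρ g f = f := by
    intro g
    have h3 : g ∈ pst ρ (Submodule.span K {f}) := by
      have hfin : ∀ g : alternatingGroup α, g ∈ pst ρ (Submodule.span K {f}) ↔ ρ g f = f := by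
        intro g
        rw [mem_pst]
        constructor
        · intro h
          exact h f (Submodule.mem_span_singleton_self f)
        · intro h w hw
          obtain ⟨c, rfl⟩ := Submodule.mem_span_singleton.mp hw
          rw [map_smul, h]
      apply mem_of_cyc (pst ρ (Submodule.span K {f})) Set.univ (x := q 0) (y := q 1) trivial trivial
        (hinj.ne (by decide))
      · intro e' h0 h1 _
        rw [hfin]
        by_cases hz : e' 2 = q 2
        · have : ex e' c3 = T q 0 1 2 := by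
            apply Subtype.ext
            rw [coe_c3, coe_T, h0, h1, hz]
          rw [this, hT]
        · -- conjugate by an element fixing q 0, q 1
          obtain ⟨g, hg⟩ := exists_move (by omega) ((f3 0 1 2).trans q) e'
          have hg0 : (g : Perm α) (q 0) = q 0 := (hg 0).trans h0
          have hg1 : (g : Perm α) (q 1) = q 1 := (hg 1).trans h1
          rw [← ex_conj _ e' c3 g hg, rho_mul, rho_mul]
          have h4 : ρ g⁻¹ f = f := by
            have h5 := hf.fix g hg0 hg1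
            have h6 := rho_inv_self ρ g f
            rwa [h5] at h6
          rw [h4]
          have h5 : ρ (ex ((f3 0 1 2).trans q) c3) f = f := hT
          rw [h5, hf.fix g hg0 hg1]
      · intro z hz
        exact absurd trivial hz
    exact h3 f (Submodule.mem_span_singleton_self f)
  have h5 : f ∈ fixV ρ := hfix
  rw [fixV_eq_bot ρ hirr hne] at h5
  exact h5

theorem good_of_inter (hD : Indep ρ) (h8 : 8 ≤ Fintype.card α) (q : Fin 8 ↪ α) {f : V}
    (h2 : f ∈ U ρ (T q 0 1 2)) (h3 : f ∈ U ρ (T q 0 1 3)) : Good ρ q f := by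
  refine ⟨fixed_of_inter hD h8 q h2 h3, ?_⟩
  obtain ⟨u, rfl⟩ := (mem_U ρ).mp h2
  have h1 : T q 0 1 2 * (T q 0 1 2 * T q 0 1 2) = 1 := by
    unfold T
    rw [← map_mul, ← map_mul]
    have : c3 * (c3 * c3) = 1 := by decide
    rw [this, map_one]
  have h4 : ρ (T q 0 1 2) (ρ (T q 0 1 2 * T q 0 1 2) u) = u := by rw [← rho_mul, h1, rho_one]
  have h5 : ρ (T q 0 1 2 * T q 0 1 2) (ρ (T q 0 1 2) u) = u := by rw [← rho_mul, mul_assoc, h1, rho_one]
  rw [map_sub, map_sub, h5, ← rho_mul ρ (T q 0 1 2) (T q 0 1 2) u]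
  abel

theorem tau_mem (q : Fin 8 ↪ α) {f : V} (h2 : f ∈ U ρ (T q 0 1 2)) (h3 : f ∈ U ρ (T q 0 1 3)) :
    ρ (ex q tau) f ∈ U ρ (T q 0 1 2) ∧ ρ (ex q tau) f ∈ U ρ (T q 0 1 3) := by
  have key : ∀ (k : Fin 8) (h : (0 : Fin 8) ≠ 1 ∧ (1 : Fin 8) ≠ k ∧ (0 : Fin 8) ≠ k), k ≠ 5 → k ≠ 6 → 
      f ∈ U ρ (T q 0 1 k h) → ρ (ex q tau) f ∈ U ρ (T q 0 1 k h) := by
    intro k h h5 h6 hf
    have h1 := mem_U_conj ρ (h := ex q tau) hf
    have h4 : ex q tau * T q 0 1 k h * (ex q tau)⁻¹ = (T q 0 1 k h)⁻¹ := by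
      apply Subtype.ext
      rw [Subgroup.coe_mul, Subgroup.coe_mul, InvMemClass.coe_inv, InvMemClass.coe_inv, coe_T, mul_inv_rev, swap_inv,
        swap_inv]
      have hk : ((ex q tau : alternatingGroup α) : Perm α) (q k) = q k := by
        rw [ex_apply]
        show q ((swap 0 1 * swap 5 6 : Perm (Fin 8)) k) = q k
        rw [Perm.mul_apply, swap_apply_of_ne_of_ne h5 h6, swap_apply_of_ne_of_ne h.2.2.symm h.2.1.symm]
      have e1 := Equiv.swap_apply_apply ((ex q tau : alternatingGroup α) : Perm α) (q 0) (q 1)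
      have e2 := Equiv.swap_apply_apply ((ex q tau : alternatingGroup α) : Perm α) (q 1) (q k)
      rw [tau_apply_zero, tau_apply_one] at e1
      rw [tau_apply_one, hk] at e2
      rw [show ((ex q tau : alternatingGroup α) : Perm α) * (swap (q 0) (q 1) * swap (q 1) (q k)) *
          ((ex q tau : alternatingGroup α) : Perm α)⁻¹ =
          (((ex q tau : alternatingGroup α) : Perm α) * swap (q 0) (q 1) * ((ex q tau : alternatingGroup α) : Perm α)⁻¹) *
          (((ex q tau : alternatingGroup α) : Perm α) * swap (q 1) (q k) * ((ex q tau : alternatingGroup α) : Perm α)⁻¹)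
          by group, ← e1, ← e2]
      -- (1 0)(0 k) = (1 k)(0 1)
      have e3 := Equiv.swap_apply_apply (swap (q 0) (q 1)) (q 0) (q k)
      rw [swap_apply_left, swap_apply_of_ne_of_ne (q.injective.ne h.2.2.symm) (q.injective.ne h.2.1.symm), swap_inv]
        at e3
      rw [e3, mul_assoc, mul_assoc, swap_mul_self, mul_one, swap_comm (q 1) (q 0)]
    rw [h4, U_inv] at h1
    exact h1
  exact ⟨key 2 (by decide) (by decide) (by decide) h2, key 3 (by decide) (by decide) (by decide) h3⟩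

/-- **Recognition of the natural module.** -/
theorem natural (hD : Indep ρ) (h8 : 8 ≤ Fintype.card α) (hirr : Irr ρ) {g₀ : alternatingGroup α} {v₀ : V}
    (hne : ρ g₀ v₀ ≠ v₀) :
    ∃ F : α → α → V, (∀ i j, F j i = -F i j) ∧ (∀ i j k, F i j + F j k = F i k) ∧
      (∀ (g : alternatingGroup α) i j, ρ g (F i j) = F ((g : Perm α) i) ((g : Perm α) j)) ∧
      Submodule.span K (Set.range fun p : α × α => F p.1 p.2) = ⊤ ∧ ∃ i j, F i j ≠ 0 := by
  obtain ⟨q⟩ := exists_emb h8
  -- a suitable vector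
  obtain ⟨f, hf0, hf, hft⟩ : ∃ f : V, f ≠ 0 ∧ Good ρ q f ∧ ρ (ex q tau) f = (-1 : K) • f := by
    have h1 := inter_ne_bot hD h8 hirr hne ((⟨![0, 1, 2, 3], by decide⟩ : Fin 4 ↪ Fin 8).trans q)
    obtain ⟨f, hf, hf0⟩ := (Submodule.ne_bot_iff _).mp h1
    have e2 : t012.trans ((⟨![0, 1, 2, 3], by decide⟩ : Fin 4 ↪ Fin 8).trans q) = (f3 0 1 2).trans q := by
      ext s; fin_cases s <;> rfl
    have e3 : t013.trans ((⟨![0, 1, 2, 3], by decide⟩ : Fin 4 ↪ Fin 8).trans q) = (f3 0 1 3).trans q := by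
      ext s; fin_cases s <;> rfl
    rw [e2, e3] at hf
    obtain ⟨f2, f3'⟩ := Submodule.mem_inf.mp hf
    obtain ⟨g2, g3⟩ := tau_mem (ρ := ρ) q f2 f3'
    have htt : ρ (ex q tau) (ρ (ex q tau) f) = f := by
      rw [← rho_mul, ← map_mul]
      have : tau * tau = 1 := by decide
      rw [this, map_one, rho_one]
    by_cases hz : f + ρ (ex q tau) f = 0
    · refine ⟨f, hf0, good_of_inter hD h8 q f2 f3', ?_⟩
      rw [neg_one_smul]
      exact eq_neg_of_add_eq_zero_right hz
    · have hg : Good ρ q (f + ρ (ex q tau) f) :=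
        good_of_inter hD h8 q (Submodule.add_mem _ f2 g2) (Submodule.add_mem _ f3' g3)
      have ht : ρ (ex q tau) (f + ρ (ex q tau) f) = f + ρ (ex q tau) f := by
        rw [map_add, htt, add_comm]
      by_cases h2 : (2 : K) = 0
      · refine ⟨_, hz, hg, ?_⟩
        rw [ht]
        have : (-1 : K) = 1 := by
          have h3 : (1 : K) + 1 = 0 := by rw [one_add_one_eq_two]; exact h2
          exact neg_eq_of_add_eq_zero_left h3
        rw [this, one_smul]
      · exact absurd (eq_zero_of_symm h8 hirr hne h2 hg ht) hz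
  have hsw : ∀ x y, FF ρ q f y x = -FF ρ q f x y := by
    intro x y
    by_cases hxy : x = y
    · rw [hxy, FF_self, neg_zero]
    · rw [FF_swap h8 hf hft hxy, neg_one_smul]
  refine ⟨FF ρ q f, hsw, ?_, FF_smul h8 hf, ?_, ?_⟩
  · intro x y z
    by_cases hxy : x = y
    · rw [hxy, FF_self, zero_add]
    by_cases hyz : y = z
    · rw [hyz, FF_self, add_zero]
    by_cases hxz : x = z
    · rw [hxz, FF_self, hsw z y, add_neg_cancel]
    · have h := FF_tri h8 hf hxy hyz hxz
      rw [hsw x z] at h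
      rwa [add_neg_eq_zero] at h
  · rcases hirr (Submodule.span K (Set.range fun p : α × α => FF ρ q f p.1 p.2)) (by
      intro g w hw
      induction hw using Submodule.span_induction with
      | mem x hx =>
        obtain ⟨p, rfl⟩ := hx
        rw [FF_smul h8 hf]
        exact Submodule.subset_span ⟨((g : Perm α) p.1, (g : Perm α) p.2), rfl⟩
      | zero => rw [map_zero]; exact Submodule.zero_mem _
      | add x y _ _ hx hy => rw [map_add]; exact Submodule.add_mem _ hx hy
      | smul c x _ hx => rw [map_smul]; exact Submodule.smul_mem _ c hx) with h | h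
    · exfalso
      have h1 : FF ρ q f (q 0) (q 1) ∈ Submodule.span K (Set.range fun p : α × α => FF ρ q f p.1 p.2) :=
        Submodule.subset_span ⟨(q 0, q 1), rfl⟩
      rw [h, Submodule.mem_bot, FF_base h8 hf] at h1
      exact hf0 h1
    · exact h
  · exact ⟨q 0, q 1, by rw [FF_base h8 hf]; exact hf0⟩

end

end Cfsg.Agent.H614.AMod
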