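import Cfsg.Agent.H614.AMod.Bc

/-!
# Representations of `Alt α`, `|α| ≥ 10`, of degree at most 15, characteristic not 5

`indep_ten` : disjoint 3-cycles act independently.
-/

set_option autoImplicit false
set_option linter.unusedSectionVars false

namespace Cfsg.Agent.H614.AMod

open Equiv Equiv.Perm

namespace E10

abbrev A10 := alternatingGroup (Fin 10)

/-- `(0 1 2 3 4)` -/
def y : A10 := ⟨swap 0 1 * swap 1 2 * swap 2 3 * swap 3 4, by rw [mem_alternatingGroup]; decide⟩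
/-- `(5 6 7 8 9)` -/
def y' : A10 := ⟨swap 5 6 * swap 6 7 * swap 7 8 * swap 8 9, by rw [mem_alternatingGroup]; decide⟩
/-- `(1 4)(2 3)` -/
def s : A10 := ⟨swap 1 4 * swap 2 3, by rw [mem_alternatingGroup]; decide⟩
/-- `x ↦ x + 5`, `x + 5 ↦ 2x` -/
def t : A10 := ⟨⟨![5, 6, 7, 8, 9, 0, 2, 4, 1, 3], ![5, 8, 6, 9, 7, 0, 1, 2, 3, 4], by decide, by decide⟩, by
  rw [mem_alternatingGroup]; decide⟩

theorem yy' : y * y' = y' * y := by decide
theorem y5 : y ^ 5 = 1 := by decide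
theorem y'5 : y' ^ 5 = 1 := by decide
theorem sy : s * y = y⁻¹ * s := by decide
theorem sy' : s * y' = y' * s := by decide
theorem ty : t * y = y' * t := by decide
theorem ty' : t * y' = y ^ 2 * t := by decide

variable {K V : Type*} [Field K] [AddCommGroup V] [Module K V] [FiniteDimensional K V] (ρ : Representation K A10 V)

/-- the weight `(i, j)` occurs -/
def N (ζ : K) (i j : ℕ) : Prop := ∃ v : V, v ≠ 0 ∧ v ∈ eg ρ y (ζ ^ i) ∧ v ∈ eg ρ y' (ζ ^ j)

variable {ρ}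

theorem rho_ne_zero {G : Type*} [Group G] {ρ : Representation K G V} (g : G) {v : V} (hv : v ≠ 0) : ρ g v ≠ 0 := by
  intro h
  apply hv
  rw [← rho_inv_self ρ g v, h, map_zero]

theorem zpow_mod {ζ : K} (hζ : ζ ^ 5 = 1) (i : ℕ) : ζ ^ (i % 5) = ζ ^ i := by
  conv_rhs => rw [← Nat.mod_add_div i 5, pow_add, pow_mul, hζ, one_pow, mul_one]

theorem N_mod {ζ : K} (hζ : ζ ^ 5 = 1) {i j : ℕ} : N ρ ζ (i % 5) (j % 5) ↔ N ρ ζ i j := by
  unfold N
  rw [zpow_mod hζ, zpow_mod hζ]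

theorem yi4 : y⁻¹ ^ 4 = y := by
  rw [inv_pow, inv_eq_iff_mul_eq_one, ← pow_succ]
  exact y5
theorem y23 : (y ^ 2) ^ 3 = y := by
  rw [← pow_mul, show 2 * 3 = 5 + 1 from rfl, pow_succ, y5, one_mul]

theorem N_s {ζ : K} {i j : ℕ} (h : N ρ ζ i j) : N ρ ζ (4 * i) j := by
  obtain ⟨v, h0, h1, h2⟩ := h
  have h3 := eg_move ρ sy h1
  refine ⟨ρ s v, rho_ne_zero s h0, ?_, eg_move ρ sy' h2⟩
  have h4 := pow_eg ρ h3 4
  rw [yi4, ← pow_mul, mul_comm i 4] at h4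
  exact h4

theorem N_t {ζ : K} {i j : ℕ} (h : N ρ ζ i j) : N ρ ζ (3 * j) i := by
  obtain ⟨v, h0, h1, h2⟩ := h
  have h3 := eg_move ρ ty' h2
  refine ⟨ρ t v, rho_ne_zero t h0, ?_, eg_move ρ ty h1⟩
  have h4 := pow_eg ρ h3 3
  rw [y23, ← pow_mul, mul_comm j 3] at h4
  exact h4

/-- the group of moves on the weights -/
def mv (a b : ℕ) (p : ℕ × ℕ) : ℕ × ℕ :=
  (fun p : ℕ × ℕ => ((4 * p.1) % 5, p.2 % 5))^[a] ((fun p : ℕ × ℕ => ((3 * p.2) % 5, p.1 % 5))^[b] p)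

theorem N_mv {ζ : K} (hζ : ζ ^ 5 = 1) {p : ℕ × ℕ} (h : N ρ ζ p.1 p.2) (a b : ℕ) :
    N ρ ζ (mv a b p).1 (mv a b p).2 := by
  unfold mv
  have hb : ∀ b : ℕ, N ρ ζ ((fun p : ℕ × ℕ => ((3 * p.2) % 5, p.1 % 5))^[b] p).1
      ((fun p : ℕ × ℕ => ((3 * p.2) % 5, p.1 % 5))^[b] p).2 := by
    intro b
    induction b with
    | zero => exact h
    | succ b ih =>
      rw [Function.iterate_succ_apply']
      exact (N_mod hζ).mpr (N_t ih)
  induction a with
  | zero => exact hb b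
  | succ a ih =>
    rw [Function.iterate_succ_apply']
    exact (N_mod hζ).mpr (N_s ih)

theorem reach : ∀ i j i' j' : Fin 4, ∃ a : Fin 2, ∃ b : Fin 8,
    mv a b ((i : ℕ) + 1, (j : ℕ) + 1) = ((i' : ℕ) + 1, (j' : ℕ) + 1) := by
  decide +kernel

theorem N_all {ζ : K} (hζ : ζ ^ 5 = 1) {i j : Fin 4} (h : N ρ ζ ((i : ℕ) + 1) ((j : ℕ) + 1)) (i' j' : Fin 4) :
    N ρ ζ ((i' : ℕ) + 1) ((j' : ℕ) + 1) := by
  obtain ⟨a, b, hab⟩ := reach i j i' j'
  have h1 := N_mv (p := ((i : ℕ) + 1, (j : ℕ) + 1)) hζ h a b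
  rwa [hab] at h1

theorem inf_eq_bot [IsAlgClosed K] (h5 : (5 : K) ≠ 0) (hle : Module.finrank K V ≤ 15) :
    U ρ y ⊓ U ρ y' = ⊥ := by
  by_contra hne
  haveI : NeZero ((5 : ℕ) : K) := ⟨by exact_mod_cast h5⟩
  obtain ⟨ζ, hζ⟩ := HasEnoughRootsOfUnity.exists_primitiveRoot K 5
  have hζ5 : ζ ^ 5 = 1 := hζ.pow_eq_one
  have h5' : ((5 : ℕ) : K) ≠ 0 := by exact_mod_cast h5
  -- a common eigenvector
  obtain ⟨c, hc⟩ := exists_eig ρ (((inv_U ρ (g := y) (h := y) rfl).inf ρ (inv_U ρ yy'.symm))) hne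
  have hin : Inv ρ (U ρ y ⊓ U ρ y' ⊓ eg ρ y c) y' :=
    ((inv_U ρ yy').inf ρ (inv_U ρ (g := y') (h := y') rfl)).inf ρ (inv_eg ρ yy' c)
  obtain ⟨d, hd⟩ := exists_eig ρ hin hc
  obtain ⟨v, hv, hv0⟩ := (Submodule.ne_bot_iff _).mp hd
  obtain ⟨⟨⟨hvy, hvy'⟩, hvc⟩, hvd⟩ := hv
  have hc5 := eig_pow ρ hvc hv0 y5
  have hd5 := eig_pow ρ hvd hv0 y'5
  obtain ⟨i, hi, hic⟩ := hζ.eq_pow_of_pow_eq_one hc5
  obtain ⟨j, hj, hjd⟩ := hζ.eq_pow_of_pow_eq_one hd5
  have hi0 : i ≠ 0 := by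
    rintro rfl
    rw [pow_zero] at hic
    rw [← hic] at hvc
    have h1 : v ∈ U ρ y ⊓ eg ρ y 1 := ⟨hvy, hvc⟩
    rw [U_inf_fix ρ y5 h5'] at h1
    exact hv0 h1
  have hj0 : j ≠ 0 := by
    rintro rfl
    rw [pow_zero] at hjd
    rw [← hjd] at hvd
    have h1 : v ∈ U ρ y' ⊓ eg ρ y' 1 := ⟨hvy', hvd⟩
    rw [U_inf_fix ρ y'5 h5'] at h1
    exact hv0 h1
  have hN : N ρ ζ (((⟨i - 1, by omega⟩ : Fin 4) : ℕ) + 1) (((⟨j - 1, by omega⟩ : Fin 4) : ℕ) + 1) := by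
    refine ⟨v, hv0, ?_, ?_⟩
    · show v ∈ eg ρ y (ζ ^ (i - 1 + 1))
      rw [Nat.sub_add_cancel (by omega), hic]
      exact hvc
    · show v ∈ eg ρ y' (ζ ^ (j - 1 + 1))
      rw [Nat.sub_add_cancel (by omega), hjd]
      exact hvd
  have hall := N_all hζ5 hN
  choose w hw using fun p : Fin 4 × Fin 4 => hall p.1 p.2
  have hinj : Function.Injective (fun (p : Fin 4 × Fin 4) (b : Bool) =>
      if b then ζ ^ ((p.1 : ℕ) + 1) else ζ ^ ((p.2 : ℕ) + 1)) := by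
    intro p q hpq
    have h1 := congrFun hpq true
    have h2 := congrFun hpq false
    simp only [if_true, Bool.false_eq_true, if_false] at h1 h2
    have h3 := hζ.pow_inj (by omega) (by omega) h1
    have h4 := hζ.pow_inj (by omega) (by omega) h2
    exact Prod.ext (Fin.ext (by omega)) (Fin.ext (by omega))
  have hcard := card_le_of_weights (fun b : Bool => if b then ρ y else ρ y') (by
    intro a b
    have h1 : Commute (ρ y) (ρ y') := rho_comm ρ yy'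
    cases a <;> cases b <;> simp [h1, h1.symm]) ⊤ _ hinj w (fun p => (hw p).1) (fun p => Submodule.mem_top) (by
    intro p b
    cases b
    · exact (hw p).2.2
    · exact (hw p).2.1)
  rw [Fintype.card_prod, Fintype.card_fin, finrank_top] at hcard
  omega

theorem y'_pst_closed [IsAlgClosed K] (h5 : (5 : K) ≠ 0) (hle : Module.finrank K V ≤ 15) :
    y' ∈ pst ρ (U ρ y) := by
  intro w hw
  have h1 : ρ y' w - w ∈ U ρ y ⊓ U ρ y' := ⟨Submodule.sub_mem _ (inv_U ρ yy' w hw) hw, sub_mem_U ρ y' w⟩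
  rw [inf_eq_bot h5 hle] at h1
  exact sub_eq_zero.mp h1

theorem y'_pst (h5 : (5 : K) ≠ 0) (hle : Module.finrank K V ≤ 15) :
    y' ∈ pst ρ (U ρ y) := by
  apply pst_of_bc
  apply y'_pst_closed
  · have h1 : algebraMap K (AlgebraicClosure K) 5 = 5 := map_ofNat _ 5
    rw [← h1]
    intro h
    apply h5
    have h2 := (algebraMap K (AlgebraicClosure K)).injective (h.trans (map_zero _).symm)
    exact h2
  · rw [finrank_bc]
    exact hle

/-- conjugating elements -/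
def h1 : A10 := ⟨swap 1 2 * swap 2 3, by rw [mem_alternatingGroup]; decide⟩
def h2 : A10 := ⟨swap 1 3 * swap 3 4, by rw [mem_alternatingGroup]; decide⟩
def h1' : A10 := ⟨swap 6 7 * swap 7 8, by rw [mem_alternatingGroup]; decide⟩
def h2' : A10 := ⟨swap 6 8 * swap 8 9, by rw [mem_alternatingGroup]; decide⟩
/-- `(0 1 2)` and `(5 6 7)` -/
def g1 : A10 := ⟨swap 0 1 * swap 1 2, by rw [mem_alternatingGroup]; decide⟩
def g2 : A10 := ⟨swap 5 6 * swap 6 7, by rw [mem_alternatingGroup]; decide⟩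

theorem g1_eq : g1 = (h1 * y * h1⁻¹) * (h2 * y * h2⁻¹) := by decide
theorem g2_eq : g2 = (h1' * y' * h1'⁻¹) * (h2' * y' * h2'⁻¹) := by decide
theorem e11 : (h1 * h1') * y * (h1 * h1')⁻¹ = h1 * y * h1⁻¹ := by decide
theorem e12 : (h1 * h2') * y * (h1 * h2')⁻¹ = h1 * y * h1⁻¹ := by decide
theorem e21 : (h2 * h1') * y * (h2 * h1')⁻¹ = h2 * y * h2⁻¹ := by decide
theorem e22 : (h2 * h2') * y * (h2 * h2')⁻¹ = h2 * y * h2⁻¹ := by decide
theorem e11' : (h1 * h1') * y' * (h1 * h1')⁻¹ = h1' * y' * h1'⁻¹ := by decide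
theorem e12' : (h1 * h2') * y' * (h1 * h2')⁻¹ = h2' * y' * h2'⁻¹ := by decide
theorem e21' : (h2 * h1') * y' * (h2 * h1')⁻¹ = h1' * y' * h1'⁻¹ := by decide
theorem e22' : (h2 * h2') * y' * (h2 * h2')⁻¹ = h2' * y' * h2'⁻¹ := by decide

theorem g2_pst (h5 : (5 : K) ≠ 0) (hle : Module.finrank K V ≤ 15) : g2 ∈ pst ρ (U ρ g1) := by
  have key := fun h : A10 => pst_conj ρ (h := h) (y'_pst (ρ := ρ) h5 hle)
  have k11 := key (h1 * h1')
  have k12 := key (h1 * h2')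
  have k21 := key (h2 * h1')
  have k22 := key (h2 * h2')
  rw [e11, e11'] at k11
  rw [e12, e12'] at k12
  rw [e21, e21'] at k21
  rw [e22, e22'] at k22
  have k1 := mem_pst_sup ρ k11 k21
  have k2 := mem_pst_sup ρ k12 k22
  have k3 := Subgroup.mul_mem _ k1 k2
  rw [← g2_eq] at k3
  rw [g1_eq]
  exact pst_anti ρ (U_mul_le ρ _ _) k3

end E10

open E10

variable {α : Type*} [Fintype α] [DecidableEq α]
variable {K V : Type*} [Field K] [AddCommGroup V] [Module K V] [FiniteDimensional K V]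
  {ρ : Representation K (alternatingGroup α) V}

theorem exists_ext {k l : ℕ} (hkl : k ≤ l) (hl : l ≤ Fintype.card α) (e : Fin k ↪ α) :
    ∃ q : Fin l ↪ α, ∀ i : Fin k, q (Fin.castLE hkl i) = e i := by
  induction l, hkl using Nat.le_induction with
  | base => exact ⟨e, fun i => rfl⟩
  | succ l hkl ih =>
    obtain ⟨q, hq⟩ := ih (by omega)
    obtain ⟨x, hx⟩ : ∃ x, x ∉ Finset.univ.map q := by
      by_contra hne
      push Not at hne
      have h1 : (Finset.univ : Finset α) ⊆ Finset.univ.map q := fun x _ => hne x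
      have h2 := Finset.card_le_card h1
      rw [Finset.card_map, Finset.card_univ, Finset.card_univ, Fintype.card_fin] at h2
      omega
    refine ⟨⟨Fin.snoc q x, ?_⟩, fun i => ?_⟩
    · rw [Fin.snoc_injective_iff]
      refine ⟨q.injective, ?_⟩
      rintro ⟨i, hi⟩
      exact hx (Finset.mem_map.mpr ⟨i, Finset.mem_univ _, hi⟩)
    · rw [← hq i]
      exact Fin.snoc_castSucc (α := fun _ => α) x q (Fin.castLE hkl i)

/-- the restriction to `Alt (Fin 10)` -/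
def res10 (ρ : Representation K (alternatingGroup α) V) (q : Fin 10 ↪ α) : Representation K A10 V :=
  MonoidHom.comp ρ (ex q)

theorem g2_pst' (h5 : (5 : K) ≠ 0) (hle : Module.finrank K V ≤ 15) (q : Fin 10 ↪ α) :
    ex q g2 ∈ pst ρ (U ρ (ex q g1)) := by
  intro w hw
  exact g2_pst (ρ := res10 ρ q) h5 hle w hw

/-- rearrangement of ten points -/
def r10 : Fin 10 ↪ Fin 10 := ⟨![0, 1, 2, 6, 7, 3, 4, 5, 8, 9], by decide⟩

theorem exP_swap {k : ℕ} (e : Fin k ↪ α) (i j : Fin k) : exP e (swap i j) = swap (e i) (e j) := by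
  apply Equiv.ext
  intro x
  by_cases hx : ∃ a, e a = x
  · obtain ⟨a, rfl⟩ := hx
    rw [exP_apply]
    by_cases h1 : a = i
    · rw [h1, swap_apply_left, swap_apply_left]
    by_cases h2 : a = j
    · rw [h2, swap_apply_right, swap_apply_right]
    rw [swap_apply_of_ne_of_ne h1 h2, swap_apply_of_ne_of_ne (e.injective.ne h1) (e.injective.ne h2)]
  · rw [not_exists] at hx
    rw [exP_of_notMem e _ hx, swap_apply_of_ne_of_ne (fun h => hx i h.symm) (fun h => hx j h.symm)]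

/-- **Characteristic not 5, degree at least 10.** -/
theorem indep_ten (h10 : 10 ≤ Fintype.card α) (h5 : (5 : K) ≠ 0) (hle : Module.finrank K V ≤ 15) : Indep ρ := by
  intro e
  obtain ⟨q, hq⟩ := exists_ext (l := 10) (by omega) h10 e
  have e1 : ex e d1 = ex (r10.trans q) g1 := by
    apply Subtype.ext
    rw [ex_swap2 e 0 1 1 2 d1 rfl, ex_swap2 (r10.trans q) 0 1 1 2 g1 rfl]
    show _ = swap (q 0) (q 1) * swap (q 1) (q 2)
    rw [show q 0 = e 0 from hq 0, show q 1 = e 1 from hq 1, show q 2 = e 2 from hq 2]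
  have e2 : ex e d2 = ex (r10.trans q) g2 := by
    apply Subtype.ext
    rw [ex_swap2 e 3 4 4 5 d2 rfl, ex_swap2 (r10.trans q) 5 6 6 7 g2 rfl]
    show _ = swap (q 3) (q 4) * swap (q 4) (q 5)
    rw [show q 3 = e 3 from hq 3, show q 4 = e 4 from hq 4, show q 5 = e 5 from hq 5]
  rw [e1, e2]
  exact g2_pst' h5 hle _

end Cfsg.Agent.H614.AMod
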