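import Cfsg.Agent.H614.AMod.Odd

/-!
# Weights over an algebraically closed field, and base change

* `linInd_of_weights` : vectors of different weights are linearly independent;
* `exists_eig` : an eigenvector in an invariant subspace;
* `bc ρ` : extension of scalars; `indep_of_bc` : `Indep` descends.
-/

set_option autoImplicit false
set_option linter.unusedSectionVars false

namespace Cfsg.Agent.H614.AMod

open Equiv Equiv.Perm

section weights

variable {K V : Type*} [Field K] [AddCommGroup V] [Module K V]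

theorem linInd_of_weights {ι J : Type*} (f : ι → Module.End K V) (hcomm : ∀ i j, Commute (f i) (f j))
    (χ : J → ι → K) (hχ : Function.Injective χ) (v : J → V) (hv : ∀ j, v j ≠ 0) (hw : ∀ j i, f i (v j) = χ j i • v j) :
    LinearIndependent K v := by
  have h := Module.End.independent_iInf_maxGenEigenspace_of_forall_mapsTo f
    (fun i j φ => Module.End.mapsTo_maxGenEigenspace_of_comm (hcomm j i) φ)
  refine iSupIndep.linearIndependent _ (h.comp hχ) (fun j => ?_) hv
  rw [Function.comp_apply, Submodule.mem_iInf]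
  intro i
  rw [Module.End.mem_maxGenEigenspace]
  refine ⟨1, ?_⟩
  rw [pow_one, LinearMap.sub_apply, hw]
  simp

theorem card_le_of_weights [FiniteDimensional K V] {ι J : Type*} [Fintype J] (f : ι → Module.End K V)
    (hcomm : ∀ i j, Commute (f i) (f j)) (W : Submodule K V)
    (χ : J → ι → K) (hχ : Function.Injective χ) (v : J → V) (hv : ∀ j, v j ≠ 0) (hvW : ∀ j, v j ∈ W)
    (hw : ∀ j i, f i (v j) = χ j i • v j) :
    Fintype.card J ≤ Module.finrank K W := by
  have h := linInd_of_weights f hcomm χ hχ v hv hw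
  have h' : LinearIndependent K (fun j => (⟨v j, hvW j⟩ : W)) := by
    apply LinearIndependent.of_comp W.subtype
    exact h
  exact h'.fintype_card_le_finrank

variable {G : Type*} [Group G] (ρ : Representation K G V)

theorem exists_eig [FiniteDimensional K V] [IsAlgClosed K] {W : Submodule K V} {g : G} (hW : Inv ρ W g) (h0 : W ≠ ⊥) :
    ∃ c, W ⊓ eg ρ g c ≠ ⊥ := by
  haveI : Nontrivial W := Submodule.nontrivial_iff_ne_bot.mpr h0
  obtain ⟨c, hc⟩ := Module.End.exists_eigenvalue ((ρ g).restrict hW : Module.End K W)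
  obtain ⟨v, hv⟩ := hc.exists_hasEigenvector
  refine ⟨c, ?_⟩
  rw [Submodule.ne_bot_iff]
  refine ⟨v, ⟨v.2, ?_⟩, ?_⟩
  · rw [SetLike.mem_coe, mem_eg]
    have := congrArg Subtype.val hv.apply_eq_smul
    exact this
  · intro h
    exact hv.2 (Subtype.ext h)

theorem pow_eg {g : G} {c : K} {v : V} (hv : v ∈ eg ρ g c) (k : ℕ) : ρ (g ^ k) v = c ^ k • v := by
  induction k with
  | zero => rw [pow_zero, pow_zero, rho_one, one_smul]
  | succ k ih => rw [pow_succ, rho_mul, hv, map_smul, ih, smul_smul, pow_succ, mul_comm]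

theorem eig_pow {g : G} {c : K} {v : V} (hv : v ∈ eg ρ g c) (h0 : v ≠ 0) {r : ℕ} (hr : g ^ r = 1) : c ^ r = 1 := by
  have h1 := pow_eg ρ hv r
  rw [hr, rho_one] at h1
  have h2 : (c ^ r - 1) • v = 0 := by rw [sub_smul, one_smul, ← h1, sub_self]
  rcases smul_eq_zero.mp h2 with h | h
  · exact sub_eq_zero.mp h
  · exact absurd h h0

theorem U_inf_fix {g : G} {r : ℕ} (hr : g ^ r = 1) (hr0 : (r : K) ≠ 0) : U ρ g ⊓ eg ρ g 1 = ⊥ := by
  rw [eq_bot_iff]
  rintro v ⟨hv, hv'⟩
  rw [SetLike.mem_coe, mem_eg_one] at hv'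
  obtain ⟨u, hu⟩ := (mem_U ρ).mp hv
  have h1 : ∀ k : ℕ, ρ (g ^ k) u = u + (k : K) • v := by
    intro k
    induction k with
    | zero => rw [pow_zero, rho_one, Nat.cast_zero, zero_smul, add_zero]
    | succ k ih =>
      rw [pow_succ', rho_mul, ih, map_add, map_smul, hv', Nat.cast_succ, add_smul, one_smul, ← hu]
      abel
  have h2 := h1 r
  rw [hr, rho_one] at h2
  rw [Submodule.mem_bot]
  have h3 : (r : K) • v = 0 := by
    have := congrArg (fun x => x - u) h2
    simp only [sub_self, add_sub_cancel_left] at this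
    exact this.symm
  rcases smul_eq_zero.mp h3 with h | h
  · exact absurd h hr0
  · exact h

theorem inv_U {g h : G} (hc : g * h = h * g) : Inv ρ (U ρ g) h := by
  intro w hw
  have h1 := mem_U_conj ρ (h := h) hw
  rwa [← hc, mul_assoc, mul_inv_cancel, mul_one] at h1

theorem rho_comm {g h : G} (hc : g * h = h * g) : Commute (ρ g) (ρ h) := by
  show ρ g * ρ h = ρ h * ρ g
  rw [← map_mul, ← map_mul, hc]

end weights

section bc

open TensorProduct

variable {K V G : Type*} [Field K] [AddCommGroup V] [Module K V] [Group G] (ρ : Representation K G V)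

/-- extension of scalars to the algebraic closure -/
noncomputable def bc : Representation (AlgebraicClosure K) G (AlgebraicClosure K ⊗[K] V) :=
  ((Module.End.baseChangeHom K (AlgebraicClosure K) V :
    Module.End K V →ₐ[K] Module.End (AlgebraicClosure K) (AlgebraicClosure K ⊗[K] V)) :
    Module.End K V →* Module.End (AlgebraicClosure K) (AlgebraicClosure K ⊗[K] V)).comp ρ

theorem bc_tmul (g : G) (a : AlgebraicClosure K) (v : V) : bc ρ g (a ⊗ₜ v) = a ⊗ₜ ρ g v := rfl

theorem one_tmul_inj {u v : V} (h : (1 : AlgebraicClosure K) ⊗ₜ[K] u = 1 ⊗ₜ v) : u = v :=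
  Module.FaithfullyFlat.tensorProduct_mk_injective (A := K) (B := AlgebraicClosure K) V h

theorem finrank_bc [FiniteDimensional K V] :
    Module.finrank (AlgebraicClosure K) (AlgebraicClosure K ⊗[K] V) = Module.finrank K V :=
  Module.finrank_baseChange

theorem pst_of_bc {g h : G} (H : h ∈ pst (bc ρ) (U (bc ρ) g)) : h ∈ pst ρ (U ρ g) := by
  intro w hw
  obtain ⟨u, rfl⟩ := (mem_U ρ).mp hw
  have h1 := H _ (sub_mem_U (bc ρ) g (1 ⊗ₜ u))
  rw [bc_tmul, ← TensorProduct.tmul_sub, bc_tmul] at h1
  exact one_tmul_inj h1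

end bc

end Cfsg.Agent.H614.AMod
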