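import Mathlib

/-!
# Commutator spaces `[V, g]` in a representation

* `U ρ g = [V, g]`, `triv ρ W = {g | [V, g] ≤ W}`, `pst ρ W` the pointwise stabilizer;
* `U_conj`, `finrank_U_conj`, `U_inv`;
* `fixV_eq_bot` : no fixed vectors in a non-trivial irreducible representation.
-/

set_option autoImplicit false
set_option linter.unusedSectionVars false

namespace Cfsg.Agent.H614.AMod

variable {K V G : Type*} [Field K] [AddCommGroup V] [Module K V] [Group G] (ρ : Representation K G V)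

theorem rho_mul (g h : G) (v : V) : ρ (g * h) v = ρ g (ρ h v) := by rw [map_mul]; rfl
theorem rho_one (v : V) : ρ 1 v = v := by rw [map_one]; rfl
theorem rho_inv_self (g : G) (v : V) : ρ g⁻¹ (ρ g v) = v := by rw [← rho_mul, inv_mul_cancel, rho_one]
theorem rho_self_inv (g : G) (v : V) : ρ g (ρ g⁻¹ v) = v := by rw [← rho_mul, mul_inv_cancel, rho_one]

/-- the commutator space `[V, g]` -/
def U (g : G) : Submodule K V := LinearMap.range (ρ g - 1)

theorem mem_U {g : G} {v : V} : v ∈ U ρ g ↔ ∃ u, ρ g u - u = v := by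
  unfold U
  rw [LinearMap.mem_range]
  rfl

theorem sub_mem_U (g : G) (v : V) : ρ g v - v ∈ U ρ g := (mem_U ρ).mpr ⟨v, rfl⟩

/-- the elements acting trivially on `V / W` -/
def triv (W : Submodule K V) : Subgroup G where
  carrier := {g | ∀ v, ρ g v - v ∈ W}
  one_mem' := fun v => by rw [rho_one, sub_self]; exact W.zero_mem
  mul_mem' := fun {a b} ha hb v => by
    have h1 : ρ (a * b) v - v = (ρ a (ρ b v) - ρ b v) + (ρ b v - v) := by rw [rho_mul]; abel
    rw [h1]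
    exact W.add_mem (ha _) (hb _)
  inv_mem' := fun {a} ha v => by
    have h1 := ha (ρ a⁻¹ v)
    rw [rho_self_inv] at h1
    have h2 := W.neg_mem h1
    rwa [neg_sub] at h2

theorem mem_triv {W : Submodule K V} {g : G} : g ∈ triv ρ W ↔ ∀ v, ρ g v - v ∈ W := Iff.rfl

theorem U_le_iff {W : Submodule K V} {g : G} : U ρ g ≤ W ↔ g ∈ triv ρ W := by
  rw [mem_triv]
  constructor
  · intro h v
    exact h (sub_mem_U ρ g v)
  · intro h v hv
    obtain ⟨u, rfl⟩ := (mem_U ρ).mp hv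
    exact h u

/-- the pointwise stabilizer of `W` -/
def pst (W : Submodule K V) : Subgroup G where
  carrier := {g | ∀ w ∈ W, ρ g w = w}
  one_mem' := fun w _ => rho_one ρ w
  mul_mem' := fun {a b} ha hb w hw => by rw [rho_mul, hb w hw, ha w hw]
  inv_mem' := fun {a} ha w hw => by
    have h1 := rho_inv_self ρ a w
    rwa [ha w hw] at h1

theorem mem_pst {W : Submodule K V} {g : G} : g ∈ pst ρ W ↔ ∀ w ∈ W, ρ g w = w := Iff.rfl

theorem pst_anti {W W' : Submodule K V} (h : W ≤ W') : pst ρ W' ≤ pst ρ W := fun _ hg w hw => hg w (h hw)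

theorem mem_pst_sup {W W' : Submodule K V} {g : G} (h : g ∈ pst ρ W) (h' : g ∈ pst ρ W') : g ∈ pst ρ (W ⊔ W') := by
  intro w hw
  obtain ⟨a, ha, b, hb, rfl⟩ := Submodule.mem_sup.mp hw
  rw [map_add, h a ha, h' b hb]

theorem U_inv (g : G) : U ρ g⁻¹ = U ρ g := by
  apply le_antisymm
  · rw [U_le_iff]
    exact Subgroup.inv_mem _ ((U_le_iff ρ).mp le_rfl)
  · rw [U_le_iff]
    have h := Subgroup.inv_mem _ ((U_le_iff ρ (W := U ρ g⁻¹) (g := g⁻¹)).mp le_rfl)
    rwa [inv_inv] at h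

theorem U_mul_le (g h : G) : U ρ (g * h) ≤ U ρ g ⊔ U ρ h := by
  rw [U_le_iff]
  exact Subgroup.mul_mem _ ((U_le_iff ρ).mp le_sup_left) ((U_le_iff ρ).mp le_sup_right)

theorem mem_U_conj {g h : G} {v : V} (hv : v ∈ U ρ g) : ρ h v ∈ U ρ (h * g * h⁻¹) := by
  obtain ⟨u, rfl⟩ := (mem_U ρ).mp hv
  refine (mem_U ρ).mpr ⟨ρ h u, ?_⟩
  rw [rho_mul, rho_mul, rho_inv_self, map_sub]

/-- the linear automorphism of `V` belonging to `g` -/
noncomputable def aut (g : G) : V ≃ₗ[K] V :=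
  LinearEquiv.ofLinear (ρ g) (ρ g⁻¹) (by ext v; exact rho_self_inv ρ g v) (by ext v; exact rho_inv_self ρ g v)

theorem aut_apply (g : G) (v : V) : aut ρ g v = ρ g v := rfl

theorem U_conj (g h : G) : (U ρ g).map (aut ρ h : V →ₗ[K] V) = U ρ (h * g * h⁻¹) := by
  apply le_antisymm
  · rw [Submodule.map_le_iff_le_comap]
    intro v hv
    exact mem_U_conj ρ hv
  · intro v hv
    refine ⟨ρ h⁻¹ v, ?_, rho_self_inv ρ h v⟩
    have h1 := mem_U_conj ρ (h := h⁻¹) hv
    have h2 : h⁻¹ * (h * g * h⁻¹) * h⁻¹⁻¹ = g := by group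
    rwa [h2] at h1

theorem finrank_U_conj (g h : G) : Module.finrank K (U ρ (h * g * h⁻¹)) = Module.finrank K (U ρ g) := by
  rw [← U_conj]
  exact LinearEquiv.finrank_map_eq (aut ρ h) _

theorem map_inf_conj (g g' h : G) (hb : U ρ g ⊓ U ρ g' = ⊥) : U ρ (h * g * h⁻¹) ⊓ U ρ (h * g' * h⁻¹) = ⊥ := by
  rw [← U_conj, ← U_conj, ← Submodule.map_inf _ (aut ρ h).injective, hb, Submodule.map_bot]

theorem pst_conj {g h k : G} (hk : k ∈ pst ρ (U ρ g)) : h * k * h⁻¹ ∈ pst ρ (U ρ (h * g * h⁻¹)) := by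
  intro w hw
  have h1 := mem_U_conj ρ (h := h⁻¹) hw
  have h2 : h⁻¹ * (h * g * h⁻¹) * h⁻¹⁻¹ = g := by group
  rw [h2] at h1
  rw [rho_mul, rho_mul, hk _ h1, rho_self_inv]

/-- the fixed space -/
def fixV : Submodule K V where
  carrier := {v | ∀ g : G, ρ g v = v}
  zero_mem' := fun g => map_zero _
  add_mem' := fun {a b} ha hb g => by rw [map_add, ha g, hb g]
  smul_mem' := fun c {a} ha g => by rw [map_smul, ha g]

/-- irreducible in the elementary sense -/
def Irr : Prop := ∀ W : Submodule K V, (∀ g : G, ∀ w ∈ W, ρ g w ∈ W) → W = ⊥ ∨ W = ⊤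

theorem fixV_eq_bot (hirr : Irr ρ) {g : G} {v : V} (h : ρ g v ≠ v) : fixV ρ = ⊥ := by
  rcases hirr (fixV ρ) (fun g w hw h' => by rw [hw g, hw h']) with h1 | h1
  · exact h1
  · exfalso
    have h2 : v ∈ fixV ρ := by rw [h1]; trivial
    exact h (h2 g)

theorem pst_ne_top (hirr : Irr ρ) {g : G} {v : V} (h : ρ g v ≠ v) {W : Submodule K V} (hW : W ≠ ⊥) :
    pst ρ W ≠ ⊤ := by
  intro h1
  apply hW
  rw [eq_bot_iff, ← fixV_eq_bot ρ hirr h]
  intro w hw g
  have h2 : g ∈ pst ρ W := by rw [h1]; trivial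
  exact h2 w hw

end Cfsg.Agent.H614.AMod
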