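import Cfsg.Agent.H614.AMod.Wt

/-!
# Representations of `Alt (Fin 8)` of degree at most 12, odd or zero characteristic: weights of `2^4`

* `nW s t u v` : the dimensions of the weight spaces of `V₄ × V₄`;
* `weights` : if `(a₁ - 1)(b₁ - 1) ≠ 0` then the nine weights non-trivial on both factors have multiplicity one
  and the six others have multiplicity zero.
-/

set_option autoImplicit false
set_option linter.unusedSectionVars false

namespace Cfsg.Agent.H614.AMod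

open Equiv Equiv.Perm

abbrev A8 : Type := alternatingGroup (Fin 8)

namespace E8

def a1 : A8 := ⟨swap 0 1 * swap 2 3, by rw [mem_alternatingGroup]; decide⟩
def a2 : A8 := ⟨swap 0 2 * swap 1 3, by rw [mem_alternatingGroup]; decide⟩
def b1 : A8 := ⟨swap 4 5 * swap 6 7, by rw [mem_alternatingGroup]; decide⟩
def b2 : A8 := ⟨swap 4 6 * swap 5 7, by rw [mem_alternatingGroup]; decide⟩
def c : A8 := ⟨swap 0 1 * swap 1 2, by rw [mem_alternatingGroup]; decide⟩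
def c' : A8 := ⟨swap 4 5 * swap 5 6, by rw [mem_alternatingGroup]; decide⟩
def s : A8 := ⟨swap 0 4 * swap 1 5 * swap 2 6 * swap 3 7, by rw [mem_alternatingGroup]; decide⟩
def s' : A8 := ⟨swap 0 5 * swap 1 4 * swap 2 6 * swap 3 7, by rw [mem_alternatingGroup]; decide⟩
def t : A8 := ⟨swap 0 1 * swap 4 5, by rw [mem_alternatingGroup]; decide⟩

theorem four_a : Four a1 a2 c := ⟨by decide, by decide, by decide, by decide, by decide⟩
theorem four_b : Four b1 b2 c' := ⟨by decide, by decide, by decide, by decide, by decide⟩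

end E8

open E8

variable {K V : Type*} [Field K] [AddCommGroup V] [Module K V] [FiniteDimensional K V] (ρ : Representation K A8 V)

/-- weight spaces of `V₄ × V₄` -/
def W (x y z w : K) : Submodule K V := eg ρ a1 x ⊓ eg ρ a2 y ⊓ eg ρ b1 z ⊓ eg ρ b2 w

/-- their dimensions -/
noncomputable def nW (x y z w : K) : ℕ := Module.finrank K (W ρ x y z w)

theorem W_eq (x y z w : K) : W ρ x y z w = eg ρ b1 z ⊓ eg ρ b2 w ⊓ eg ρ a1 x ⊓ eg ρ a2 y := by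
  unfold W
  ext v
  simp only [Submodule.mem_inf]
  tauto

theorem inv_a (x y : K) {g : A8} (h1 : a1 * g = g * a1) (h2 : a2 * g = g * a2) : Inv ρ (eg ρ a1 x ⊓ eg ρ a2 y) g :=
  Inv.inf ρ (inv_eg ρ h1 x) (inv_eg ρ h2 y)

theorem inv_b (x y : K) {g : A8} (h1 : b1 * g = g * b1) (h2 : b2 * g = g * b2) : Inv ρ (eg ρ b1 x ⊓ eg ρ b2 y) g :=
  Inv.inf ρ (inv_eg ρ h1 x) (inv_eg ρ h2 y)

theorem conj_b (x y : K) : nW ρ x y 1 (-1) = nW ρ x y (-1) (-1) ∧ nW ρ x y (-1) (-1) = nW ρ x y (-1) 1 :=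
  four_b.conj ρ (inv_a ρ x y (by decide) (by decide)) (inv_a ρ x y (by decide) (by decide))

theorem conj_a (z w : K) : nW ρ 1 (-1) z w = nW ρ (-1) (-1) z w ∧ nW ρ (-1) (-1) z w = nW ρ (-1) 1 z w := by
  have h := four_a.conj ρ (inv_b ρ z w (g := c) (by decide) (by decide)) (inv_b ρ z w (by decide) (by decide))
  unfold nW
  rw [W_eq, W_eq, W_eq]
  exact h

/-- the swap of the blocks -/
theorem conj_s (x y z w : K) : nW ρ x y z w = nW ρ z w x y := by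
  apply finrank_eq_of_map ρ s
  · rintro v ⟨⟨⟨h1, h2⟩, h3⟩, h4⟩
    exact ⟨⟨⟨eg_move ρ (g := b1) (by decide) h3, eg_move ρ (g := b2) (by decide) h4⟩,
      eg_move ρ (g := a1) (by decide) h1⟩, eg_move ρ (g := a2) (by decide) h2⟩
  · rintro v ⟨⟨⟨h1, h2⟩, h3⟩, h4⟩
    exact ⟨⟨⟨eg_move ρ (g := b1) (by decide) h3, eg_move ρ (g := b2) (by decide) h4⟩,
      eg_move ρ (g := a1) (by decide) h1⟩, eg_move ρ (g := a2) (by decide) h2⟩

theorem total (h2 : (2 : K) ≠ 0) :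
    Module.finrank K V = nW ρ 1 1 1 1 + 6 * nW ρ 1 1 1 (-1) + 9 * nW ρ 1 (-1) 1 (-1) := by
  have e0 := four_a.sum ρ h2 (Z := ⊤) (inv_top ρ _) (inv_top ρ _) (inv_top ρ _) (inv_top ρ _)
  rw [top_inf_eq, finrank_top] at e0
  have e1 : Module.finrank K (eg ρ a1 1 ⊓ eg ρ a2 1 : Submodule K V) = nW ρ 1 1 1 1 + 3 * nW ρ 1 1 1 (-1) :=
    four_b.sum ρ h2 (inv_a ρ 1 1 (by decide) (by decide)) (inv_a ρ 1 1 (by decide) (by decide))
      (inv_a ρ 1 1 (by decide) (by decide)) (inv_a ρ 1 1 (by decide) (by decide))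
  have e2 : Module.finrank K (eg ρ a1 1 ⊓ eg ρ a2 (-1) : Submodule K V) =
      nW ρ 1 (-1) 1 1 + 3 * nW ρ 1 (-1) 1 (-1) :=
    four_b.sum ρ h2 (inv_a ρ 1 (-1) (by decide) (by decide)) (inv_a ρ 1 (-1) (by decide) (by decide))
      (inv_a ρ 1 (-1) (by decide) (by decide)) (inv_a ρ 1 (-1) (by decide) (by decide))
  rw [conj_s ρ 1 (-1) 1 1] at e2
  rw [e0, e1, e2]
  ring

/-- splitting with respect to `a₂, b₂` -/
theorem split_ab (h2 : (2 : K) ≠ 0) (x z : K) :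
    Module.finrank K (eg ρ a1 x ⊓ eg ρ b1 z : Submodule K V) =
      nW ρ x 1 z 1 + nW ρ x 1 z (-1) + nW ρ x (-1) z 1 + nW ρ x (-1) z (-1) := by
  have s1 := split ρ h2 four_a.yy (W := eg ρ a1 x ⊓ eg ρ b1 z)
    (Inv.inf ρ (inv_eg ρ (by decide) x) (inv_eg ρ (by decide) z))
  have s2 := split ρ h2 four_b.yy (W := eg ρ a1 x ⊓ eg ρ b1 z ⊓ eg ρ a2 1)
    (Inv.inf ρ (Inv.inf ρ (inv_eg ρ (by decide) x) (inv_eg ρ (by decide) z)) (inv_eg ρ (by decide) 1))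
  have s3 := split ρ h2 four_b.yy (W := eg ρ a1 x ⊓ eg ρ b1 z ⊓ eg ρ a2 (-1))
    (Inv.inf ρ (Inv.inf ρ (inv_eg ρ (by decide) x) (inv_eg ρ (by decide) z)) (inv_eg ρ (by decide) (-1)))
  have hW : ∀ y w : K, eg ρ a1 x ⊓ eg ρ b1 z ⊓ eg ρ a2 y ⊓ eg ρ b2 w = W ρ x y z w := by
    intro y w
    unfold W
    ext v
    simp only [Submodule.mem_inf]
    tauto
  rw [hW, hW] at s2 s3
  unfold nW
  omega

/-- the non-vanishing condition -/
def NZ : Prop := ∃ v : V, ρ a1 (ρ b1 v - v) - (ρ b1 v - v) ≠ 0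

theorem NZ.pos {ρ : Representation K A8 V} (h2 : (2 : K) ≠ 0) (h : NZ ρ) : 1 ≤ nW ρ 1 (-1) 1 (-1) := by
  obtain ⟨v, hv⟩ := h
  have hb : ρ b1 (ρ b1 v) = v := by rw [← rho_mul, four_b.xx, rho_one]
  have h1 : ρ b1 (ρ b1 v - v) = -(ρ b1 v - v) := by rw [map_sub, hb]; abel
  set y := ρ b1 v - v with hy
  have ha : ρ a1 (ρ a1 y) = y := by rw [← rho_mul, four_a.xx, rho_one]
  have h3 : ρ a1 y - y ∈ eg ρ a1 (-1) ⊓ eg ρ b1 (-1) := by
    refine ⟨?_, ?_⟩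
    · rw [SetLike.mem_coe, mem_eg_neg, map_sub, ha]; abel
    · rw [SetLike.mem_coe, mem_eg_neg, map_sub, ← rho_mul, show b1 * a1 = a1 * b1 by decide, rho_mul, h1, map_neg]
      abel
  have h4 : 1 ≤ Module.finrank K (eg ρ a1 (-1) ⊓ eg ρ b1 (-1) : Submodule K V) := by
    rw [Nat.one_le_iff_ne_zero]
    intro h0
    rw [Submodule.finrank_eq_zero] at h0
    rw [h0, Submodule.mem_bot] at h3
    exact hv h3
  rw [split_ab ρ h2] at h4
  have c1 := conj_a ρ 1 (-1)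
  have c2 := conj_a ρ (-1) (-1)
  have c3 := conj_a ρ (-1) 1
  have d1 := conj_b ρ 1 (-1)
  omega

/-- the multiplicities -/
structure Mult : Prop where
  c_one : nW ρ 1 (-1) 1 (-1) = 1
  b_zero : nW ρ 1 1 1 (-1) = 0

theorem weights {ρ : Representation K A8 V} (h2 : (2 : K) ≠ 0) (h : NZ ρ) (hn : Module.finrank K V ≤ 12) : Mult ρ := by
  have h1 := h.pos h2
  have h3 := total ρ h2
  constructor <;> omega

/-- all nine / six multiplicities -/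
theorem Mult.nine {ρ : Representation K A8 V} (h : Mult ρ) :
    nW ρ 1 (-1) 1 (-1) = 1 ∧ nW ρ 1 (-1) (-1) (-1) = 1 ∧ nW ρ 1 (-1) (-1) 1 = 1 ∧
    nW ρ (-1) (-1) 1 (-1) = 1 ∧ nW ρ (-1) (-1) (-1) (-1) = 1 ∧ nW ρ (-1) (-1) (-1) 1 = 1 ∧
    nW ρ (-1) 1 1 (-1) = 1 ∧ nW ρ (-1) 1 (-1) (-1) = 1 ∧ nW ρ (-1) 1 (-1) 1 = 1 := by
  have h0 := h.c_one
  have c1 := conj_a ρ 1 (-1)
  have c2 := conj_a ρ (-1) (-1)
  have c3 := conj_a ρ (-1) 1
  have d1 := conj_b ρ 1 (-1)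
  refine ⟨?_, ?_, ?_, ?_, ?_, ?_, ?_, ?_, ?_⟩ <;> omega

theorem Mult.six {ρ : Representation K A8 V} (h : Mult ρ) :
    nW ρ 1 1 1 (-1) = 0 ∧ nW ρ 1 1 (-1) (-1) = 0 ∧ nW ρ 1 1 (-1) 1 = 0 ∧
    nW ρ 1 (-1) 1 1 = 0 ∧ nW ρ (-1) (-1) 1 1 = 0 ∧ nW ρ (-1) 1 1 1 = 0 := by
  have h0 := h.b_zero
  have c1 := conj_b ρ 1 1
  have c2 := conj_a ρ 1 1
  have c3 := conj_s ρ 1 (-1) 1 1
  refine ⟨?_, ?_, ?_, ?_, ?_, ?_⟩ <;> omega

theorem finrank_a1_b1_neg {ρ : Representation K A8 V} (h2 : (2 : K) ≠ 0) (h : Mult ρ) :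
    Module.finrank K (eg ρ a1 (-1) ⊓ eg ρ b1 (-1) : Submodule K V) = 4 := by
  rw [split_ab ρ h2]
  have := h.nine
  omega

theorem finrank_a1_pos_b1_neg {ρ : Representation K A8 V} (h2 : (2 : K) ≠ 0) (h : Mult ρ) :
    Module.finrank K (eg ρ a1 1 ⊓ eg ρ b1 (-1) : Submodule K V) = 2 := by
  rw [split_ab ρ h2]
  have := h.nine
  have := h.six
  omega

theorem finrank_a1_neg_b1_pos {ρ : Representation K A8 V} (h2 : (2 : K) ≠ 0) (h : Mult ρ) :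
    Module.finrank K (eg ρ a1 (-1) ⊓ eg ρ b1 1 : Submodule K V) = 2 := by
  rw [split_ab ρ h2]
  have := h.nine
  have := h.six
  omega

end Cfsg.Agent.H614.AMod
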