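import Cfsg.Agent.H614.AMod.Eight

/-!
# Representations of `Alt (Fin 8)` of degree at most 12: the fixed space of `2^4`

With `C` the fixed space of `V₄ × V₄` and `s` the swap of the blocks:

* `exists_line` : the common fixed space of `d₁, d₂` meets `{s = -1}` in a line, contained in `C`;
* `exists_t` : `t = (0 1)(4 5)` has a non-zero anti-fixed vector in `C`;
* `finrank_d_b1` : a bound.
-/

set_option autoImplicit false
set_option linter.unusedSectionVars false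

namespace Cfsg.Agent.H614.AMod

open Equiv Equiv.Perm E8

namespace E8

def d1 : A8 := a1 * b1
def d2 : A8 := a2 * b2
def u1 : A8 := c * c'
def g1 : A8 := ⟨swap 1 4 * swap 3 6, by rw [mem_alternatingGroup]; decide⟩
def hh : A8 := ⟨swap 2 3 * swap 6 7, by rw [mem_alternatingGroup]; decide⟩
def gg : A8 := ⟨swap 2 4 * swap 3 5, by rw [mem_alternatingGroup]; decide⟩

end E8

variable {K V : Type*} [Field K] [AddCommGroup V] [Module K V] [FiniteDimensional K V] {ρ : Representation K A8 V}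

theorem eg_right {G : Type*} [Group G] {ρ : Representation K G V} {g h : G} {x y : K} {v : V} (hg : g * g = 1)
    (h1 : v ∈ eg ρ g x) (h2 : v ∈ eg ρ (g * h) y) : v ∈ eg ρ h (x * y) := by
  have h3 := eg_mul ρ h1 h2
  rwa [← mul_assoc, hg, one_mul] at h3

theorem eg_left {G : Type*} [Group G] {ρ : Representation K G V} {g h : G} {x y : K} {v : V} (hh : h * h = 1)
    (h1 : v ∈ eg ρ h x) (h2 : v ∈ eg ρ (g * h) y) : v ∈ eg ρ g (y * x) := by
  have h3 := eg_mul ρ h2 h1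
  rwa [mul_assoc, hh, mul_one] at h3

/-- `dim {d₁ = -1} = 4` -/
theorem finrank_d1 (h2 : (2 : K) ≠ 0) (h : Mult ρ) : Module.finrank K (eg ρ d1 (-1) : Submodule K V) = 4 := by
  have s1 := split ρ h2 four_a.xx (W := eg ρ d1 (-1)) (inv_eg ρ (by decide) _)
  have e1 : eg ρ d1 (-1) ⊓ eg ρ a1 1 = eg ρ a1 1 ⊓ eg ρ b1 (-1) := by
    ext v
    constructor
    · rintro ⟨h3, h4⟩
      refine ⟨h4, ?_⟩
      have h5 := eg_right four_a.xx h4 h3
      rwa [one_mul] at h5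
    · rintro ⟨h3, h4⟩
      refine ⟨?_, h3⟩
      have h5 := eg_mul ρ h3 h4
      rwa [one_mul] at h5
  have e2 : eg ρ d1 (-1) ⊓ eg ρ a1 (-1) = eg ρ a1 (-1) ⊓ eg ρ b1 1 := by
    ext v
    constructor
    · rintro ⟨h3, h4⟩
      refine ⟨h4, ?_⟩
      have h5 := eg_right four_a.xx h4 h3
      rwa [neg_mul_neg, one_mul] at h5
    · rintro ⟨h3, h4⟩
      refine ⟨?_, h3⟩
      have h5 := eg_mul ρ h3 h4
      rwa [mul_one] at h5
  rw [e1, e2, finrank_a1_pos_b1_neg h2 h, finrank_a1_neg_b1_pos h2 h] at s1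
  exact s1

/-- dimensions of the weight spaces of the regular `2^3` -/
noncomputable def nA (ρ : Representation K A8 V) (x y z : K) : ℕ :=
  Module.finrank K (eg ρ d1 x ⊓ eg ρ d2 y ⊓ eg ρ s z : Submodule K V)

theorem nA_line (h2 : (2 : K) ≠ 0) (h : Mult ρ) : nA ρ 1 1 (-1) = 1 := by
  have s0 := finrank_d1 h2 h
  have s1 := split ρ h2 (g := d2) (by decide) (W := eg ρ d1 (-1)) (inv_eg ρ (by decide) _)
  have s2 := split ρ h2 (g := s) (by decide) (W := eg ρ d1 (-1) ⊓ eg ρ d2 1)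
    (Inv.inf ρ (inv_eg ρ (by decide) _) (inv_eg ρ (by decide) _))
  have s3 := split ρ h2 (g := s) (by decide) (W := eg ρ d1 (-1) ⊓ eg ρ d2 (-1))
    (Inv.inf ρ (inv_eg ρ (by decide) _) (inv_eg ρ (by decide) _))
  have k1 : nA ρ (-1) 1 1 = nA ρ 1 1 (-1) := by
    apply finrank_eq_of_map ρ g1
    · rintro v ⟨⟨e1, e2⟩, e3⟩
      exact ⟨⟨eg_move ρ (g := s) (by decide) e3, eg_move ρ (g := d2) (by decide) e2⟩,
        eg_move ρ (g := d1) (by decide) e1⟩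
    · rintro v ⟨⟨e1, e2⟩, e3⟩
      exact ⟨⟨eg_move ρ (g := s) (by decide) e3, eg_move ρ (g := d2) (by decide) e2⟩,
        eg_move ρ (g := d1) (by decide) e1⟩
  have k2 : nA ρ (-1) 1 1 = nA ρ (-1) 1 (-1) := by
    apply finrank_eq_of_map ρ b1
    · rintro v ⟨⟨e1, e2⟩, e3⟩
      have e4 := eg_mul ρ e1 e3
      rw [mul_one] at e4
      exact ⟨⟨eg_move ρ (g := d1) (by decide) e1, eg_move ρ (g := d2) (by decide) e2⟩,
        eg_move ρ (g := d1 * s) (by decide) e4⟩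
    · rintro v ⟨⟨e1, e2⟩, e3⟩
      have e4 := eg_mul ρ e1 e3
      rw [neg_mul_neg, mul_one] at e4
      exact ⟨⟨eg_move ρ (g := d1) (by decide) e1, eg_move ρ (g := d2) (by decide) e2⟩,
        eg_move ρ (g := d1 * s) (by decide) e4⟩
  have k3 : ∀ z : K, nA ρ (-1) 1 z = nA ρ (-1) (-1) z := by
    intro z
    apply finrank_eq_of_map ρ hh
    · rintro v ⟨⟨e1, e2⟩, e3⟩
      have e4 := eg_mul ρ e1 e2
      rw [mul_one] at e4
      exact ⟨⟨eg_move ρ (g := d1) (by decide) e1, eg_move ρ (g := d1 * d2) (by decide) e4⟩,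
        eg_move ρ (g := s) (by decide) e3⟩
    · rintro v ⟨⟨e1, e2⟩, e3⟩
      have e4 := eg_mul ρ e1 e2
      rw [neg_mul_neg, mul_one] at e4
      exact ⟨⟨eg_move ρ (g := d1) (by decide) e1, eg_move ρ (g := d1 * d2) (by decide) e4⟩,
        eg_move ρ (g := s) (by decide) e3⟩
  have k4 := k3 1
  have k5 := k3 (-1)
  unfold nA at *
  omega

/-- a line is spanned by any of its non-zero vectors -/
theorem line_span {W : Submodule K V} (hW : Module.finrank K W ≤ 1) {e v : V} (he : e ∈ W) (he0 : e ≠ 0) (hv : v ∈ W) :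
    ∃ x : K, v = x • e := by
  have h1 : Submodule.span K {e} = W := by
    apply Submodule.eq_of_le_of_finrank_le
    · rw [Submodule.span_singleton_le_iff_mem]
      exact he
    · rw [finrank_span_singleton he0]
      exact hW
  rw [← h1] at hv
  obtain ⟨x, hx⟩ := Submodule.mem_span_singleton.mp hv
  exact ⟨x, hx.symm⟩

theorem exists_ne_zero {W : Submodule K V} (hW : 1 ≤ Module.finrank K W) : ∃ e ∈ W, e ≠ 0 := by
  by_contra hne
  push Not at hne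
  have : W = ⊥ := by
    rw [eq_bot_iff]
    intro v hv
    rw [Submodule.mem_bot]
    exact hne v hv
  rw [this, finrank_bot] at hW
  omega

/-- The line `{d₁ = d₂ = 1, s = -1}` lies in the fixed space of `V₄ × V₄`. -/
theorem exists_line (h2 : (2 : K) ≠ 0) (h : Mult ρ) :
    ∃ e : V, e ≠ 0 ∧ e ∈ W ρ 1 1 1 1 ∧ ρ s e = -e ∧
      ∀ v : V, ρ d1 v = v → ρ d2 v = v → ρ s v = -v → ∃ x : K, v = x • e := by
  have hl := nA_line h2 h
  unfold nA at hl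
  obtain ⟨e, he, he0⟩ := exists_ne_zero (K := K) (W := eg ρ d1 1 ⊓ eg ρ d2 1 ⊓ eg ρ s (-1)) (by omega)
  have hall : ∀ v : V, ρ d1 v = v → ρ d2 v = v → ρ s v = -v → ∃ x : K, v = x • e := by
    intro v v1 v2 v3
    exact line_span (by omega) he he0 ⟨⟨(mem_eg_one ρ).mpr v1, (mem_eg_one ρ).mpr v2⟩, (mem_eg_neg ρ).mpr v3⟩
  obtain ⟨⟨e1, e2⟩, e3⟩ := he
  rw [SetLike.mem_coe, mem_eg_one] at e1 e2
  rw [SetLike.mem_coe, mem_eg_neg] at e3
  -- a₁ and b₁ agree on e, a₂ and b₂ too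
  have ab1 : ρ b1 e = ρ a1 e := by
    have h3 : ρ (a1 * d1) e = ρ a1 e := by rw [rho_mul, e1]
    rw [← h3, show a1 * d1 = b1 by decide]
  have ab2 : ρ b2 e = ρ a2 e := by
    have h3 : ρ (a2 * d2) e = ρ a2 e := by rw [rho_mul, e2]
    rw [← h3, show a2 * d2 = b2 by decide]
  obtain ⟨x1, hx1⟩ := hall (ρ a1 e)
    (by rw [← rho_mul, show d1 * a1 = a1 * d1 by decide, rho_mul, e1])
    (by rw [← rho_mul, show d2 * a1 = a1 * d2 by decide, rho_mul, e2])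
    (by rw [← rho_mul, show s * a1 = b1 * s by decide, rho_mul, e3, map_neg, ab1])
  obtain ⟨x2, hx2⟩ := hall (ρ a2 e)
    (by rw [← rho_mul, show d1 * a2 = a2 * d1 by decide, rho_mul, e1])
    (by rw [← rho_mul, show d2 * a2 = a2 * d2 by decide, rho_mul, e2])
    (by rw [← rho_mul, show s * a2 = b2 * s by decide, rho_mul, e3, map_neg, ab2])
  obtain ⟨y, hy⟩ := hall (ρ u1 e)
    (by rw [← rho_mul, show d1 * u1 = u1 * d2 by decide, rho_mul, e2])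
    (by rw [← rho_mul, show d2 * u1 = u1 * (d1 * d2) by decide, rho_mul, rho_mul, e2, e1])
    (by rw [← rho_mul, show s * u1 = u1 * s by decide, rho_mul, e3, map_neg])
  have hy0 : y ≠ 0 := by
    rintro rfl
    rw [zero_smul] at hy
    have := rho_inv_self ρ u1 e
    rw [hy, map_zero] at this
    exact he0 this.symm
  have inj : ∀ {p q : K}, p • e = q • e → p = q := fun {p q} hpq => smul_left_injective K he0 hpq
  have hx12 : x1 = x2 := by
    have h3 : ρ a1 (ρ u1 e) = ρ u1 (ρ a2 e) := by rw [← rho_mul, ← rho_mul, show a1 * u1 = u1 * a2 by decide]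
    rw [hy, map_smul, hx1, hx2, map_smul, hy, smul_smul, smul_smul] at h3
    have h4 := inj h3
    rw [mul_comm] at h4
    exact mul_right_cancel₀ hy0 h4
  have hx22 : x2 = x1 * x2 := by
    have h3 : ρ a2 (ρ u1 e) = ρ u1 (ρ a1 (ρ a2 e)) := by
      rw [← rho_mul, ← rho_mul, ← rho_mul, show a2 * u1 = u1 * a1 * a2 by decide]
    rw [hy, map_smul, hx2, map_smul, map_smul, hx1, map_smul, hy, smul_smul, smul_smul, smul_smul] at h3
    have h4 := inj h3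
    have h5 : x2 * y = (x1 * x2) * y := by rw [mul_comm x2 y, h4]; ring
    exact mul_right_cancel₀ hy0 h5
  have hx0 : x2 ≠ 0 := by
    rintro rfl
    rw [zero_smul] at hx2
    have := rho_inv_self ρ a2 e
    rw [hx2, map_zero] at this
    exact he0 this.symm
  have hxx : x1 = 1 := by
    have h5 : 1 * x2 = x1 * x2 := by rw [one_mul]; exact hx22
    exact (mul_right_cancel₀ hx0 h5).symm
  have hx2' : x2 = 1 := by rw [← hx12, hxx]
  have f1 : ρ a1 e = e := by rw [hx1, hxx, one_smul]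
  have f2 : ρ a2 e = e := by rw [hx2, hx2', one_smul]
  refine ⟨e, he0, ⟨⟨⟨?_, ?_⟩, ?_⟩, ?_⟩, e3, hall⟩
  · exact (mem_eg_one ρ).mpr f1
  · exact (mem_eg_one ρ).mpr f2
  · exact (mem_eg_one ρ).mpr (by rw [ab1, f1])
  · exact (mem_eg_one ρ).mpr (by rw [ab2, f2])

/-- an anti-fixed vector of `t` in `C` -/
theorem exists_t (h2 : (2 : K) ≠ 0) (h : Mult ρ) : ∃ v : V, v ≠ 0 ∧ v ∈ W ρ 1 1 1 1 ∧ ρ t v = -v := by
  have e1 := finrank_a1_b1_neg h2 h
  have s1 := split ρ h2 (g := t) (by decide) (W := eg ρ a1 (-1) ⊓ eg ρ b1 (-1))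
    (Inv.inf ρ (inv_eg ρ (by decide) _) (inv_eg ρ (by decide) _))
  have k1 : Module.finrank K (eg ρ a1 (-1) ⊓ eg ρ b1 (-1) ⊓ eg ρ t 1 : Submodule K V) =
      Module.finrank K (eg ρ a1 (-1) ⊓ eg ρ b1 (-1) ⊓ eg ρ t (-1) : Submodule K V) := by
    apply finrank_eq_of_map ρ a2
    · rintro v ⟨⟨f1, f2⟩, f3⟩
      have f4 := eg_mul ρ f1 f3
      rw [mul_one] at f4
      exact ⟨⟨eg_move ρ (g := a1) (by decide) f1, eg_move ρ (g := b1) (by decide) f2⟩,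
        eg_move ρ (g := a1 * t) (by decide) f4⟩
    · rintro v ⟨⟨f1, f2⟩, f3⟩
      have f4 := eg_mul ρ f1 f3
      rw [neg_mul_neg, mul_one] at f4
      exact ⟨⟨eg_move ρ (g := a1) (by decide) f1, eg_move ρ (g := b1) (by decide) f2⟩,
        eg_move ρ (g := a1 * t) (by decide) f4⟩
  have k2 : Module.finrank K (eg ρ a1 1 ⊓ eg ρ b1 1 ⊓ eg ρ t (-1) : Submodule K V) =
      Module.finrank K (eg ρ a1 (-1) ⊓ eg ρ b1 (-1) ⊓ eg ρ t 1 : Submodule K V) := by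
    apply finrank_eq_of_map ρ gg
    · rintro v ⟨⟨f1, f2⟩, f3⟩
      have f4 := eg_mul ρ (eg_mul ρ f1 f3) f2
      rw [one_mul, mul_one] at f4
      exact ⟨⟨eg_move ρ (g := t) (by decide) f3, eg_move ρ (g := a1 * t * b1) (by decide) f4⟩,
        eg_move ρ (g := a1) (by decide) f1⟩
    · rintro v ⟨⟨f1, f2⟩, f3⟩
      have f4 := eg_mul ρ (eg_mul ρ f1 f3) f2
      rw [mul_one, neg_mul_neg, mul_one] at f4
      exact ⟨⟨eg_move ρ (g := t) (by decide) f3, eg_move ρ (g := a1 * t * b1) (by decide) f4⟩,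
        eg_move ρ (g := a1) (by decide) f1⟩
  have hT : Module.finrank K (eg ρ a1 1 ⊓ eg ρ b1 1 ⊓ eg ρ t (-1) : Submodule K V) = 2 := by omega
  have hinv : Inv ρ (eg ρ a1 1 ⊓ eg ρ b1 1 ⊓ eg ρ t (-1)) a2 := by
    rintro v ⟨⟨f1, f2⟩, f3⟩
    have f4 := eg_mul ρ f1 f3
    rw [one_mul] at f4
    exact ⟨⟨eg_move ρ (g := a1) (by decide) f1, eg_move ρ (g := b1) (by decide) f2⟩,
      eg_move ρ (g := a1 * t) (by decide) f4⟩
  have s2 := split ρ h2 (g := a2) (by decide) hinv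
  have le1 : Module.finrank K (eg ρ a1 1 ⊓ eg ρ b1 1 ⊓ eg ρ t (-1) ⊓ eg ρ a2 (-1) : Submodule K V) ≤ 1 := by
    have s3 := split ρ h2 (g := b2) (by decide) (W := eg ρ a1 1 ⊓ eg ρ a2 (-1) ⊓ eg ρ b1 1)
      (Inv.inf ρ (inv_a ρ 1 (-1) (by decide) (by decide)) (inv_eg ρ (by decide) _))
    have n1 : Module.finrank K (eg ρ a1 1 ⊓ eg ρ a2 (-1) ⊓ eg ρ b1 1 ⊓ eg ρ b2 1 : Submodule K V) = 0 :=
      h.six.2.2.2.1
    have n2 : Module.finrank K (eg ρ a1 1 ⊓ eg ρ a2 (-1) ⊓ eg ρ b1 1 ⊓ eg ρ b2 (-1) : Submodule K V) = 1 :=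
      h.nine.1
    have le2 : Module.finrank K (eg ρ a1 1 ⊓ eg ρ b1 1 ⊓ eg ρ t (-1) ⊓ eg ρ a2 (-1) : Submodule K V) ≤
        Module.finrank K (eg ρ a1 1 ⊓ eg ρ a2 (-1) ⊓ eg ρ b1 1 : Submodule K V) := by
      apply Submodule.finrank_mono
      rintro v ⟨⟨⟨f1, f2⟩, f3⟩, f4⟩
      exact ⟨⟨f1, f4⟩, f2⟩
    omega
  obtain ⟨v, ⟨⟨⟨f1, f2⟩, f3⟩, f4⟩, hv0⟩ := exists_ne_zero (K := K)
    (W := eg ρ a1 1 ⊓ eg ρ b1 1 ⊓ eg ρ t (-1) ⊓ eg ρ a2 1) (by omega)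
  refine ⟨v, hv0, ?_, (mem_eg_neg ρ).mp f3⟩
  have s4 := split ρ h2 (g := b2) (by decide) (W := eg ρ a1 1 ⊓ eg ρ a2 1 ⊓ eg ρ b1 1)
    (Inv.inf ρ (inv_a ρ 1 1 (by decide) (by decide)) (inv_eg ρ (by decide) _))
  have n3 : Module.finrank K (eg ρ a1 1 ⊓ eg ρ a2 1 ⊓ eg ρ b1 1 ⊓ eg ρ b2 (-1) : Submodule K V) = 0 :=
    h.six.1
  have h5 : eg ρ a1 1 ⊓ eg ρ a2 1 ⊓ eg ρ b1 1 ⊓ eg ρ b2 1 = eg ρ a1 1 ⊓ eg ρ a2 1 ⊓ eg ρ b1 1 :=
    Submodule.eq_of_le_of_finrank_le inf_le_left (by omega)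
  show v ∈ eg ρ a1 1 ⊓ eg ρ a2 1 ⊓ eg ρ b1 1 ⊓ eg ρ b2 1
  rw [h5]
  exact ⟨⟨f1, f4⟩, f2⟩

/-- a bound used for the multiplicities in the fixed space of the regular `2^3` -/
theorem finrank_d_b1 (h2 : (2 : K) ≠ 0) (h : Mult ρ) :
    Module.finrank K (eg ρ d1 1 ⊓ eg ρ d2 1 ⊓ eg ρ b1 (-1) : Submodule K V) ≤ 2 := by
  have s1 := split ρ h2 (g := b2) (by decide) (W := eg ρ d1 1 ⊓ eg ρ d2 1 ⊓ eg ρ b1 (-1))
    (Inv.inf ρ (Inv.inf ρ (inv_eg ρ (by decide) _) (inv_eg ρ (by decide) _)) (inv_eg ρ (by decide) _))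
  have hle : ∀ z : K, eg ρ d1 1 ⊓ eg ρ d2 1 ⊓ eg ρ b1 (-1) ⊓ eg ρ b2 z ≤ W ρ (-1) z (-1) z := by
    rintro z v ⟨⟨⟨f1, f2⟩, f3⟩, f4⟩
    have f5 := eg_left four_b.xx f3 f1
    have f6 := eg_left four_b.yy f4 f2
    rw [one_mul] at f5 f6
    exact ⟨⟨⟨f5, f6⟩, f3⟩, f4⟩
  have l1 := Submodule.finrank_mono (hle 1)
  have l2 := Submodule.finrank_mono (hle (-1))
  have n1 : Module.finrank K (W ρ (-1) 1 (-1) 1) = 1 := h.nine.2.2.2.2.2.2.2.2
  have n2 : Module.finrank K (W ρ (-1) (-1) (-1) (-1)) = 1 := h.nine.2.2.2.2.1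
  omega

end Cfsg.Agent.H614.AMod
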