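import Cfsg.Agent.H614.AMod.EightB

/-!
# Representations of `Alt (Fin 8)` of degree at most 12: no sign vector

`star` : there is no non-zero vector fixed by `V₄ × V₄`, `s`, `u₁` and negated by `t`.
-/

set_option autoImplicit false
set_option linter.unusedSectionVars false

namespace Cfsg.Agent.H614.AMod

open Equiv Equiv.Perm E8

namespace E8

def k3 : A8 := ⟨swap 2 6 * swap 3 7, by rw [mem_alternatingGroup]; decide⟩

end E8

variable {K V : Type*} [Field K] [AddCommGroup V] [Module K V] [FiniteDimensional K V] {ρ : Representation K A8 V}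

theorem eq_zero_of_neg (h2 : (2 : K) ≠ 0) {v : V} (h : v = -v) : v = 0 := by
  have h5 : (2 : K) • v = 0 := by
    rw [two_smul]
    nth_rw 1 [h]
    exact neg_add_cancel v
  rcases smul_eq_zero.mp h5 with h | h
  · exact absurd h h2
  · exact h

theorem star (h2 : (2 : K) ≠ 0) (hM : Mult ρ) {w : V} (hw0 : w ≠ 0) (hwC : w ∈ W ρ 1 1 1 1) (hs : ρ s w = w)
    (hu : ρ u1 w = w) (ht : ρ t w = -w) : False := by
  obtain ⟨⟨⟨ha1, ha2⟩, hb1⟩, hb2⟩ := hwC
  rw [SetLike.mem_coe, mem_eg_one] at ha1 ha2 hb1 hb2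
  have hd1 : ρ d1 w = w := by rw [show d1 = a1 * b1 from rfl, rho_mul, hb1, ha1]
  have hd2 : ρ d2 w = w := by rw [show d2 = a2 * b2 from rfl, rho_mul, hb2, ha2]
  have hhw : ρ hh w = -w := by rw [show hh = d1 * t by decide, rho_mul, ht, map_neg, hd1]
  have hm1 : ρ (g1 * b2 * g1) w = -w := by
    rw [show g1 * b2 * g1 = d2 * u1 * t by decide, rho_mul, rho_mul, ht, map_neg, map_neg, hu, hd2]
  have hm2 : ρ (g1 * gg * g1) w = -w := by
    rw [show g1 * gg * g1 = t * u1 by decide, rho_mul, hu, ht]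
  -- the space X
  set WA : Submodule K V := eg ρ d1 1 ⊓ eg ρ d2 1 ⊓ eg ρ s 1 with hWA
  have mWA : ∀ y : V, y ∈ WA ↔ ρ d1 y = y ∧ ρ d2 y = y ∧ ρ s y = y := by
    intro y
    rw [hWA]
    simp only [Submodule.mem_inf, mem_eg_one, and_assoc]
  set X : Submodule K V := WA ⊓ eg ρ hh (-1) with hX
  have mX : ∀ y : V, y ∈ X ↔ y ∈ WA ∧ ρ hh y = -y := by
    intro y
    rw [hX, Submodule.mem_inf, mem_eg_neg]
  have hX2 : Module.finrank K X ≤ 2 := by
    refine le_trans ?_ (finrank_d_b1 h2 hM)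
    apply finrank_le_of_map ρ gg
    rintro y ⟨⟨⟨f1, f2⟩, f3⟩, f4⟩
    exact ⟨⟨eg_move ρ (g := d1) (by decide) f1, eg_move ρ (g := s) (by decide) f3⟩,
      eg_move ρ (g := hh) (by decide) f4⟩
  have hwA : w ∈ WA := (mWA w).mpr ⟨hd1, hd2, hs⟩
  have hwX : w ∈ X := (mX w).mpr ⟨hwA, hhw⟩
  -- the vector w₃
  have h3A : ρ k3 w ∈ WA := by
    rw [mWA]
    refine ⟨?_, ?_, ?_⟩
    · rw [← rho_mul, show d1 * k3 = k3 * d1 by decide, rho_mul, hd1]
    · rw [← rho_mul, show d2 * k3 = k3 * (d2 * s) by decide, rho_mul, rho_mul, hs, hd2]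
    · rw [← rho_mul, show s * k3 = k3 * s by decide, rho_mul, hs]
  have h3h : ρ hh (ρ k3 w) = -ρ k3 w := by
    rw [← rho_mul, show hh * k3 = k3 * hh by decide, rho_mul, hhw, map_neg]
  have h3X : ρ k3 w ∈ X := (mX _).mpr ⟨h3A, h3h⟩
  have h3b : ρ b1 (ρ k3 w) = -ρ k3 w := by
    rw [← rho_mul, show b1 * k3 = k3 * (a1 * t) by decide, rho_mul, rho_mul, ht, map_neg, ha1, map_neg]
  have h30 : ρ k3 w ≠ 0 := by
    intro h0
    have := rho_inv_self ρ k3 w
    rw [h0, map_zero] at this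
    exact hw0 this.symm
  have h3g : ρ gg (ρ k3 w) = ρ k3 w := by
    rw [← rho_mul, show gg * k3 = k3 * b2 by decide, rho_mul, hb2]
  -- invariance of WA and X
  have iA : ∀ y ∈ WA, ρ b1 y ∈ WA := by
    intro y hy
    rw [mWA] at hy ⊢
    obtain ⟨y1, y2, y3⟩ := hy
    refine ⟨?_, ?_, ?_⟩
    · rw [← rho_mul, show d1 * b1 = b1 * d1 by decide, rho_mul, y1]
    · rw [← rho_mul, show d2 * b1 = b1 * d2 by decide, rho_mul, y2]
    · rw [← rho_mul, show s * b1 = b1 * (d1 * s) by decide, rho_mul, rho_mul, y3, y1]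
  have iH : ∀ y ∈ WA, ρ hh y ∈ WA := by
    intro y hy
    rw [mWA] at hy ⊢
    obtain ⟨y1, y2, y3⟩ := hy
    refine ⟨?_, ?_, ?_⟩
    · rw [← rho_mul, show d1 * hh = hh * d1 by decide, rho_mul, y1]
    · rw [← rho_mul, show d2 * hh = hh * (d1 * d2) by decide, rho_mul, rho_mul, y2, y1]
    · rw [← rho_mul, show s * hh = hh * s by decide, rho_mul, y3]
  have iX : Inv ρ X b1 := by
    intro y hy
    rw [mX] at hy ⊢
    exact ⟨iA y hy.1, by rw [← rho_mul, show hh * b1 = b1 * hh by decide, rho_mul, hy.2, map_neg]⟩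
  have sp := split ρ h2 four_b.xx iX
  have hp1 : 1 ≤ Module.finrank K (X ⊓ eg ρ b1 1 : Submodule K V) := by
    rw [Nat.one_le_iff_ne_zero]
    intro h0
    rw [Submodule.finrank_eq_zero] at h0
    have : w ∈ X ⊓ eg ρ b1 1 := ⟨hwX, (mem_eg_one ρ).mpr hb1⟩
    rw [h0, Submodule.mem_bot] at this
    exact hw0 this
  have hp2 : 1 ≤ Module.finrank K (X ⊓ eg ρ b1 (-1) : Submodule K V) := by
    rw [Nat.one_le_iff_ne_zero]
    intro h0
    rw [Submodule.finrank_eq_zero] at h0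
    have : ρ k3 w ∈ X ⊓ eg ρ b1 (-1) := ⟨h3X, (mem_eg_neg ρ).mpr h3b⟩
    rw [h0, Submodule.mem_bot] at this
    exact h30 this
  -- the vector v
  set v := ρ g1 w with hv
  have vA : v ∈ WA := by
    rw [mWA, hv]
    refine ⟨?_, ?_, ?_⟩
    · rw [← rho_mul, show d1 * g1 = g1 * s by decide, rho_mul, hs]
    · rw [← rho_mul, show d2 * g1 = g1 * d2 by decide, rho_mul, hd2]
    · rw [← rho_mul, show s * g1 = g1 * d1 by decide, rho_mul, hd1]
  have vb2 : ρ b2 v = -v := by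
    rw [hv, ← rho_mul, show b2 * g1 = g1 * (g1 * b2 * g1) by decide, rho_mul, hm1, map_neg]
  have vgg : ρ gg v = -v := by
    rw [hv, ← rho_mul, show gg * g1 = g1 * (g1 * gg * g1) by decide, rho_mul, hm2, map_neg]
  -- products
  have r1 : ρ b2 (ρ hh v) = -ρ hh (ρ b1 v) := by
    rw [← rho_mul, show b2 * hh = hh * b1 * b2 by decide, rho_mul, rho_mul, vb2, map_neg, map_neg]
  have r2 : ρ b2 (ρ b1 v) = -ρ b1 v := by
    rw [← rho_mul, show b2 * b1 = b1 * b2 by decide, rho_mul, vb2, map_neg]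
  have r3 : ρ b2 (ρ hh (ρ b1 v)) = -ρ hh v := by
    rw [← rho_mul, ← rho_mul, show b2 * hh * b1 = hh * b2 by decide, rho_mul, vb2, map_neg]
  have q1 : ρ gg (ρ hh v) = -ρ b1 v := by
    rw [← rho_mul, show gg * hh = b1 * gg by decide, rho_mul, vgg, map_neg]
  have q2 : ρ gg (ρ b1 v) = -ρ hh v := by
    rw [← rho_mul, show gg * b1 = hh * gg by decide, rho_mul, vgg, map_neg]
  have q3 : ρ gg (ρ hh (ρ b1 v)) = -ρ hh (ρ b1 v) := by
    rw [← rho_mul, ← rho_mul, show gg * hh * b1 = hh * b1 * gg by decide, rho_mul, vgg, map_neg, rho_mul]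
  have b11 : ρ b1 (ρ b1 v) = v := by rw [← rho_mul, four_b.xx, rho_one]
  have hhh : ρ hh (ρ hh v) = v := by rw [← rho_mul, show hh * hh = 1 by decide, rho_one]
  have hbh : ρ b1 (ρ hh v) = ρ hh (ρ b1 v) := by
    rw [← rho_mul, show b1 * hh = hh * b1 by decide, rho_mul]
  have hbhb : ρ b1 (ρ hh (ρ b1 v)) = ρ hh v := by
    rw [← rho_mul, ← rho_mul, show b1 * hh * b1 = hh by decide]
  have hhhb : ρ hh (ρ hh (ρ b1 v)) = ρ b1 v := by
    rw [← rho_mul, ← rho_mul, show hh * hh * b1 = b1 by decide]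
  have p1 : v + ρ b1 v - ρ hh v - ρ hh (ρ b1 v) = 0 := by
    set p := v + ρ b1 v - ρ hh v - ρ hh (ρ b1 v) with hp
    have pX : p ∈ X ⊓ eg ρ b1 1 := by
      refine ⟨(mX _).mpr ⟨?_, ?_⟩, ?_⟩
      · exact WA.sub_mem (WA.sub_mem (WA.add_mem vA (iA _ vA)) (iH _ vA)) (iH _ (iA _ vA))
      · rw [hp, map_sub, map_sub, map_add, hhh, hhhb]; abel
      · rw [SetLike.mem_coe, mem_eg_one, hp, map_sub, map_sub, map_add, b11, hbh, hbhb]; abel
    obtain ⟨x, hx⟩ := line_span (by omega) (⟨hwX, (mem_eg_one ρ).mpr hb1⟩ : w ∈ X ⊓ eg ρ b1 1) hw0 pX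
    have e1 : ρ b2 p = p := by rw [hx, map_smul, hb2]
    have e2 : ρ b2 p = -p := by
      rw [hp, map_sub, map_sub, map_add, vb2, r2, r1, r3]; abel
    exact eq_zero_of_neg h2 (e1.symm.trans e2)
  have p3 : v - ρ b1 v - ρ hh v + ρ hh (ρ b1 v) = 0 := by
    set p := v - ρ b1 v - ρ hh v + ρ hh (ρ b1 v) with hp
    have pX : p ∈ X ⊓ eg ρ b1 (-1) := by
      refine ⟨(mX _).mpr ⟨?_, ?_⟩, ?_⟩
      · exact WA.add_mem (WA.sub_mem (WA.sub_mem vA (iA _ vA)) (iH _ vA)) (iH _ (iA _ vA))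
      · rw [hp, map_add, map_sub, map_sub, hhh, hhhb]; abel
      · rw [SetLike.mem_coe, mem_eg_neg, hp, map_add, map_sub, map_sub, b11, hbh, hbhb]; abel
    obtain ⟨x, hx⟩ := line_span (by omega) (⟨h3X, (mem_eg_neg ρ).mpr h3b⟩ : ρ k3 w ∈ X ⊓ eg ρ b1 (-1)) h30 pX
    have e1 : ρ gg p = p := by rw [hx, map_smul, h3g]
    have e2 : ρ gg p = -p := by
      rw [hp, map_add, map_sub, map_sub, vgg, q2, q1, q3]; abel
    exact eq_zero_of_neg h2 (e1.symm.trans e2)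
  have hv2 : ρ hh v = v := by
    have e1 : (2 : K) • (v - ρ hh v) = 0 := by
      have : (2 : K) • (v - ρ hh v) = (v + ρ b1 v - ρ hh v - ρ hh (ρ b1 v)) +
          (v - ρ b1 v - ρ hh v + ρ hh (ρ b1 v)) := by rw [two_smul]; abel
      rw [this, p1, p3, add_zero]
    rcases smul_eq_zero.mp e1 with h | h
    · exact absurd h h2
    · exact (sub_eq_zero.mp h).symm
  have hk : ρ k3 w = w := by
    have e1 : ρ k3 w = ρ g1 (ρ hh (ρ g1 w)) := by
      rw [← rho_mul, ← rho_mul, show g1 * hh * g1 = k3 by decide]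
    rw [e1, hv2, hv, ← rho_mul, show g1 * g1 = 1 by decide, rho_one]
  have hfin : ρ (a1 * t) w = w := by
    rw [show a1 * t = s * (k3 * (a1 * (k3 * s))) by decide, rho_mul, rho_mul, rho_mul, rho_mul, hs, hk, ha1, hk, hs]
  rw [rho_mul, ht, map_neg, ha1] at hfin
  exact hw0 (eq_zero_of_neg h2 hfin.symm)

end Cfsg.Agent.H614.AMod
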