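import Cfsg.Agent.H614.AMod.EightC

/-!
# Representations of `Alt (Fin 8)` of degree at most 12, odd or zero characteristic

`not_nz` : `(a₁ - 1)(b₁ - 1) = 0` for the disjoint double transpositions `a₁, b₁`.
-/

set_option autoImplicit false
set_option linter.unusedSectionVars false

namespace Cfsg.Agent.H614.AMod

open Equiv Equiv.Perm E8

namespace E8

/-- conjugation by `(4 5)` -/
def tw : A8 →* A8 where
  toFun g := ⟨swap 4 5 * g.1 * swap 4 5, by
    rw [mem_alternatingGroup, Perm.sign_mul, Perm.sign_mul, mem_alternatingGroup.mp g.2, mul_one, ← Perm.sign_mul,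
      swap_mul_self, Perm.sign_one]⟩
  map_one' := by
    apply Subtype.ext
    show swap 4 5 * 1 * swap 4 5 = 1
    rw [mul_one, swap_mul_self]
  map_mul' g h := by
    apply Subtype.ext
    show swap 4 5 * (g.1 * h.1) * swap 4 5 = (swap 4 5 * g.1 * swap 4 5) * (swap 4 5 * h.1 * swap 4 5)
    rw [show (swap 4 5 * g.1 * swap 4 5) * (swap 4 5 * h.1 * swap 4 5) =
      swap 4 5 * g.1 * (swap 4 5 * swap 4 5) * h.1 * swap 4 5 by simp only [mul_assoc], swap_mul_self, mul_one]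
    simp only [mul_assoc]

def u2 : A8 := c * c'⁻¹

end E8

variable {K V : Type*} [Field K] [AddCommGroup V] [Module K V] [FiniteDimensional K V] {ρ : Representation K A8 V}

/-- the twisted representation -/
def twr (ρ : Representation K A8 V) : Representation K A8 V := MonoidHom.comp ρ tw

theorem twr_apply (g : A8) (v : V) : twr ρ g v = ρ (tw g) v := rfl

theorem tw_tw (g : A8) : tw (tw g) = g := by
  apply Subtype.ext
  show swap 4 5 * (swap 4 5 * g.1 * swap 4 5) * swap 4 5 = g.1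
  rw [show swap 4 5 * (swap 4 5 * g.1 * swap 4 5) * swap 4 5 =
    (swap 4 5 * swap 4 5) * g.1 * (swap 4 5 * swap 4 5) by simp only [mul_assoc], swap_mul_self, one_mul, mul_one]

theorem twr_twr : twr (twr ρ) = ρ := by
  apply MonoidHom.ext
  intro g
  apply LinearMap.ext
  intro v
  rw [twr_apply, twr_apply, tw_tw]

/-- the fixed space of `V₄ × V₄` -/
structure InC (ρ : Representation K A8 V) (v : V) : Prop where
  a1 : ρ a1 v = v
  a2 : ρ a2 v = v
  b1 : ρ b1 v = v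
  b2 : ρ b2 v = v

theorem inC_iff {v : V} : v ∈ W ρ 1 1 1 1 ↔ InC ρ v := by
  constructor
  · rintro ⟨⟨⟨h1, h2⟩, h3⟩, h4⟩
    exact ⟨(mem_eg_one ρ).mp h1, (mem_eg_one ρ).mp h2, (mem_eg_one ρ).mp h3, (mem_eg_one ρ).mp h4⟩
  · rintro ⟨h1, h2, h3, h4⟩
    exact ⟨⟨⟨(mem_eg_one ρ).mpr h1, (mem_eg_one ρ).mpr h2⟩, (mem_eg_one ρ).mpr h3⟩, (mem_eg_one ρ).mpr h4⟩

theorem InC.d1 {v : V} (h : InC ρ v) : ρ d1 v = v := by rw [show E8.d1 = E8.a1 * E8.b1 from rfl, rho_mul, h.b1, h.a1]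
theorem InC.d2 {v : V} (h : InC ρ v) : ρ d2 v = v := by rw [show E8.d2 = E8.a2 * E8.b2 from rfl, rho_mul, h.b2, h.a2]

theorem InC.tw {v : V} (h : InC ρ v) : InC (twr ρ) v := by
  refine ⟨?_, ?_, ?_, ?_⟩
  · rw [twr_apply, show E8.tw E8.a1 = E8.a1 by decide, h.a1]
  · rw [twr_apply, show E8.tw E8.a2 = E8.a2 by decide, h.a2]
  · rw [twr_apply, show E8.tw E8.b1 = E8.b1 by decide, h.b1]
  · rw [twr_apply, show E8.tw E8.b2 = E8.b1 * E8.b2 by decide, rho_mul, h.b2, h.b1]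

theorem InC.of_tw {v : V} (h : InC (twr ρ) v) : InC ρ v := by
  have := h.tw
  rwa [twr_twr] at this

theorem InC.add {v w : V} (h : InC ρ v) (h' : InC ρ w) : InC ρ (v + w) := by
  constructor <;> rw [map_add]
  · rw [h.a1, h'.a1]
  · rw [h.a2, h'.a2]
  · rw [h.b1, h'.b1]
  · rw [h.b2, h'.b2]

theorem InC.neg {v : V} (h : InC ρ v) : InC ρ (-v) := by
  constructor <;> rw [map_neg]
  · rw [h.a1]
  · rw [h.a2]
  · rw [h.b1]
  · rw [h.b2]

theorem InC.sub {v w : V} (h : InC ρ v) (h' : InC ρ w) : InC ρ (v - w) := by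
  rw [sub_eq_add_neg]
  exact h.add h'.neg

theorem InC.s {v : V} (h : InC ρ v) : InC ρ (ρ s v) := by
  constructor
  · rw [← rho_mul, show E8.a1 * E8.s = E8.s * E8.b1 by decide, rho_mul, h.b1]
  · rw [← rho_mul, show E8.a2 * E8.s = E8.s * E8.b2 by decide, rho_mul, h.b2]
  · rw [← rho_mul, show E8.b1 * E8.s = E8.s * E8.a1 by decide, rho_mul, h.a1]
  · rw [← rho_mul, show E8.b2 * E8.s = E8.s * E8.a2 by decide, rho_mul, h.a2]

theorem InC.t {v : V} (h : InC ρ v) : InC ρ (ρ t v) := by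
  constructor
  · rw [← rho_mul, show E8.a1 * E8.t = E8.t * E8.a1 by decide, rho_mul, h.a1]
  · rw [← rho_mul, show E8.a2 * E8.t = E8.t * (E8.a1 * E8.a2) by decide, rho_mul, rho_mul, h.a2, h.a1]
  · rw [← rho_mul, show E8.b1 * E8.t = E8.t * E8.b1 by decide, rho_mul, h.b1]
  · rw [← rho_mul, show E8.b2 * E8.t = E8.t * (E8.b1 * E8.b2) by decide, rho_mul, rho_mul, h.b2, h.b1]

theorem s'_eq : E8.s' = E8.s * E8.t := by decide

theorem InC.s' {v : V} (h : InC ρ v) : InC ρ (ρ s' v) := by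
  rw [s'_eq, rho_mul]
  exact h.t.s

theorem InC.c {v : V} (h : InC ρ v) : InC ρ (ρ c v) := by
  constructor
  · rw [← rho_mul, show E8.a1 * E8.c = E8.c * E8.a2 by decide, rho_mul, h.a2]
  · rw [← rho_mul, show E8.a2 * E8.c = E8.c * (E8.a1 * E8.a2) by decide, rho_mul, rho_mul, h.a2, h.a1]
  · rw [← rho_mul, show E8.b1 * E8.c = E8.c * E8.b1 by decide, rho_mul, h.b1]
  · rw [← rho_mul, show E8.b2 * E8.c = E8.c * E8.b2 by decide, rho_mul, h.b2]

theorem InC.c' {v : V} (h : InC ρ v) : InC ρ (ρ c' v) := by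
  constructor
  · rw [← rho_mul, show E8.a1 * E8.c' = E8.c' * E8.a1 by decide, rho_mul, h.a1]
  · rw [← rho_mul, show E8.a2 * E8.c' = E8.c' * E8.a2 by decide, rho_mul, h.a2]
  · rw [← rho_mul, show E8.b1 * E8.c' = E8.c' * E8.b2 by decide, rho_mul, h.b2]
  · rw [← rho_mul, show E8.b2 * E8.c' = E8.c' * (E8.b1 * E8.b2) by decide, rho_mul, rho_mul, h.b2, h.b1]

theorem InC.u1 {v : V} (h : InC ρ v) : InC ρ (ρ u1 v) := by
  rw [show E8.u1 = E8.c * E8.c' from rfl, rho_mul]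
  exact h.c'.c

theorem InC.u2 {v : V} (h : InC ρ v) : InC ρ (ρ u2 v) := by
  rw [show E8.u2 = E8.c * (E8.c' * E8.c') by decide, rho_mul, rho_mul]
  exact h.c'.c'.c

/-- the hypotheses -/
structure Sit (ρ : Representation K A8 V) : Prop where
  two : (2 : K) ≠ 0
  nz : NZ ρ
  le : Module.finrank K V ≤ 12

theorem Sit.mult (h : Sit ρ) : Mult ρ := weights h.two h.nz h.le

theorem Sit.tw (h : Sit ρ) : Sit (twr ρ) := by
  refine ⟨h.two, ?_, h.le⟩
  obtain ⟨v, hv⟩ := h.nz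
  refine ⟨v, ?_⟩
  rw [twr_apply, twr_apply, show E8.tw E8.a1 = E8.a1 by decide, show E8.tw E8.b1 = E8.b1 by decide]
  exact hv

/-- `C ∩ {s = -1}` is a line -/
theorem Sit.line (h : Sit ρ) : ∃ e : V, e ≠ 0 ∧ InC ρ e ∧ ρ s e = -e ∧ ∀ v, InC ρ v → ρ s v = -v → ∃ x : K, v = x • e := by
  obtain ⟨e, he0, heC, hes, hall⟩ := exists_line h.two h.mult
  exact ⟨e, he0, inC_iff.mp heC, hes, fun v hv hs => hall v hv.d1 hv.d2 hs⟩

/-- `C ∩ {s' = -1}` is a line -/
theorem Sit.line' (h : Sit ρ) :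
    ∃ e : V, e ≠ 0 ∧ InC ρ e ∧ ρ s' e = -e ∧ ∀ v, InC ρ v → ρ s' v = -v → ∃ x : K, v = x • e := by
  obtain ⟨e, he0, heC, hes, hall⟩ := h.tw.line
  rw [twr_apply, show E8.tw E8.s = E8.s' by decide] at hes
  refine ⟨e, he0, heC.of_tw, hes, fun v hv hs => hall v hv.tw ?_⟩
  rw [twr_apply, show E8.tw E8.s = E8.s' by decide]
  exact hs

theorem Sit.P1 (h : Sit ρ) {v : V} (hv : InC ρ v) (hs' : ρ s' v = -v) : ρ s v = v := by
  have h2 := h.two
  obtain ⟨e1, e10, e1C, e1s, e1all⟩ := h.line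
  obtain ⟨e2, e20, e2C, e2s, e2all⟩ := h.line'
  obtain ⟨v0, v00, v0C, v0t⟩ := exists_t h.two h.mult
  rw [inC_iff] at v0C
  have ss : ∀ y : V, ρ s (ρ s y) = y := fun y => by rw [← rho_mul, show s * s = 1 by decide, rho_one]
  have hts : ∀ y : V, ρ t (ρ s y) = ρ s (ρ t y) := fun y => by
    rw [← rho_mul, show t * s = s * t by decide, rho_mul]
  have hs's : ∀ y : V, ρ s' y = ρ s (ρ t y) := fun y => by rw [s'_eq, rho_mul]
  have main : ρ s e2 = e2 := by
    obtain ⟨x, hx⟩ := e2all (ρ s e2) e2C.s (by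
      rw [← rho_mul, show s' * s = s * s' by decide, rho_mul, e2s, map_neg])
    have hxx : (x * x) • e2 = (1 : K) • e2 := by
      rw [one_smul, ← smul_smul, ← hx, ← map_smul, ← hx, ss]
    have hx1 := smul_left_injective K e20 hxx
    rcases mul_self_eq_one_iff.mp hx1 with h1 | h1
    · rw [hx, h1, one_smul]
    · exfalso
      rw [h1, neg_one_smul] at hx
      have te2 : ρ t e2 = e2 := by
        have h3 := hs's e2
        rw [e2s] at h3
        have h4 := congrArg (ρ s) h3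
        rw [ss, map_neg, hx, neg_neg] at h4
        exact h4.symm
      have hy : ρ s (v0 + ρ s v0) = v0 + ρ s v0 := by rw [map_add, ss, add_comm]
      have hy2 : ρ t (v0 + ρ s v0) = -(v0 + ρ s v0) := by rw [map_add, hts, v0t, map_neg]; abel
      obtain ⟨z, hz⟩ := e2all (v0 + ρ s v0) (v0C.add v0C.s) (by rw [hs's, hy2, map_neg, hy])
      have h5 : v0 + ρ s v0 = -(v0 + ρ s v0) := by
        nth_rw 1 [← hy]
        rw [hz, map_smul, hx, smul_neg]
      have h6 := eq_zero_of_neg h2 h5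
      obtain ⟨y1, hy1⟩ := e1all v0 v0C (eq_neg_of_add_eq_zero_right h6)
      obtain ⟨y2, hy2⟩ := e1all e2 e2C hx
      have hy20 : y2 ≠ 0 := by
        rintro rfl
        rw [zero_smul] at hy2
        exact e20 hy2
      have h7 : v0 = (y1 * y2⁻¹) • e2 := by
        rw [hy2, smul_smul, mul_assoc, inv_mul_cancel₀ hy20, mul_one, hy1]
      have h8 : ρ t v0 = v0 := by rw [h7, map_smul, te2]
      rw [v0t] at h8
      exact v00 (eq_zero_of_neg h2 h8.symm)
  obtain ⟨x, rfl⟩ := e2all v hv hs'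
  rw [map_smul, main]

theorem Sit.P1' (h : Sit ρ) {v : V} (hv : InC ρ v) (hs : ρ s v = -v) : ρ s' v = v := by
  have h1 := h.tw.P1 (v := v) hv.tw (by
    rw [twr_apply, show E8.tw E8.s' = E8.s by decide]
    exact hs)
  rwa [twr_apply, show E8.tw E8.s = E8.s' by decide] at h1

/-- a scalar of order dividing 2 and 3 -/
theorem eq_one_of_sq_cube {x : K} (h2 : x * x = 1) (h3 : x * x * x = 1) : x = 1 := by
  rwa [h2, one_mul] at h3

theorem Sit.P2 (h : Sit ρ) {v : V} (hv : InC ρ v) (hs' : ρ s' v = -v) : ρ u2 v = v := by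
  obtain ⟨e2, e20, e2C, e2s, e2all⟩ := h.line'
  have se2 := h.P1 e2C e2s
  obtain ⟨x, hx⟩ := e2all (ρ u2 e2) e2C.u2 (by
    rw [← rho_mul, show s' * u2 = u2 * s' by decide, rho_mul, e2s, map_neg])
  have inj : ∀ {p q : K}, p • e2 = q • e2 → p = q := fun {p q} hpq => smul_left_injective K e20 hpq
  have h1 : ρ u2⁻¹ e2 = x • e2 := by
    have h3 : ρ s (ρ u2 e2) = ρ u2⁻¹ (ρ s e2) := by
      rw [← rho_mul, show s * u2 = u2⁻¹ * s by decide, rho_mul]
    rw [hx, map_smul, se2] at h3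
    exact h3.symm
  have h3 : x * x = 1 := by
    apply inj
    rw [one_smul, ← smul_smul, ← hx, ← map_smul, ← h1, rho_self_inv]
  have h4 : x * x * x = 1 := by
    apply inj
    have h5 : ρ u2 (ρ u2 (ρ u2 e2)) = e2 := by
      rw [← rho_mul, ← rho_mul, show u2 * u2 * u2 = 1 by decide, rho_one]
    rw [hx, map_smul, map_smul, hx, map_smul, hx, smul_smul, smul_smul] at h5
    rw [one_smul]
    exact h5
  have h5 := eq_one_of_sq_cube h3 h4
  obtain ⟨y, rfl⟩ := e2all v hv hs'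
  rw [map_smul, hx, h5, one_smul]

theorem Sit.P3 (h : Sit ρ) {v : V} (hv : InC ρ v) (hs' : ρ s' v = -v) (hv0 : v ≠ 0) : ρ u1 v ≠ v := by
  intro hu
  have h1 := h.P1 hv hs'
  apply star h.two h.mult hv0 (inC_iff.mpr hv) h1 hu
  have h3 : ρ t v = ρ s (ρ s' v) := by rw [← rho_mul, show s * s' = t by decide]
  rw [h3, hs', map_neg, h1]

theorem finrank_C (h : Sit ρ) : Module.finrank K (W ρ 1 1 1 1) ≤ 3 := by
  have h1 := total ρ h.two
  have h3 := h.mult
  have h4 := h.le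
  rw [h3.c_one, h3.b_zero] at h1
  have : Module.finrank K (W ρ 1 1 1 1) = nW ρ 1 1 1 1 := rfl
  omega

/-- linear independence of `e` and `u₁ e - e` -/
theorem Sit.indep (h : Sit ρ) {e : V} (he : InC ρ e) (hs' : ρ s' e = -e) (he0 : e ≠ 0) {x y : K}
    (hxy : x • e + y • (ρ u1 e - e) = 0) : x = 0 ∧ y = 0 := by
  have hu := h.P3 he hs' he0
  by_cases hy : y = 0
  · rw [hy, zero_smul, add_zero] at hxy
    rcases smul_eq_zero.mp hxy with h1 | h1
    · exact ⟨h1, hy⟩
    · exact absurd h1 he0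
  · exfalso
    have h1 : ρ u1 e = (1 - y⁻¹ * x) • e := by
      have h3 : y • (ρ u1 e - e) = -(x • e) := eq_neg_of_add_eq_zero_right hxy
      have h4 : ρ u1 e - e = -((y⁻¹ * x) • e) := by
        have h5 := congrArg (fun w => y⁻¹ • w) h3
        simp only [smul_smul, inv_mul_cancel₀ hy, one_smul, smul_neg] at h5
        exact h5
      rw [sub_smul, one_smul, ← sub_eq_zero]
      have h6 : ρ u1 e - (e - (y⁻¹ * x) • e) = (ρ u1 e - e) + (y⁻¹ * x) • e := by abel
      rw [h6, h4, neg_add_cancel]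
    set k := 1 - y⁻¹ * x
    have inj : ∀ {p q : K}, p • e = q • e → p = q := fun {p q} hpq => smul_left_injective K he0 hpq
    have h3 : ρ u1⁻¹ e = k • e := by
      have h4 : ρ s' (ρ u1 e) = ρ u1⁻¹ (ρ s' e) := by
        rw [← rho_mul, show s' * u1 = u1⁻¹ * s' by decide, rho_mul]
      rw [h1, map_smul, hs', map_neg, smul_neg] at h4
      exact (neg_injective h4).symm
    have h4 : k * k = 1 := by
      apply inj
      rw [one_smul, ← smul_smul, ← h1, ← map_smul, ← h3, rho_self_inv]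
    have h5 : k * k * k = 1 := by
      apply inj
      have h6 : ρ u1 (ρ u1 (ρ u1 e)) = e := by
        rw [← rho_mul, ← rho_mul, show u1 * u1 * u1 = 1 by decide, rho_one]
      rw [h1, map_smul, map_smul, h1, map_smul, h1, smul_smul, smul_smul] at h6
      rw [one_smul]
      exact h6
    rw [eq_one_of_sq_cube h4 h5, one_smul] at h1
    exact hu h1

theorem Sit.P4 (h : Sit ρ) {v : V} (hv : InC ρ v) (hs : ρ s v = v) : ρ u2 v = v := by
  obtain ⟨e1, e10, e1C, e1s, e1all⟩ := h.line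
  obtain ⟨e2, e20, e2C, e2s, e2all⟩ := h.line'
  have se2 := h.P1 e2C e2s
  set z := ρ u1 e2 - e2 with hz
  have hsz : ρ s z = z := by
    rw [hz, map_sub, ← rho_mul, show s * u1 = u1 * s by decide, rho_mul, se2]
  have hzC : InC ρ z := e2C.u1.sub e2C
  -- the space C⁺
  have hsp := split ρ h.two (g := s) (by decide) (W := W ρ 1 1 1 1) (fun w hw => inC_iff.mpr (inC_iff.mp hw).s)
  have h3 := finrank_C h
  have h4 : 1 ≤ Module.finrank K (W ρ 1 1 1 1 ⊓ eg ρ s (-1) : Submodule K V) := by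
    rw [Nat.one_le_iff_ne_zero]
    intro h0
    rw [Submodule.finrank_eq_zero] at h0
    have : e1 ∈ W ρ 1 1 1 1 ⊓ eg ρ s (-1) := ⟨inC_iff.mpr e1C, (mem_eg_neg ρ).mpr e1s⟩
    rw [h0, Submodule.mem_bot] at this
    exact e10 this
  have hli : LinearIndependent K ![e2, z] := by
    rw [LinearIndependent.pair_iff]
    intro x y hxy
    exact h.indep e2C e2s e20 hxy
  have h5 : Submodule.span K (Set.range ![e2, z]) = W ρ 1 1 1 1 ⊓ eg ρ s 1 := by
    apply Submodule.eq_of_le_of_finrank_le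
    · rw [Submodule.span_le]
      rintro _ ⟨i, rfl⟩
      fin_cases i
      · exact ⟨inC_iff.mpr e2C, (mem_eg_one ρ).mpr se2⟩
      · exact ⟨inC_iff.mpr hzC, (mem_eg_one ρ).mpr hsz⟩
    · rw [finrank_span_eq_card hli, Fintype.card_fin]
      omega
  have h6 : v ∈ Submodule.span K (Set.range ![e2, z]) := by
    rw [h5]
    exact ⟨inC_iff.mpr hv, (mem_eg_one ρ).mpr hs⟩
  have u2e : ρ u2 e2 = e2 := h.P2 e2C e2s
  have u2z : ρ u2 z = z := by
    rw [hz, map_sub, ← rho_mul, show u2 * u1 = u1 * u2 by decide, rho_mul, u2e]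
  clear hv hs
  induction h6 using Submodule.span_induction with
  | mem x hx =>
    obtain ⟨i, rfl⟩ := hx
    fin_cases i
    · exact u2e
    · exact u2z
  | zero => exact map_zero _
  | add x y _ _ hx hy => rw [map_add, hx, hy]
  | smul a x _ hx => rw [map_smul, hx]

end Cfsg.Agent.H614.AMod
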