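import Cfsg.Agent.H614.AMod.EightD

/-!
# Representations of `Alt (Fin 8)` of degree at most 12, odd or zero characteristic

* `not_nz` : `(a₁ - 1)(b₁ - 1) = 0`;
* `c'_fix` : the 3-cycle `(4 5 6)` acts trivially on `[V, (0 1)(2 3)]`.
-/

set_option autoImplicit false
set_option linter.unusedSectionVars false

namespace Cfsg.Agent.H614.AMod

open Equiv Equiv.Perm E8

variable {K V : Type*} [Field K] [AddCommGroup V] [Module K V] [FiniteDimensional K V] {ρ : Representation K A8 V}

/-- In the exceptional case the characteristic is 3 and `z = u₁ e - e` is fixed by everything. -/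
theorem Sit.three (h : Sit ρ) {e : V} (he : InC ρ e) (hs' : ρ s' e = -e) (he0 : e ≠ 0) :
    ρ s' (ρ u1 e - e) = ρ u1 e - e ∧ ∀ v : V, InC ρ v → ρ s' v = v → ρ u1 v = v := by
  have h2 := h.two
  -- the twisted statement
  have P4' : ∀ v : V, InC ρ v → ρ s' v = v → ρ u1 v = v := by
    intro v hv hs
    have h1 := h.tw.P4 (v := v) hv.tw (by
      rw [twr_apply, show E8.tw s = s' by decide]
      exact hs)
    rwa [twr_apply, show E8.tw u2 = u1 by decide] at h1
  refine ⟨?_, P4'⟩
  obtain ⟨e2, e20, e2C, e2s, e2all⟩ := h.line'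
  have se := h.P1 he hs'
  set z := ρ u1 e - e with hz
  have hzC : InC ρ z := he.u1.sub he
  have ss : ∀ y : V, ρ s' (ρ s' y) = y := fun y => by rw [← rho_mul, show s' * s' = 1 by decide, rho_one]
  -- z - s' z is a multiple of e
  obtain ⟨y2, hy2⟩ := e2all e he hs'
  have hy20 : y2 ≠ 0 := by
    rintro rfl
    rw [zero_smul] at hy2
    exact he0 hy2
  obtain ⟨x', hx'⟩ := e2all (z - ρ s' z) (hzC.sub hzC.s') (by rw [map_sub, ss]; abel)
  obtain ⟨x, hx⟩ : ∃ x : K, z - ρ s' z = x • e := ⟨x' * y2⁻¹, by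
    rw [hy2, smul_smul, mul_assoc, inv_mul_cancel₀ hy20, mul_one, hx']⟩
  have hp : ρ u1 (z + ρ s' z) = z + ρ s' z := by
    apply P4' _ (hzC.add hzC.s')
    rw [map_add, ss, add_comm]
  have hue : ρ u1 e = e + z := by rw [hz]; abel
  -- relation from the inversion
  have h5 : ρ u1 (ρ u1 e) = e - ρ s' z := by
    have h6 : ρ s' (ρ u1 e) = ρ (u1 * u1) (ρ s' e) := by
      rw [← rho_mul, show s' * u1 = (u1 * u1) * s' by decide, rho_mul]
    rw [hs', map_neg, rho_mul, hue, map_add, hs'] at h6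
    rw [hue]
    have h7 := congrArg Neg.neg h6
    rw [neg_neg] at h7
    rw [← h7]
    abel
  rw [hue, map_add, hue] at h5
  -- 2 z = (z + s' z) + x e
  have h6 : (2 : K) • z = (z + ρ s' z) + x • e := by rw [← hx, two_smul]; abel
  have h7 : (2 : K) • ρ u1 z = (2 : K) • z + x • z := by
    rw [← map_smul, h6, map_add, hp, map_smul, hue, smul_add]
    abel
  have h8 : z + ρ s' z + ρ u1 z = 0 := by
    have : e + z + ρ u1 z - (e - ρ s' z) = 0 := by rw [h5, sub_self]
    rw [← this]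
    abel
  have h9 : (-(2 * x)) • e + (6 + x) • z = 0 := by
    have h10 : (2 : K) • (z + ρ s' z) + ((2 : K) • z + x • z) = 0 := by
      rw [← h7, ← smul_add, h8, smul_zero]
    have h11 : ρ s' z = z - x • e := by rw [← hx]; abel
    rw [h11] at h10
    rw [← h10]
    module
  obtain ⟨h12, -⟩ := h.indep he hs' he0 h9
  have hx0 : x = 0 := by
    rcases mul_eq_zero.mp (neg_eq_zero.mp h12) with h | h
    · exact absurd h h2
    · exact h
  rw [hx0, zero_smul, sub_eq_zero] at hx
  exact hx.symm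

/-- the dual representation satisfies the hypotheses -/
theorem Sit.dual (h : Sit ρ) : Sit (ρ.dual) := by
  refine ⟨h.two, ?_, ?_⟩
  · obtain ⟨v, hv⟩ := h.nz
    have hne : ρ a1 (ρ b1 v - v) - (ρ b1 v - v) ≠ 0 := hv
    obtain ⟨φ, hφ⟩ : ∃ φ : Module.Dual K V, φ (ρ a1 (ρ b1 v - v) - (ρ b1 v - v)) ≠ 0 := by
      by_contra hall
      push Not at hall
      exact hne ((Module.forall_dual_apply_eq_zero_iff K _).mp hall)
    refine ⟨φ, fun h0 => hφ ?_⟩
    have h1 := congrArg (fun ψ : Module.Dual K V => ψ v) h0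
    simp only [Representation.dual_apply, LinearMap.sub_apply, LinearMap.zero_apply, Module.Dual.transpose_apply,
      LinearMap.comp_apply, map_sub] at h1
    rw [show (a1 : A8)⁻¹ = a1 by decide, show (b1 : A8)⁻¹ = b1 by decide] at h1
    rw [map_sub, map_sub, map_sub, map_sub, ← rho_mul, show a1 * b1 = b1 * a1 by decide, rho_mul]
    rw [← h1]
  · rw [Subspace.dual_finrank_eq]
    exact h.le

/-- the elements of `V₄ × V₄` -/
def E16 : Multiset A8 :=
  {1, b2, b1, b1 * b2, a2, a2 * b2, a2 * b1, a2 * (b1 * b2), a1, a1 * b2, a1 * b1, a1 * (b1 * b2), a1 * a2,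
    a1 * (a2 * b2), a1 * (a2 * b1), a1 * (a2 * (b1 * b2))}

/-- sixteen times the projection on the fixed space -/
def avg (ρ : Representation K A8 V) : V →ₗ[K] V := (E16.map fun e => (ρ e : V →ₗ[K] V)).sum

theorem avg_apply (v : V) : avg ρ v = (E16.map fun e => ρ e v).sum := by
  unfold avg
  have : ∀ S : Multiset A8, (S.map fun e => (ρ e : V →ₗ[K] V)).sum v = (S.map fun e => ρ e v).sum := by
    intro S
    induction S using Multiset.induction with
    | empty => rfl
    | cons a S ih =>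
      rw [Multiset.map_cons, Multiset.sum_cons, LinearMap.add_apply, ih, Multiset.map_cons, Multiset.sum_cons]
  exact this E16

theorem avg_left (g : A8) (v : V) : ρ g (avg ρ v) = ((E16.map fun e => g * e).map fun e => ρ e v).sum := by
  rw [avg_apply, map_multiset_sum, Multiset.map_map, Multiset.map_map]
  congr 1
  apply Multiset.map_congr rfl
  intro e _
  exact (rho_mul ρ g e v).symm

theorem avg_right (g : A8) (v : V) : avg ρ (ρ g v) = ((E16.map fun e => e * g).map fun e => ρ e v).sum := by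
  rw [avg_apply, Multiset.map_map]
  congr 1
  apply Multiset.map_congr rfl
  intro e _
  exact (rho_mul ρ e g v).symm

theorem avg_comm {g : A8} (hg : (E16.map fun e => g * e) = E16.map fun e => e * g) (v : V) :
    avg ρ (ρ g v) = ρ g (avg ρ v) := by rw [avg_left, avg_right, hg]

theorem avg_fix {g : A8} (hg : (E16.map fun e => g * e) = E16) (v : V) : ρ g (avg ρ v) = avg ρ v := by
  rw [avg_left, hg, avg_apply]

theorem avg_fix' {g : A8} (hg : (E16.map fun e => e * g) = E16) (v : V) : avg ρ (ρ g v) = avg ρ v := by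
  rw [avg_right, hg, avg_apply]

theorem avg_inC (v : V) : InC ρ (avg ρ v) :=
  ⟨avg_fix (by decide) v, avg_fix (by decide) v, avg_fix (by decide) v, avg_fix (by decide) v⟩

theorem avg_of_inC {v : V} (h : InC ρ v) : avg ρ v = (16 : K) • v := by
  have h1 : ∀ e ∈ E16, ρ e v = v := by
    intro e he
    have h2 : e = 1 ∨ e = b2 ∨ e = b1 ∨ e = b1 * b2 ∨ e = a2 ∨ e = a2 * b2 ∨ e = a2 * b1 ∨ e = a2 * (b1 * b2) ∨
        e = a1 ∨ e = a1 * b2 ∨ e = a1 * b1 ∨ e = a1 * (b1 * b2) ∨ e = a1 * a2 ∨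
        e = a1 * (a2 * b2) ∨ e = a1 * (a2 * b1) ∨ e = a1 * (a2 * (b1 * b2)) := by
      simpa [E16] using he
    rcases h2 with rfl | rfl | rfl | rfl | rfl | rfl | rfl | rfl | rfl | rfl | rfl | rfl | rfl | rfl | rfl | rfl <;>
      simp only [rho_mul, rho_one, h.a1, h.a2, h.b1, h.b2]
  rw [avg_apply, Multiset.map_congr rfl h1]
  simp only [Multiset.map_const', Multiset.sum_replicate]
  rw [show Multiset.card E16 = 16 from rfl, ← Nat.cast_smul_eq_nsmul K]
  norm_num

theorem not_sit (h : Sit ρ) : False := by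
  have h2 := h.two
  obtain ⟨e, e0, eC, es, eall⟩ := h.line'
  obtain ⟨hsz, P4'⟩ := h.three eC es e0
  have se := h.P1 eC es
  have te : ρ t e = -e := by
    have h3 : ρ t e = ρ s (ρ s' e) := by rw [← rho_mul, show s * s' = t by decide]
    rw [h3, es, map_neg, se]
  set z := ρ u1 e - e with hz
  have hue : ρ u1 e = e + z := by rw [hz]; abel
  have ss : ∀ y : V, ρ s' (ρ s' y) = y := fun y => by rw [← rho_mul, show s' * s' = 1 by decide, rho_one]
  -- the functional
  obtain ⟨η, hη⟩ : ∃ η : Module.Dual K V, η e ≠ 0 := by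
    by_contra hall
    push Not at hall
    exact e0 ((Module.forall_dual_apply_eq_zero_iff K _).mp hall)
  let y : V → V := fun v => avg ρ v - ρ s' (avg ρ v)
  have hy : ∀ v, ∃ x : K, y v = x • e := fun v =>
    eall _ ((avg_inC v).sub (avg_inC v).s') (by
      show ρ s' (avg ρ v - ρ s' (avg ρ v)) = -(avg ρ v - ρ s' (avg ρ v))
      rw [map_sub, ss]; abel)
  let Λ : Module.Dual K V := η ∘ₗ (avg ρ - (ρ s') ∘ₗ avg ρ)
  have hΛ : ∀ v, Λ v = η (y v) := fun v => rfl
  have hΛe : Λ e ≠ 0 := by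
    rw [hΛ]
    show η (avg ρ e - ρ s' (avg ρ e)) ≠ 0
    rw [avg_of_inC eC, map_smul, es, smul_neg, sub_neg_eq_add, ← add_smul, map_smul, smul_eq_mul]
    apply mul_ne_zero _ hη
    have : (16 : K) + 16 = 2 ^ 5 := by norm_num
    rw [this]
    exact pow_ne_zero _ h2
  have hΛ0 : Λ ≠ 0 := by
    intro h0
    rw [h0] at hΛe
    exact hΛe rfl
  -- behaviour under the group
  have inv_of : ∀ {g : A8} (_ : ∀ v, Λ (ρ g v) = Λ v), ρ.dual g Λ = Λ := by
    intro g hg
    apply LinearMap.ext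
    intro v
    have h3 := hg (ρ g⁻¹ v)
    rw [rho_self_inv] at h3
    rw [h3]
    rfl
  have fE : ∀ {g : A8}, (E16.map fun e => e * g) = E16 → ρ.dual g Λ = Λ := by
    intro g hg
    apply inv_of
    intro v
    show η (avg ρ (ρ g v) - ρ s' (avg ρ (ρ g v))) = η (avg ρ v - ρ s' (avg ρ v))
    rw [avg_fix' hg]
  have fs : ρ.dual s Λ = Λ := by
    apply inv_of
    intro v
    rw [hΛ, hΛ]
    obtain ⟨x, hx⟩ := hy v
    have h3 : y (ρ s v) = ρ s (y v) := by
      show avg ρ (ρ s v) - ρ s' (avg ρ (ρ s v)) = ρ s (avg ρ v - ρ s' (avg ρ v))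
      rw [avg_comm (by decide), ← rho_mul, show s' * s = s * s' by decide, rho_mul, map_sub]
    rw [h3, hx, map_smul, se]
  have ft : ρ.dual t Λ = -Λ := by
    have h4 : ∀ v, Λ (ρ t v) = -Λ v := by
      intro v
      rw [hΛ, hΛ]
      obtain ⟨x, hx⟩ := hy v
      have h3 : y (ρ t v) = ρ t (y v) := by
        show avg ρ (ρ t v) - ρ s' (avg ρ (ρ t v)) = ρ t (avg ρ v - ρ s' (avg ρ v))
        rw [avg_comm (by decide), ← rho_mul, show s' * t = t * s' by decide, rho_mul, map_sub]
      rw [h3, hx, map_smul, te, smul_neg, map_neg]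
    apply LinearMap.ext
    intro v
    have h3 := h4 (ρ t⁻¹ v)
    rw [rho_self_inv] at h3
    show Λ (ρ t⁻¹ v) = -Λ v
    rw [h3, neg_neg]
  have fu : ρ.dual u1 Λ = Λ := by
    apply inv_of
    intro v
    rw [hΛ, hΛ]
    obtain ⟨x, hx⟩ := hy v
    have h3 : y (ρ u1 v) = ρ u1 (avg ρ v) - ρ s' (ρ u1 (avg ρ v)) := by
      show avg ρ (ρ u1 v) - ρ s' (avg ρ (ρ u1 v)) = _
      rw [avg_comm (by decide)]
    have hx' : avg ρ v - ρ s' (avg ρ v) = x • e := hx
    have hp : ρ u1 (avg ρ v + ρ s' (avg ρ v)) = avg ρ v + ρ s' (avg ρ v) := by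
      apply P4' _ ((avg_inC v).add (avg_inC v).s')
      rw [map_add, ss, add_comm]
    have h6 : (2 : K) • avg ρ v = (avg ρ v + ρ s' (avg ρ v)) + x • e := by rw [← hx', two_smul]; abel
    have h7 : (2 : K) • ρ u1 (avg ρ v) = (avg ρ v + ρ s' (avg ρ v)) + x • (e + z) := by
      rw [← map_smul, h6, map_add, hp, map_smul, hue]
    have h8 : (2 : K) • y (ρ u1 v) = (2 : K) • y v := by
      have h8' : (2 : K) • y (ρ u1 v) = (2 : K) • ρ u1 (avg ρ v) - ρ s' ((2 : K) • ρ u1 (avg ρ v)) := by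
        rw [h3, smul_sub, map_smul]
      rw [h8', h7, map_add, map_add, ss, map_smul, map_add, es, hsz, hx]
      module
    have h9 : y (ρ u1 v) = y v := smul_right_injective V h2 h8
    rw [h9]
  exact star h.dual.two h.dual.mult hΛ0
    (inC_iff.mpr ⟨fE (by decide), fE (by decide), fE (by decide), fE (by decide)⟩) fs fu ft

/-- disjoint double transpositions act independently -/
theorem not_nz (h2 : (2 : K) ≠ 0) (hle : Module.finrank K V ≤ 12) (v : V) :
    ρ a1 (ρ b1 v - v) = ρ b1 v - v := by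
  by_contra hne
  exact not_sit (ρ := ρ) ⟨h2, ⟨v, sub_ne_zero.mpr hne⟩, hle⟩

end Cfsg.Agent.H614.AMod
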