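import Mathlib

/-!
# Even permutations supported on the image of an embedding

* `ex e` : the homomorphism `Alt (Fin k) → Alt α` belonging to an embedding `e : Fin k ↪ α`;
* `ex_conj` : conjugation moves the embedding;
* `mem_of_cyc` : a subgroup that contains the 3-cycles `(x y z)`, `z ∈ S`, contains every even
  permutation supported on `S`;
* `exists_move` : transitivity of `Alt α` on embeddings of `Fin k`, `k + 2 ≤ |α|`.
-/

set_option autoImplicit false
set_option linter.unusedSectionVars false

namespace Cfsg.Agent.H614.AMod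

open Equiv Equiv.Perm

variable {α : Type*} [Fintype α] [DecidableEq α] {k : ℕ}

/-- extension of permutations along an embedding -/
def exP (e : Fin k ↪ α) : Perm (Fin k) →* Perm α := extendDomainHom e.toEquivRange

theorem exP_apply (e : Fin k ↪ α) (σ : Perm (Fin k)) (i : Fin k) : exP e σ (e i) = e (σ i) := by
  have h := Perm.extendDomain_apply_image σ e.toEquivRange i
  simpa [exP] using h

theorem exP_of_notMem (e : Fin k ↪ α) (σ : Perm (Fin k)) {x : α} (hx : ∀ i, e i ≠ x) : exP e σ x = x := by
  have h : x ∉ Set.range e := by rintro ⟨i, hi⟩; exact hx i hi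
  exact Perm.extendDomain_apply_not_subtype σ e.toEquivRange h

theorem sign_exP (e : Fin k ↪ α) (σ : Perm (Fin k)) : sign (exP e σ) = sign σ := by
  exact sign_extendDomain σ e.toEquivRange

/-- extension of even permutations along an embedding -/
def ex (e : Fin k ↪ α) : alternatingGroup (Fin k) →* alternatingGroup α :=
  ((exP e).comp (alternatingGroup (Fin k)).subtype).codRestrict _ fun σ => by
    rw [mem_alternatingGroup, MonoidHom.comp_apply, sign_exP]
    exact mem_alternatingGroup.mp σ.2

theorem coe_ex (e : Fin k ↪ α) (σ : alternatingGroup (Fin k)) : ((ex e σ : alternatingGroup α) : Perm α) = exP e σ :=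
  rfl

theorem ex_apply (e : Fin k ↪ α) (σ : alternatingGroup (Fin k)) (i : Fin k) :
    (ex e σ : Perm α) (e i) = e ((σ : Perm (Fin k)) i) := exP_apply e σ i

theorem ex_of_notMem (e : Fin k ↪ α) (σ : alternatingGroup (Fin k)) {x : α} (hx : ∀ i, e i ≠ x) :
    (ex e σ : Perm α) x = x := exP_of_notMem e σ hx

theorem ex_conj (e e' : Fin k ↪ α) (σ : alternatingGroup (Fin k)) (g : alternatingGroup α)
    (h : ∀ i, (g : Perm α) (e i) = e' i) : g * ex e σ * g⁻¹ = ex e' σ := by
  apply Subtype.ext
  rw [Subgroup.coe_mul, Subgroup.coe_mul, InvMemClass.coe_inv, mul_inv_eq_iff_eq_mul]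
  apply Equiv.ext
  intro x
  rw [Perm.mul_apply, Perm.mul_apply]
  by_cases hx : ∃ i, e i = x
  · obtain ⟨i, rfl⟩ := hx
    rw [ex_apply, h, h, ex_apply]
  · rw [not_exists] at hx
    rw [ex_of_notMem e σ hx, ex_of_notMem e' σ]
    intro i hi
    rw [← h i] at hi
    exact hx i ((g : Perm α).injective hi)

/-- a permutation of the indices -/
theorem ex_congr {l : ℕ} (e : Fin k ↪ α) (e' : Fin l ↪ α) (f : Fin l ↪ Fin k) (h : ∀ i, e' i = e (f i))
    (σ : alternatingGroup (Fin l)) : ex e' σ = ex e (ex f σ) := by
  apply Subtype.ext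
  apply Equiv.ext
  intro x
  by_cases hx : ∃ i, e i = x
  · obtain ⟨i, rfl⟩ := hx
    rw [ex_apply]
    by_cases hi : ∃ j, f j = i
    · obtain ⟨j, rfl⟩ := hi
      rw [← h, ex_apply, ex_apply, h]
    · rw [not_exists] at hi
      rw [ex_of_notMem f σ hi, ex_of_notMem e' σ]
      intro j hj
      rw [h] at hj
      exact hi j (e.injective hj)
  · rw [not_exists] at hx
    rw [ex_of_notMem e _ hx, ex_of_notMem e' σ]
    intro j hj
    rw [h] at hj
    exact hx _ hj

/-- `Alt α` is transitive on embeddings of `Fin k`, `k + 2 ≤ |α|`. -/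
theorem exists_move (hk : k + 2 ≤ Fintype.card α) (e e' : Fin k ↪ α) :
    ∃ g : alternatingGroup α, ∀ i, (g : Perm α) (e i) = e' i := by
  have h1 : MulAction.IsMultiplyPretransitive (alternatingGroup α) α k := by
    have h2 := alternatingGroup.isMultiplyPretransitive α
    have h3 : k ≤ Nat.card α - 2 := by rw [Nat.card_eq_fintype_card]; omega
    exact MulAction.isMultiplyPretransitive_of_le h3 (Nat.sub_le _ _)
  obtain ⟨g, hg⟩ := h1.exists_smul_eq e e'
  refine ⟨g, fun i => ?_⟩
  have := congrArg (fun f : Fin k ↪ α => f i) hg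
  exact this

/-- the basic 3-cycle -/
def c3 : alternatingGroup (Fin 3) := ⟨swap 0 1 * swap 1 2, by rw [mem_alternatingGroup]; decide⟩

/-- three different points -/
def emb3 (x y z : α) (hxy : x ≠ y) (hyz : y ≠ z) (hxz : x ≠ z) : Fin 3 ↪ α :=
  ⟨![x, y, z], by
    intro i j h
    fin_cases i <;> fin_cases j <;> simp_all⟩

theorem coe_c3 (e : Fin 3 ↪ α) : ((ex e c3 : alternatingGroup α) : Perm α) = swap (e 0) (e 1) * swap (e 1) (e 2) := by
  apply Equiv.ext
  intro x
  by_cases hx : ∃ i, e i = x
  · obtain ⟨i, rfl⟩ := hx
    rw [ex_apply, Perm.mul_apply]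
    have h01 : e 0 ≠ e 1 := e.injective.ne (by decide)
    have h02 : e 0 ≠ e 2 := e.injective.ne (by decide)
    have h12 : e 1 ≠ e 2 := e.injective.ne (by decide)
    fin_cases i
    · show e (swap 0 1 (swap 1 2 0)) = _
      rw [show (swap 0 1 (swap 1 2 0) : Fin 3) = 1 by decide]
      show e 1 = swap (e 0) (e 1) (swap (e 1) (e 2) (e 0))
      rw [swap_apply_of_ne_of_ne h01 h02, swap_apply_left]
    · show e (swap 0 1 (swap 1 2 1)) = _
      rw [show (swap 0 1 (swap 1 2 1) : Fin 3) = 2 by decide]
      show e 2 = swap (e 0) (e 1) (swap (e 1) (e 2) (e 1))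
      rw [swap_apply_left, swap_apply_of_ne_of_ne h02.symm h12.symm]
    · show e (swap 0 1 (swap 1 2 2)) = _
      rw [show (swap 0 1 (swap 1 2 2) : Fin 3) = 0 by decide]
      show e 0 = swap (e 0) (e 1) (swap (e 1) (e 2) (e 2))
      rw [swap_apply_right, swap_apply_right]
  · have hx' : ∀ i, x ≠ e i := fun i h => hx ⟨i, h.symm⟩
    rw [ex_of_notMem e _ (fun i => (hx' i).symm), Perm.mul_apply, swap_apply_of_ne_of_ne (hx' 1) (hx' 2),
      swap_apply_of_ne_of_ne (hx' 0) (hx' 1)]

/-- A subgroup containing the 3-cycles `(x y z)`, `z ∈ S`, contains all even permutations supported on `S`. -/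
theorem mem_of_cyc (H : Subgroup (alternatingGroup α)) (S : Set α) {x y : α} (hx : x ∈ S) (hy : y ∈ S) (hxy : x ≠ y)
    (hH : ∀ e : Fin 3 ↪ α, e 0 = x → e 1 = y → e 2 ∈ S → ex e c3 ∈ H) (g : alternatingGroup α)
    (hg : ∀ z, z ∉ S → (g : Perm α) z = z) : g ∈ H := by
  -- the 3-cycles through x
  have hcx : ∀ (z w : α), z ∈ S → w ∈ S → z ≠ x → z ≠ y → w ≠ x → w ≠ y → z ≠ w →
      ∃ h ∈ H, ((h : alternatingGroup α) : Perm α) = swap x z * swap x w := by
    intro z w hz hw hzx hzy hwx hwy hzw
    have h1 := hH (emb3 x y z hxy hzy.symm hzx.symm) rfl rfl hz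
    have h2 := hH (emb3 x y w hxy hwy.symm hwx.symm) rfl rfl hw
    refine ⟨_, H.mul_mem h1 (H.inv_mem h2), ?_⟩
    rw [Subgroup.coe_mul, InvMemClass.coe_inv, coe_c3, coe_c3]
    show (swap x y * swap y z) * (swap x y * swap y w)⁻¹ = _
    rw [mul_inv_rev, swap_inv, swap_inv]
    have e1 : swap x y * swap y z * swap x y = swap x z := by
      have h := Equiv.swap_apply_apply (swap x y) y z
      rw [swap_apply_right, swap_apply_of_ne_of_ne hzx hzy, swap_inv] at h
      exact h.symm
    have e2 : swap x y * swap y w * swap x y = swap x w := by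
      have h := Equiv.swap_apply_apply (swap x y) y w
      rw [swap_apply_right, swap_apply_of_ne_of_ne hwx hwy, swap_inv] at h
      exact h.symm
    calc swap x y * swap y z * (swap y w * swap x y)
        = (swap x y * swap y z * swap x y) * (swap x y * swap y w * swap x y) := by
          simp only [mul_assoc]
          rw [← mul_assoc (swap x y) (swap x y), swap_mul_self, one_mul]
      _ = _ := by rw [e1, e2]
  have hcy : ∀ (z w : α), z ∈ S → w ∈ S → z ≠ x → z ≠ y → w ≠ x → w ≠ y → z ≠ w →
      ∃ h ∈ H, ((h : alternatingGroup α) : Perm α) = swap y z * swap y w := by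
    intro z w hz hw hzx hzy hwx hwy hzw
    have h1 := hH (emb3 x y z hxy hzy.symm hzx.symm) rfl rfl hz
    have h2 := hH (emb3 x y w hxy hwy.symm hwx.symm) rfl rfl hw
    refine ⟨_, H.mul_mem (H.inv_mem h1) h2, ?_⟩
    rw [Subgroup.coe_mul, InvMemClass.coe_inv, coe_c3, coe_c3]
    show (swap x y * swap y z)⁻¹ * (swap x y * swap y w) = _
    rw [mul_inv_rev, swap_inv, swap_inv]
    simp only [mul_assoc]
    rw [← mul_assoc (swap x y) (swap x y), swap_mul_self, one_mul]
  -- induction on the number of moved points different from x, y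
  have key : ∀ (n : ℕ) (g : alternatingGroup α), (∀ z, z ∉ S → (g : Perm α) z = z) →
      (Finset.univ.filter fun z => (g : Perm α) z ≠ z ∧ z ≠ x ∧ z ≠ y).card ≤ n → g ∈ H := by
    intro n
    induction n with
    | zero =>
      intro g hg hn
      have h0 : ∀ z, z ≠ x → z ≠ y → (g : Perm α) z = z := by
        intro z hzx hzy
        by_contra hz
        have : z ∈ (Finset.univ.filter fun z => (g : Perm α) z ≠ z ∧ z ≠ x ∧ z ≠ y) := by simp [hz, hzx, hzy]
        rw [Finset.card_eq_zero.mp (Nat.le_zero.mp hn)] at this
        simp at this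
      have h1 : (g : Perm α) = 1 := by
        by_contra hne
        have h2 : (g : Perm α) x = y := by
          by_contra hxy'
          have hgx : (g : Perm α) x = x := by
            by_contra hgx
            have h3 := h0 ((g : Perm α) x) hgx hxy'
            exact hgx ((g : Perm α).injective h3)
          apply hne
          apply Equiv.ext
          intro z
          by_cases hzx : z = x
          · rw [hzx, hgx]; rfl
          by_cases hzy : z = y
          · rw [hzy]
            by_contra hgy
            have hgy' : (g : Perm α) y ≠ y := hgy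
            have h4 : (g : Perm α) y ≠ x := by
              intro h5
              rw [← hgx] at h5
              exact hxy ((g : Perm α).injective h5).symm
            have h5 := h0 _ h4 hgy'
            exact hgy' ((g : Perm α).injective h5)
          · rw [h0 z hzx hzy]; rfl
        have h3 : (g : Perm α) = swap x y := by
          apply Equiv.ext
          intro z
          by_cases hzx : z = x
          · rw [hzx, h2, swap_apply_left]
          by_cases hzy : z = y
          · rw [hzy, swap_apply_right]
            by_contra hgy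
            have h4 : (g : Perm α) y ≠ y := by
              intro h5
              have h6 : (g : Perm α) x = (g : Perm α) y := by rw [h2, h5]
              exact hxy ((g : Perm α).injective h6)
            have h5 := h0 _ hgy h4
            exact h4 ((g : Perm α).injective h5)
          · rw [h0 z hzx hzy, swap_apply_of_ne_of_ne hzx hzy]
        have h4 := mem_alternatingGroup.mp g.2
        rw [h3, sign_swap hxy] at h4
        exact absurd h4 (by decide)
      have h2 : g = 1 := Subtype.ext h1
      rw [h2]
      exact H.one_mem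
    | succ n ih =>
      intro g hg hn
      by_cases hall : ∀ z, z ≠ x → z ≠ y → (g : Perm α) z = z
      · apply ih g hg
        rw [Finset.filter_false_of_mem]
        · simp
        · rintro z - ⟨h1, h2, h3⟩
          exact h1 (hall z h2 h3)
      · push Not at hall
        obtain ⟨z, hzx, hzy, hgz⟩ := hall
        have hzS : z ∈ S := by
          by_contra h
          exact hgz (hg z h)
        set w := (g : Perm α) z with hw
        have hwS : w ∈ S := by
          by_contra h
          have := hg w h
          exact hgz ((g : Perm α).injective this)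
        -- an element of H moving w to z
        obtain ⟨h, hhH, hhw, hhS, hhf⟩ : ∃ h ∈ H, ((h : alternatingGroup α) : Perm α) w = z ∧
            (∀ u, u ∉ S → (h : Perm α) u = u) ∧
            (∀ u, u ≠ x → u ≠ y → u ≠ w → u ≠ z → (h : Perm α) u = u) := by
          by_cases hwx : w = x
          · obtain ⟨hb, hbH⟩ : ∃ e : Fin 3 ↪ α, e 0 = x ∧ e 1 = y ∧ e 2 = z :=
              ⟨emb3 x y z hxy hzy.symm hzx.symm, rfl, rfl, rfl⟩
            refine ⟨(ex hb c3)⁻¹, H.inv_mem (hH hb hbH.1 hbH.2.1 (hbH.2.2 ▸ hzS)), ?_, ?_, ?_⟩
            · rw [InvMemClass.coe_inv, coe_c3, hbH.1, hbH.2.1, hbH.2.2, mul_inv_rev, swap_inv, swap_inv, Perm.mul_apply,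
                hwx, swap_apply_left, swap_apply_left]
            · intro u hu
              rw [InvMemClass.coe_inv, coe_c3, hbH.1, hbH.2.1, hbH.2.2, mul_inv_rev, swap_inv, swap_inv, Perm.mul_apply]
              have ux : u ≠ x := fun h => hu (h ▸ hx)
              have uy : u ≠ y := fun h => hu (h ▸ hy)
              have uz : u ≠ z := fun h => hu (h ▸ hzS)
              rw [swap_apply_of_ne_of_ne ux uy, swap_apply_of_ne_of_ne uy uz]
            · intro u ux uy uw uz
              rw [InvMemClass.coe_inv, coe_c3, hbH.1, hbH.2.1, hbH.2.2, mul_inv_rev, swap_inv, swap_inv, Perm.mul_apply,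
                swap_apply_of_ne_of_ne ux uy, swap_apply_of_ne_of_ne uy uz]
          · by_cases hwy : w = y
            · obtain ⟨hb, hbH⟩ : ∃ e : Fin 3 ↪ α, e 0 = x ∧ e 1 = y ∧ e 2 = z :=
                ⟨emb3 x y z hxy hzy.symm hzx.symm, rfl, rfl, rfl⟩
              refine ⟨ex hb c3, hH hb hbH.1 hbH.2.1 (hbH.2.2 ▸ hzS), ?_, ?_, ?_⟩
              · rw [coe_c3, hbH.1, hbH.2.1, hbH.2.2, Perm.mul_apply, hwy, swap_apply_left,
                  swap_apply_of_ne_of_ne hzx hzy]
              · intro u hu
                rw [coe_c3, hbH.1, hbH.2.1, hbH.2.2, Perm.mul_apply]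
                have ux : u ≠ x := fun h => hu (h ▸ hx)
                have uy : u ≠ y := fun h => hu (h ▸ hy)
                have uz : u ≠ z := fun h => hu (h ▸ hzS)
                rw [swap_apply_of_ne_of_ne uy uz, swap_apply_of_ne_of_ne ux uy]
              · intro u ux uy uw uz
                rw [coe_c3, hbH.1, hbH.2.1, hbH.2.2, Perm.mul_apply,
                  swap_apply_of_ne_of_ne uy uz, swap_apply_of_ne_of_ne ux uy]
            · have hwz : w ≠ z := hgz
              obtain ⟨h, hH', hh⟩ := hcx z w hzS hwS hzx hzy hwx hwy hwz.symm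
              refine ⟨h, hH', ?_, ?_, ?_⟩
              · rw [hh, Perm.mul_apply, swap_apply_right, swap_apply_left]
              · intro u hu
                have ux : u ≠ x := fun h => hu (h ▸ hx)
                have uz : u ≠ z := fun h => hu (h ▸ hzS)
                have uw : u ≠ w := fun h => hu (h ▸ hwS)
                rw [hh, Perm.mul_apply, swap_apply_of_ne_of_ne ux uw, swap_apply_of_ne_of_ne ux uz]
              · intro u ux uy uw uz
                rw [hh, Perm.mul_apply, swap_apply_of_ne_of_ne ux uw, swap_apply_of_ne_of_ne ux uz]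
        have h3 : h * g ∈ H := by
          apply ih
          · intro u hu
            rw [Subgroup.coe_mul, Perm.mul_apply, hg u hu, hhS u hu]
          · have hsub : (Finset.univ.filter fun u => ((h * g : alternatingGroup α) : Perm α) u ≠ u ∧ u ≠ x ∧ u ≠ y) ⊂
                (Finset.univ.filter fun u => (g : Perm α) u ≠ u ∧ u ≠ x ∧ u ≠ y) := by
              rw [Finset.ssubset_iff_of_subset]
              · refine ⟨z, Finset.mem_filter.mpr ⟨Finset.mem_univ _, hgz, hzx, hzy⟩, fun h5 => ?_⟩
                exact (Finset.mem_filter.mp h5).2.1 (by rw [Subgroup.coe_mul, Perm.mul_apply]; exact hhw)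
              · intro u h0
                obtain ⟨-, h1, h2, h3⟩ := Finset.mem_filter.mp h0
                refine Finset.mem_filter.mpr ⟨Finset.mem_univ _, fun h4 => h1 ?_, h2, h3⟩
                rw [Subgroup.coe_mul, Perm.mul_apply, h4]
                apply hhf u h2 h3
                · intro h5
                  rw [h5] at h4
                  exact hgz ((g : Perm α).injective h4)
                · intro h5
                  rw [h5] at h4
                  exact hgz h4
            have := Finset.card_lt_card hsub
            omega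
        have h4 : g = h⁻¹ * (h * g) := by group
        rw [h4]
        exact H.mul_mem (H.inv_mem hhH) h3
  exact key _ g hg le_rfl

end Cfsg.Agent.H614.AMod
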