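import Cfsg.Agent.H614.AMod.Ten

/-!
# Representations of `Alt (Fin 9)` of degree at most 12, characteristic not 3

`dich` : for disjoint 3-cycles `c`, `c'` : `c'` acts trivially on `[V, c]`, or on `C_V(c)`.
-/

set_option autoImplicit false
set_option linter.unusedSectionVars false

namespace Cfsg.Agent.H614.AMod

open Equiv Equiv.Perm

namespace E9

abbrev A9 := alternatingGroup (Fin 9)

/-- `(0 1 2)`, `(3 4 5)`, `(6 7 8)` -/
def c1 : A9 := ⟨swap 0 1 * swap 1 2, by rw [mem_alternatingGroup]; decide⟩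
def c2 : A9 := ⟨swap 3 4 * swap 4 5, by rw [mem_alternatingGroup]; decide⟩
def c3 : A9 := ⟨swap 6 7 * swap 7 8, by rw [mem_alternatingGroup]; decide⟩
/-- `(0 3 6)(1 4 7)(2 5 8)` -/
def sg : A9 := ⟨⟨![3, 4, 5, 6, 7, 8, 0, 1, 2], ![6, 7, 8, 0, 1, 2, 3, 4, 5], by decide, by decide⟩, by
  rw [mem_alternatingGroup]; decide⟩
/-- `(1 2)(4 5)` -/
def ta : A9 := ⟨swap 1 2 * swap 4 5, by rw [mem_alternatingGroup]; decide⟩
/-- `(0 3)(1 4)(2 5)(7 8)` -/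
def dd : A9 := ⟨swap 0 3 * swap 1 4 * swap 2 5 * swap 7 8, by rw [mem_alternatingGroup]; decide⟩
/-- conjugates `c1 * c2 * c3` to `sg` -/
def hh : A9 := ⟨⟨![1, 4, 7, 0, 3, 6, 2, 5, 8], ![3, 0, 6, 4, 1, 7, 5, 2, 8], by decide, by decide⟩, by
  rw [mem_alternatingGroup]; decide⟩

theorem c12 : c1 * c2 = c2 * c1 := by decide
theorem c13 : c1 * c3 = c3 * c1 := by decide
theorem c23 : c2 * c3 = c3 * c2 := by decide
theorem c1_3 : c1 ^ 3 = 1 := by decide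
theorem c2_3 : c2 ^ 3 = 1 := by decide
theorem c3_3 : c3 ^ 3 = 1 := by decide
theorem sg1 : sg * c1 = c2 * sg := by decide
theorem sg2 : sg * c2 = c3 * sg := by decide
theorem sg3 : sg * c3 = c1 * sg := by decide
theorem ta1 : ta * c1 = c1⁻¹ * ta := by decide
theorem ta2 : ta * c2 = c2⁻¹ * ta := by decide
theorem ta3 : ta * c3 = c3 * ta := by decide
theorem dd1 : dd * c1 = c2 * dd := by decide
theorem dd2 : dd * c2 = c1 * dd := by decide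
theorem dd3 : dd * c3 = c3⁻¹ * dd := by decide
theorem hsg : hh * (c1 * c2 * c3) = sg * hh := by decide

theorem inv_sq {c : A9} (h : c ^ 3 = 1) : c⁻¹ ^ 2 = c := by
  rw [inv_pow, inv_eq_iff_mul_eq_one, ← pow_succ]
  exact h

variable {K V : Type*} [Field K] [AddCommGroup V] [Module K V] [FiniteDimensional K V] (ρ : Representation K A9 V)

abbrev Tr := Fin 3 × Fin 3 × Fin 3

/-- `v` has weight `t` -/
def Wt (ω : K) (t : Tr) (v : V) : Prop :=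
  v ∈ eg ρ c1 (ω ^ (t.1 : ℕ)) ∧ v ∈ eg ρ c2 (ω ^ (t.2.1 : ℕ)) ∧ v ∈ eg ρ c3 (ω ^ (t.2.2 : ℕ))

/-- the weight `t` occurs -/
def N (ω : K) (t : Tr) : Prop := ∃ v : V, v ≠ 0 ∧ Wt ρ ω t v

variable {ρ}

theorem pow_mod {ω : K} (hω : ω ^ 3 = 1) (i : ℕ) : ω ^ (i % 3) = ω ^ i := by
  conv_rhs => rw [← Nat.mod_add_div i 3, pow_add, pow_mul, hω, one_pow, mul_one]

theorem eg_inv {ω : K} (hω : ω ^ 3 = 1) {c : A9} (hc : c ^ 3 = 1) {i : Fin 3} {v : V}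
    (h : v ∈ eg ρ c⁻¹ (ω ^ (i : ℕ))) : v ∈ eg ρ c (ω ^ ((2 * i : Fin 3) : ℕ)) := by
  have h4 := pow_eg ρ h 2
  rw [inv_sq hc, ← pow_mul] at h4
  have h5 : ω ^ ((2 * i : Fin 3) : ℕ) = ω ^ ((i : ℕ) * 2) := by
    rw [← pow_mod hω ((i : ℕ) * 2)]
    congr 1
    rw [Fin.val_mul, mul_comm]
    rfl
  rw [h5]
  exact h4

/-- the moves -/
def ma (t : Tr) : Tr := (t.2.2, t.1, t.2.1)
def mb (t : Tr) : Tr := (2 * t.1, 2 * t.2.1, t.2.2)
def md (t : Tr) : Tr := (t.2.1, t.1, 2 * t.2.2)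

theorem N_ma {ω : K} {t : Tr} (h : N ρ ω t) : N ρ ω (ma t) := by
  obtain ⟨v, h0, h1, h2, h3⟩ := h
  exact ⟨ρ sg v, E10.rho_ne_zero sg h0, eg_move ρ sg3 h3, eg_move ρ sg1 h1, eg_move ρ sg2 h2⟩

theorem N_mb {ω : K} (hω : ω ^ 3 = 1) {t : Tr} (h : N ρ ω t) : N ρ ω (mb t) := by
  obtain ⟨v, h0, h1, h2, h3⟩ := h
  exact ⟨ρ ta v, E10.rho_ne_zero ta h0, eg_inv hω c1_3 (eg_move ρ ta1 h1), eg_inv hω c2_3 (eg_move ρ ta2 h2),
    eg_move ρ ta3 h3⟩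

theorem N_md {ω : K} (hω : ω ^ 3 = 1) {t : Tr} (h : N ρ ω t) : N ρ ω (md t) := by
  obtain ⟨v, h0, h1, h2, h3⟩ := h
  exact ⟨ρ dd v, E10.rho_ne_zero dd h0, eg_move ρ dd2 h2, eg_move ρ dd1 h1, eg_inv hω c3_3 (eg_move ρ dd3 h3)⟩

/-- words in the moves -/
def word (y w u : Fin 2) (z : Fin 3) (t : Tr) : Tr :=
  mb^[y] (ma (mb^[w] (ma (ma (ma^[z] (md^[u] t))))))

/-- the number of non-trivial coordinates -/
def ty (t : Tr) : ℕ := (if t.1 = 0 then 0 else 1) + (if t.2.1 = 0 then 0 else 1) + (if t.2.2 = 0 then 0 else 1)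

theorem reach : ∀ t t' : Tr, ty t = ty t' → ∃ y w u : Fin 2, ∃ z : Fin 3, word y w u z t = t' := by
  decide +kernel

theorem iter {ω : K} {f : Tr → Tr} (hf : ∀ t, N ρ ω t → N ρ ω (f t)) (n : ℕ) {t : Tr} (h : N ρ ω t) : N ρ ω (f^[n] t) := by
  induction n with
  | zero => exact h
  | succ n ih => rw [Function.iterate_succ_apply']; exact hf _ ih

theorem N_all {ω : K} (hω : ω ^ 3 = 1) {t : Tr} (h : N ρ ω t) {t' : Tr} (ht : ty t = ty t') : N ρ ω t' := by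
  obtain ⟨y, w, u, z, h1⟩ := reach t t' ht
  rw [← h1]
  have ha : ∀ t, N ρ ω t → N ρ ω (ma t) := fun t h => N_ma h
  have hb : ∀ t, N ρ ω t → N ρ ω (mb t) := fun t h => N_mb hω h
  have hd : ∀ t, N ρ ω t → N ρ ω (md t) := fun t h => N_md hω h
  unfold word
  exact iter hb _ (ha _ (iter hb _ (ha _ (ha _ (iter ha _ (iter hd _ h))))))

/-- the family of commuting operators -/
def fam (ρ : Representation K A9 V) : Fin 3 → Module.End K V := ![ρ c1, ρ c2, ρ c3]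

theorem fam_comm (i j : Fin 3) : Commute (fam ρ i) (fam ρ j) := by
  have h12 : Commute (ρ c1) (ρ c2) := rho_comm ρ c12
  have h13 : Commute (ρ c1) (ρ c3) := rho_comm ρ c13
  have h23 : Commute (ρ c2) (ρ c3) := rho_comm ρ c23
  fin_cases i <;> fin_cases j
  · exact Commute.refl _
  · exact h12
  · exact h13
  · exact h12.symm
  · exact Commute.refl _
  · exact h23
  · exact h13.symm
  · exact h23.symm
  · exact Commute.refl _

theorem count {ω : K} (hω : IsPrimitiveRoot ω 3) (S : Tr → Prop) [DecidablePred S] (W : Submodule K V)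
    (h : ∀ t, S t → ∃ v ∈ W, v ≠ 0 ∧ Wt ρ ω t v) : Fintype.card {t // S t} ≤ Module.finrank K W := by
  choose v hv using fun t : {t // S t} => h t.1 t.2
  refine card_le_of_weights (fam ρ) fam_comm W
    (fun t : {t // S t} => ![ω ^ (t.1.1 : ℕ), ω ^ (t.1.2.1 : ℕ), ω ^ (t.1.2.2 : ℕ)]) ?_ v (fun t => (hv t).2.1)
    (fun t => (hv t).1) ?_
  · intro p q hpq
    have e1 := congrFun hpq 0
    have e2 := congrFun hpq 1
    have e3 := congrFun hpq 2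
    have h3 := hω.pow_inj p.1.1.2 q.1.1.2 e1
    have h4 := hω.pow_inj p.1.2.1.2 q.1.2.1.2 e2
    have h5 := hω.pow_inj p.1.2.2.2 q.1.2.2.2 e3
    exact Subtype.ext (Prod.ext (Fin.ext h3) (Prod.ext (Fin.ext h4) (Fin.ext h5)))
  · intro t i
    obtain ⟨h1, h2, h3⟩ := (hv t).2.2
    fin_cases i
    · exact h1
    · exact h2
    · exact h3

theorem exists_wt [IsAlgClosed K] {ω : K} (hω : IsPrimitiveRoot ω 3) {W : Submodule K V} (hW : W ≠ ⊥)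
    (h1 : Inv ρ W c1) (h2 : Inv ρ W c2) (h3 : Inv ρ W c3) : ∃ t : Tr, ∃ v ∈ W, v ≠ 0 ∧ Wt ρ ω t v := by
  obtain ⟨a, ha⟩ := exists_eig ρ h1 hW
  obtain ⟨b, hb⟩ := exists_eig ρ (h2.inf ρ (inv_eg ρ c12 a)) ha
  obtain ⟨d, hd⟩ := exists_eig ρ ((h3.inf ρ (inv_eg ρ c13 a)).inf ρ (inv_eg ρ c23 b)) hb
  obtain ⟨v, hv, hv0⟩ := (Submodule.ne_bot_iff _).mp hd
  obtain ⟨⟨⟨hvW, hva⟩, hvb⟩, hvd⟩ := hv
  obtain ⟨i, hi, hia⟩ := hω.eq_pow_of_pow_eq_one (eig_pow ρ hva hv0 c1_3)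
  obtain ⟨j, hj, hjb⟩ := hω.eq_pow_of_pow_eq_one (eig_pow ρ hvb hv0 c2_3)
  obtain ⟨k, hk, hkd⟩ := hω.eq_pow_of_pow_eq_one (eig_pow ρ hvd hv0 c3_3)
  refine ⟨(⟨i, hi⟩, ⟨j, hj⟩, ⟨k, hk⟩), v, hvW, hv0, ?_, ?_, ?_⟩
  · show v ∈ eg ρ c1 (ω ^ i)
    rw [hia]; exact hva
  · show v ∈ eg ρ c2 (ω ^ j)
    rw [hjb]; exact hvb
  · show v ∈ eg ρ c3 (ω ^ k)
    rw [hkd]; exact hvd

theorem ne_zero_of_U {g : A9} (hg : g ^ 3 = 1) (h3 : ((3 : ℕ) : K) ≠ 0) {ω : K} {i : Fin 3} {v : V} (hv0 : v ≠ 0)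
    (hv : v ∈ U ρ g) (hw : v ∈ eg ρ g (ω ^ (i : ℕ))) : i ≠ 0 := by
  rintro rfl
  have h1 : v ∈ U ρ g ⊓ eg ρ g 1 := ⟨hv, by simpa using hw⟩
  rw [U_inf_fix ρ hg h3] at h1
  exact hv0 h1

theorem U_of_ne_zero {g : A9} {ω : K} (hω : IsPrimitiveRoot ω 3) {i : Fin 3} (hi : i ≠ 0) {v : V}
    (hw : v ∈ eg ρ g (ω ^ (i : ℕ))) : v ∈ U ρ g := by
  have h1 : ω ^ (i : ℕ) - 1 ≠ 0 := by
    intro h
    have h2 : ω ^ (i : ℕ) = ω ^ 0 := by rw [pow_zero]; exact sub_eq_zero.mp h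
    have h3 := hω.pow_inj i.2 (by norm_num) h2
    exact hi (Fin.ext h3)
  refine (mem_U ρ).mpr ⟨(ω ^ (i : ℕ) - 1)⁻¹ • v, ?_⟩
  rw [map_smul, hw, smul_smul, ← sub_smul, ← mul_sub_one, inv_mul_cancel₀ h1, one_smul]

theorem finrank_eg_conj {G : Type*} [Group G] {ρ : Representation K G V} {g h g' : G} (hg : h * g = g' * h) (c : K) :
    Module.finrank K (eg ρ g c) = Module.finrank K (eg ρ g' c) := by
  apply finrank_eq_of_map ρ h
  · intro w hw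
    exact eg_move ρ hg hw
  · intro w hw
    apply eg_move ρ (g := g') _ hw
    rw [eq_mul_inv_iff_mul_eq, mul_assoc, ← hg, inv_mul_cancel_left]

section closed

variable [IsAlgClosed K]

theorem not_two (h3 : ((3 : ℕ) : K) ≠ 0) (hle : Module.finrank K V ≤ 12) {ω : K} (hω : IsPrimitiveRoot ω 3) {t : Tr}
    (ht : ty t = 2) : ¬ N ρ ω t := by
  intro hN
  have hω3 := hω.pow_eq_one
  have hall : ∀ t' : Tr, ty t' = 2 → N ρ ω t' := fun t' ht' => N_all hω3 hN (ht.trans ht'.symm)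
  -- no weight of type 3
  have hno3 : ∀ t' : Tr, ty t' = 3 → ¬ N ρ ω t' := by
    intro t' ht' hN'
    have h1 := count hω (fun t : Tr => ty t = 2 ∨ ty t = 3) (⊤ : Submodule K V) (by
      rintro t (ht1 | ht1)
      · obtain ⟨v, hv⟩ := hall t ht1
        exact ⟨v, Submodule.mem_top, hv⟩
      · obtain ⟨v, hv⟩ := N_all hω3 hN' (ht'.trans ht1.symm)
        exact ⟨v, Submodule.mem_top, hv⟩)
    rw [finrank_top] at h1
    have h2 : Fintype.card {t : Tr // ty t = 2 ∨ ty t = 3} = 20 := by decide +kernel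
    omega
  -- the dimension of [V, c1]
  have hU := count hω (fun t : Tr => ty t = 2 ∧ t.1 ≠ 0) (U ρ c1) (by
    rintro t ⟨ht1, ht2⟩
    obtain ⟨v, hv0, hv⟩ := hall t ht1
    exact ⟨v, U_of_ne_zero hω ht2 hv.1, hv0, hv⟩)
  have hU8 : Fintype.card {t : Tr // ty t = 2 ∧ t.1 ≠ 0} = 8 := by decide +kernel
  -- the dimension of C_V(κ)
  have hk := count hω (fun t : Tr => ty t = 2 ∧ t.1 + t.2.1 + t.2.2 = 0) (eg ρ (c1 * c2 * c3) 1) (by
    rintro t ⟨ht1, ht2⟩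
    obtain ⟨v, hv0, hv⟩ := hall t ht1
    refine ⟨v, ?_, hv0, hv⟩
    have h1 := eg_mul ρ (eg_mul ρ hv.1 hv.2.1) hv.2.2
    rw [← pow_add, ← pow_add, ← pow_mod hω3] at h1
    have h2 : ((t.1 : ℕ) + (t.2.1 : ℕ) + (t.2.2 : ℕ)) % 3 = 0 := by
      have h3 := congrArg Fin.val ht2
      rw [Fin.val_add, Fin.val_add] at h3
      simpa using h3
    rw [h2, pow_zero] at h1
    exact h1)
  have hk6 : Fintype.card {t : Tr // ty t = 2 ∧ t.1 + t.2.1 + t.2.2 = 0} = 6 := by decide +kernel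
  rw [finrank_eg_conj hsg] at hk
  -- C_V(σ) ∩ [V, c1] = 0
  have hinf : eg ρ sg 1 ⊓ U ρ c1 = ⊥ := by
    have hsub : eg ρ sg 1 ⊓ U ρ c1 ≤ U ρ c1 ⊓ U ρ c2 ⊓ U ρ c3 := by
      rintro v ⟨hv1, hv2⟩
      rw [SetLike.mem_coe, mem_eg_one] at hv1
      have h1 := mem_U_conj ρ (h := sg) hv2
      rw [sg1, mul_inv_cancel_right, hv1] at h1
      have h2 := mem_U_conj ρ (h := sg) h1
      rw [sg2, mul_inv_cancel_right, hv1] at h2
      exact ⟨⟨hv2, h1⟩, h2⟩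
    by_contra hne
    have hne' : U ρ c1 ⊓ U ρ c2 ⊓ U ρ c3 ≠ ⊥ := fun h => hne (le_bot_iff.mp (h ▸ hsub))
    obtain ⟨t', v, ⟨⟨hu1, hu2⟩, hu3⟩, hv0, hv⟩ := exists_wt hω hne'
      (((inv_U ρ (g := c1) (h := c1) rfl).inf ρ (inv_U ρ c12.symm)).inf ρ (inv_U ρ c13.symm))
      (((inv_U ρ c12).inf ρ (inv_U ρ (g := c2) (h := c2) rfl)).inf ρ (inv_U ρ c23.symm))
      (((inv_U ρ c13).inf ρ (inv_U ρ c23)).inf ρ (inv_U ρ (g := c3) (h := c3) rfl))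
    refine hno3 t' ?_ ⟨v, hv0, hv⟩
    unfold ty
    rw [if_neg (ne_zero_of_U c1_3 h3 hv0 hu1 hv.1), if_neg (ne_zero_of_U c2_3 h3 hv0 hu2 hv.2.1),
      if_neg (ne_zero_of_U c3_3 h3 hv0 hu3 hv.2.2)]
  have h4 := Submodule.finrank_sup_add_finrank_inf_eq (eg ρ sg 1) (U ρ c1)
  rw [hinf, finrank_bot] at h4
  have h5 := Submodule.finrank_le (eg ρ sg 1 ⊔ U ρ c1)
  omega

theorem dich_closed (h3 : ((3 : ℕ) : K) ≠ 0) (hle : Module.finrank K V ≤ 12) :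
    c2 ∈ pst ρ (U ρ c1) ∨ ∀ v, ρ c1 v = v → ρ c2 v = v := by
  haveI : NeZero ((3 : ℕ) : K) := ⟨h3⟩
  obtain ⟨ω, hω⟩ := HasEnoughRootsOfUnity.exists_primitiveRoot K 3
  have hω3 := hω.pow_eq_one
  by_cases hN : ∃ t : Tr, ty t = 3 ∧ N ρ ω t
  · obtain ⟨t, ht, hN⟩ := hN
    right
    intro v hv
    by_contra hne
    have hne' : U ρ c2 ⊓ eg ρ c1 1 ≠ ⊥ := by
      rw [Submodule.ne_bot_iff]
      refine ⟨ρ c2 v - v, ⟨sub_mem_U ρ c2 v, ?_⟩, sub_ne_zero.mpr hne⟩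
      rw [SetLike.mem_coe, mem_eg_one, map_sub, ← rho_mul, c12, rho_mul, hv]
    obtain ⟨t', w, ⟨hw1, hw2⟩, hw0, hw⟩ := exists_wt hω hne'
      ((inv_U ρ c12.symm).inf ρ (inv_eg ρ (g := c1) (h := c1) rfl 1))
      ((inv_U ρ (g := c2) (h := c2) rfl).inf ρ (inv_eg ρ c12 1))
      ((inv_U ρ c23).inf ρ (inv_eg ρ c13 1))
    have h1 : t'.2.1 ≠ 0 := ne_zero_of_U c2_3 h3 hw0 hw1 hw.2.1
    have h2 : t'.1 = 0 := by
      by_contra h2
      have h3' := U_of_ne_zero hω h2 hw.1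
      have h4 : w ∈ U ρ c1 ⊓ eg ρ c1 1 := ⟨h3', hw2⟩
      rw [U_inf_fix ρ c1_3 h3] at h4
      exact hw0 h4
    have h4 : ty t' = 1 ∨ ty t' = 2 := by
      unfold ty
      rw [if_pos h2, if_neg h1]
      split_ifs <;> simp
    rcases h4 with h4 | h4
    · have h5 := count hω (fun t : Tr => ty t = 1 ∨ ty t = 3) (⊤ : Submodule K V) (by
        rintro t'' (ht1 | ht1)
        · obtain ⟨v, hv⟩ := N_all hω3 ⟨w, hw0, hw⟩ (h4.trans ht1.symm)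
          exact ⟨v, Submodule.mem_top, hv⟩
        · obtain ⟨v, hv⟩ := N_all hω3 hN (ht.trans ht1.symm)
          exact ⟨v, Submodule.mem_top, hv⟩)
      rw [finrank_top] at h5
      have h6 : Fintype.card {t : Tr // ty t = 1 ∨ ty t = 3} = 14 := by decide +kernel
      omega
    · exact not_two h3 hle hω h4 ⟨w, hw0, hw⟩
  · left
    intro w hw
    by_contra hne
    have hne' : U ρ c1 ⊓ U ρ c2 ≠ ⊥ := by
      rw [Submodule.ne_bot_iff]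
      exact ⟨ρ c2 w - w, ⟨Submodule.sub_mem _ (inv_U ρ c12 w hw) hw, sub_mem_U ρ c2 w⟩, sub_ne_zero.mpr hne⟩
    obtain ⟨t', v, ⟨hv1, hv2⟩, hv0, hv⟩ := exists_wt hω hne'
      ((inv_U ρ (g := c1) (h := c1) rfl).inf ρ (inv_U ρ c12.symm))
      ((inv_U ρ c12).inf ρ (inv_U ρ (g := c2) (h := c2) rfl))
      ((inv_U ρ c13).inf ρ (inv_U ρ c23))
    have h1 : t'.1 ≠ 0 := ne_zero_of_U c1_3 h3 hv0 hv1 hv.1
    have h2 : t'.2.1 ≠ 0 := ne_zero_of_U c2_3 h3 hv0 hv2 hv.2.1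
    have h4 : ty t' = 2 ∨ ty t' = 3 := by
      unfold ty
      rw [if_neg h1, if_neg h2]
      split_ifs <;> simp
    rcases h4 with h4 | h4
    · exact not_two h3 hle hω h4 ⟨v, hv0, hv⟩
    · exact hN ⟨t', h4, v, hv0, hv⟩

end closed

theorem dich (h3 : ((3 : ℕ) : K) ≠ 0) (hle : Module.finrank K V ≤ 12) :
    c2 ∈ pst ρ (U ρ c1) ∨ ∀ v, ρ c1 v = v → ρ c2 v = v := by
  have h3' : ((3 : ℕ) : AlgebraicClosure K) ≠ 0 := by
    have h1 : algebraMap K (AlgebraicClosure K) ((3 : ℕ) : K) = ((3 : ℕ) : AlgebraicClosure K) := map_natCast _ 3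
    rw [← h1]
    intro h
    exact h3 ((algebraMap K (AlgebraicClosure K)).injective (h.trans (map_zero _).symm))
  rcases dich_closed (ρ := bc ρ) h3' (by rw [finrank_bc]; exact hle) with h | h
  · left
    exact pst_of_bc ρ h
  · right
    intro v hv
    have h1 := h (1 ⊗ₜ v) (by rw [bc_tmul, hv])
    rw [bc_tmul] at h1
    exact one_tmul_inj h1

end E9

end Cfsg.Agent.H614.AMod
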