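import Cfsg.Agent.H614.AMod.Nine

/-!
# Representations of `Alt α`, `|α| ≥ 9`, of degree at most 12, characteristic not 3

`nine` : irreducible, non-trivial ⟹ `Indep`, or 3-cycles are fixed point free and the degree is 8.
-/

set_option autoImplicit false
set_option linter.unusedSectionVars false

namespace Cfsg.Agent.H614.AMod

open Equiv Equiv.Perm TensorProduct

section general

variable {K V G : Type*} [Field K] [AddCommGroup V] [Module K V] [Group G] {ρ : Representation K G V}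

theorem quad_of_fpf {g : G} (hg : g ^ 3 = 1) (h : ∀ v, ρ g v = v → v = 0) (v : V) : ρ g (ρ g v) + ρ g v + v = 0 := by
  apply h
  rw [map_add, map_add]
  have h1 : ρ g (ρ g (ρ g v)) = v := by
    rw [← rho_mul, ← rho_mul, show g * g * g = g ^ 3 by rw [pow_succ, pow_two], hg, rho_one]
  rw [h1]
  abel

theorem fpf_of_quad (h3 : ((3 : ℕ) : K) ≠ 0) {g : G} (h : ∀ v, ρ g (ρ g v) + ρ g v + v = 0) {v : V} (hv : ρ g v = v) :
    v = 0 := by
  have h1 := h v
  rw [hv, hv] at h1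
  have h2 : ((3 : ℕ) : K) • v = 0 := by
    rw [Nat.cast_smul_eq_nsmul, ← h1]
    abel
  exact (smul_eq_zero.mp h2).resolve_left h3

theorem quad_bc {g : G} (h : ∀ v, ρ g (ρ g v) + ρ g v + v = 0) (v : AlgebraicClosure K ⊗[K] V) :
    bc ρ g (bc ρ g v) + bc ρ g v + v = 0 := by
  induction v with
  | zero => simp
  | add x y hx hy =>
    rw [map_add, map_add]
    have : bc ρ g (bc ρ g x) + bc ρ g (bc ρ g y) + (bc ρ g x + bc ρ g y) + (x + y) =
      (bc ρ g (bc ρ g x) + bc ρ g x + x) + (bc ρ g (bc ρ g y) + bc ρ g y + y) := by abel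
    rw [this, hx, hy, add_zero]
  | tmul a v =>
    rw [bc_tmul, bc_tmul, ← TensorProduct.tmul_add, ← TensorProduct.tmul_add, h, TensorProduct.tmul_zero]

variable [FiniteDimensional K V]

theorem split3 {ω : K} (hω : IsPrimitiveRoot ω 3) {g : G} (h : ∀ v, ρ g (ρ g v) + ρ g v + v = 0)
    {W : Submodule K V} (hW : Inv ρ W g) :
    Module.finrank K W = Module.finrank K (W ⊓ eg ρ g (ω ^ 1) : Submodule K V) +
      Module.finrank K (W ⊓ eg ρ g (ω ^ 2) : Submodule K V) := by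
  have hne : ω ^ 1 - ω ^ 2 ≠ 0 := by
    intro h1
    have h2 := hω.pow_inj (by norm_num) (by norm_num) (sub_eq_zero.mp h1)
    norm_num at h2
  have hω3 := hω.pow_eq_one
  have hsum : ω ^ 2 + ω + 1 = 0 := by
    have h1 : (ω - 1) * (ω ^ 2 + ω + 1) = 0 := by linear_combination hω3
    rcases mul_eq_zero.mp h1 with h2 | h2
    · exact absurd (sub_eq_zero.mp h2) (hω.ne_one (by norm_num))
    · exact h2
  have hdis : (W ⊓ eg ρ g (ω ^ 1)) ⊓ (W ⊓ eg ρ g (ω ^ 2)) = ⊥ := by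
    rw [eq_bot_iff]
    rintro v ⟨⟨-, h3⟩, ⟨-, h4⟩⟩
    rw [SetLike.mem_coe, mem_eg] at h3 h4
    have h5 : (ω ^ 1 - ω ^ 2) • v = 0 := by rw [sub_smul, ← h3, ← h4, sub_self]
    rw [Submodule.mem_bot]
    exact (smul_eq_zero.mp h5).resolve_left hne
  have hsup : (W ⊓ eg ρ g (ω ^ 1)) ⊔ (W ⊓ eg ρ g (ω ^ 2)) = W := by
    apply le_antisymm (sup_le inf_le_left inf_le_left)
    intro v hv
    have hgg : ρ g (ρ g v) = -(ρ g v) - v := by
      have h1 := h v
      rw [add_assoc, add_eq_zero_iff_eq_neg] at h1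
      rw [h1]; abel
    have e1 : v = (ω ^ 1 - ω ^ 2)⁻¹ • (ρ g v - ω ^ 2 • v) + (ω ^ 1 - ω ^ 2)⁻¹ • -(ρ g v - ω ^ 1 • v) := by
      rw [← smul_add]
      have : (ρ g v - ω ^ 2 • v) + -(ρ g v - ω ^ 1 • v) = (ω ^ 1 - ω ^ 2) • v := by rw [sub_smul]; abel
      rw [this, smul_smul, inv_mul_cancel₀ hne, one_smul]
    rw [e1]
    apply Submodule.add_mem_sup
    · refine ⟨W.smul_mem _ (W.sub_mem (hW v hv) (W.smul_mem _ hv)), ?_⟩
      rw [SetLike.mem_coe, mem_eg, map_smul, map_sub, map_smul, hgg, smul_comm]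
      congr 1
      rw [smul_sub, smul_smul, pow_one]
      have e2 : ω * ω ^ 2 = 1 := by rw [← hω3]; ring
      have e3 : ω ^ 2 = -1 - ω := by linear_combination hsum
      rw [e2, one_smul, e3, sub_smul, neg_one_smul]
      abel
    · refine ⟨W.smul_mem _ (W.neg_mem (W.sub_mem (hW v hv) (W.smul_mem _ hv))), ?_⟩
      rw [SetLike.mem_coe, mem_eg, map_smul, map_neg, map_sub, map_smul, hgg, smul_comm (ω ^ 2)]
      congr 1
      have e2 : ω ^ 2 * ω = 1 := by rw [← hω3]; ring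
      have e3 : ω ^ 2 = -1 - ω := by linear_combination hsum
      rw [smul_neg, smul_sub, smul_smul, pow_one, e2, one_smul, e3, sub_smul, neg_one_smul]
      abel
  have h3 := Submodule.finrank_sup_add_finrank_inf_eq (W ⊓ eg ρ g (ω ^ 1)) (W ⊓ eg ρ g (ω ^ 2))
  rw [hdis, hsup, finrank_bot, add_zero] at h3
  exact h3

end general

namespace E9

variable {K V : Type*} [Field K] [AddCommGroup V] [Module K V] [FiniteDimensional K V] {ρ : Representation K A9 V}

/-- the weight space -/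
def WS (ρ : Representation K A9 V) (ω : K) (t : Tr) : Submodule K V :=
  ⊤ ⊓ eg ρ c1 (ω ^ (t.1 : ℕ)) ⊓ eg ρ c2 (ω ^ (t.2.1 : ℕ)) ⊓ eg ρ c3 (ω ^ (t.2.2 : ℕ))

theorem WS_ma {ω : K} (t : Tr) : Module.finrank K (WS ρ ω t) ≤ Module.finrank K (WS ρ ω (ma t)) := by
  apply finrank_le_of_map ρ sg
  rintro v ⟨⟨⟨-, h1⟩, h2⟩, h3⟩
  exact ⟨⟨⟨trivial, eg_move ρ sg3 h3⟩, eg_move ρ sg1 h1⟩, eg_move ρ sg2 h2⟩

theorem WS_mb {ω : K} (hω : ω ^ 3 = 1) (t : Tr) : Module.finrank K (WS ρ ω t) ≤ Module.finrank K (WS ρ ω (mb t)) := by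
  apply finrank_le_of_map ρ ta
  rintro v ⟨⟨⟨-, h1⟩, h2⟩, h3⟩
  exact ⟨⟨⟨trivial, eg_inv hω c1_3 (eg_move ρ ta1 h1)⟩, eg_inv hω c2_3 (eg_move ρ ta2 h2)⟩, eg_move ρ ta3 h3⟩

theorem WS_md {ω : K} (hω : ω ^ 3 = 1) (t : Tr) : Module.finrank K (WS ρ ω t) ≤ Module.finrank K (WS ρ ω (md t)) := by
  apply finrank_le_of_map ρ dd
  rintro v ⟨⟨⟨-, h1⟩, h2⟩, h3⟩
  exact ⟨⟨⟨trivial, eg_move ρ dd2 h2⟩, eg_move ρ dd1 h1⟩, eg_inv hω c3_3 (eg_move ρ dd3 h3)⟩

theorem WS_iter {ω : K} {f : Tr → Tr} (hf : ∀ t, Module.finrank K (WS ρ ω t) ≤ Module.finrank K (WS ρ ω (f t))) (n : ℕ)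
    (t : Tr) : Module.finrank K (WS ρ ω t) ≤ Module.finrank K (WS ρ ω (f^[n] t)) := by
  induction n with
  | zero => exact le_rfl
  | succ n ih => rw [Function.iterate_succ_apply']; exact ih.trans (hf _)

theorem WS_all {ω : K} (hω : ω ^ 3 = 1) {t t' : Tr} (ht : ty t = ty t') :
    Module.finrank K (WS ρ ω t) ≤ Module.finrank K (WS ρ ω t') := by
  obtain ⟨y, w, u, z, h1⟩ := reach t t' ht
  rw [← h1]
  have ha := WS_ma (ρ := ρ) (ω := ω)
  have hb := WS_mb (ρ := ρ) hω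
  have hd := WS_md (ρ := ρ) hω
  unfold word
  refine le_trans ?_ (WS_iter hb _ _)
  refine le_trans ?_ (ha _)
  refine le_trans ?_ (WS_iter hb _ _)
  refine le_trans ?_ (ha _)
  refine le_trans ?_ (ha _)
  refine le_trans ?_ (WS_iter ha _ _)
  exact WS_iter hd _ _

theorem finrank_eight_closed [IsAlgClosed K] (h3 : ((3 : ℕ) : K) ≠ 0) (hle : Module.finrank K V ≤ 12)
    (hpos : 0 < Module.finrank K V) (h : ∀ v, ρ c1 (ρ c1 v) + ρ c1 v + v = 0) : Module.finrank K V = 8 := by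
  haveI : NeZero ((3 : ℕ) : K) := ⟨h3⟩
  obtain ⟨ω, hω⟩ := HasEnoughRootsOfUnity.exists_primitiveRoot K 3
  have hω3 := hω.pow_eq_one
  have key : ∀ {g g' k : A9}, k * g = g' * k → (∀ v, ρ g (ρ g v) + ρ g v + v = 0) →
      ∀ v, ρ g' (ρ g' v) + ρ g' v + v = 0 := by
    intro g g' k hk hg v
    have h1 := congrArg (ρ k) (hg (ρ k⁻¹ v))
    rw [map_add, map_add, map_zero, rho_self_inv] at h1
    have h2 : ∀ u, ρ k (ρ g u) = ρ g' (ρ k u) := fun u => by rw [← rho_mul, hk, rho_mul]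
    rwa [h2, h2, rho_self_inv] at h1
  have hc2 := key sg1 h
  have hc3 := key sg2 hc2
  have s0 := split3 hω h (inv_top ρ c1)
  have s1 := fun c : K => split3 hω hc2 ((inv_top ρ c2).inf ρ (inv_eg ρ c12 c))
  have s2 := fun c d : K => split3 hω hc3 (((inv_top ρ c3).inf ρ (inv_eg ρ c13 c)).inf ρ (inv_eg ρ c23 d))
  have e := fun t : Tr => fun ht : ty t = 3 => WS_all (ρ := ρ) hω3 (show ty t = ty (1, 1, 1) from ht)
  have e' := fun t : Tr => fun ht : ty t = 3 => WS_all (ρ := ρ) hω3 (show ty (1, 1, 1) = ty t from ht.symm)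
  have d1 := e (1, 1, 2) rfl
  have d1' := e' (1, 1, 2) rfl
  have d2 := e (1, 2, 1) rfl
  have d2' := e' (1, 2, 1) rfl
  have d3 := e (1, 2, 2) rfl
  have d3' := e' (1, 2, 2) rfl
  have d4 := e (2, 1, 1) rfl
  have d4' := e' (2, 1, 1) rfl
  have d5 := e (2, 1, 2) rfl
  have d5' := e' (2, 1, 2) rfl
  have d6 := e (2, 2, 1) rfl
  have d6' := e' (2, 2, 1) rfl
  have d7 := e (2, 2, 2) rfl
  have d7' := e' (2, 2, 2) rfl
  have a1 := s1 (ω ^ 1)
  have a2 := s1 (ω ^ 2)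
  have b11 := s2 (ω ^ 1) (ω ^ 1)
  have b12 := s2 (ω ^ 1) (ω ^ 2)
  have b21 := s2 (ω ^ 2) (ω ^ 1)
  have b22 := s2 (ω ^ 2) (ω ^ 2)
  rw [finrank_top] at s0
  unfold WS at d1 d1' d2 d2' d3 d3' d4 d4' d5 d5' d6 d6' d7 d7'
  simp only [Fin.val_one, Fin.val_two] at d1 d1' d2 d2' d3 d3' d4 d4' d5 d5' d6 d6' d7 d7'
  omega

theorem finrank_eight (h3 : ((3 : ℕ) : K) ≠ 0) (hle : Module.finrank K V ≤ 12)
    (hpos : 0 < Module.finrank K V) (h : ∀ v, ρ c1 v = v → v = 0) : Module.finrank K V = 8 := by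
  have h3' : ((3 : ℕ) : AlgebraicClosure K) ≠ 0 := by
    have h1 : algebraMap K (AlgebraicClosure K) ((3 : ℕ) : K) = ((3 : ℕ) : AlgebraicClosure K) := map_natCast _ 3
    rw [← h1]
    intro h
    exact h3 ((algebraMap K (AlgebraicClosure K)).injective (h.trans (map_zero _).symm))
  have h1 := finrank_eight_closed (ρ := bc ρ) h3' (by rw [finrank_bc]; exact hle) (by rw [finrank_bc]; exact hpos)
    (quad_bc (quad_of_fpf c1_3 h))
  rwa [finrank_bc] at h1

end E9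

open E9

variable {α : Type*} [Fintype α] [DecidableEq α]
variable {K V : Type*} [Field K] [AddCommGroup V] [Module K V] [FiniteDimensional K V]
  {ρ : Representation K (alternatingGroup α) V}

/-- the restriction to `Alt (Fin 9)` -/
def res9 (ρ : Representation K (alternatingGroup α) V) (q : Fin 9 ↪ α) : Representation K A9 V :=
  MonoidHom.comp ρ (ex q)

/-- a 3-cycle disjoint from two given ones -/
theorem exists_disjoint (h9 : 9 ≤ Fintype.card α) (e e' : Fin 3 ↪ α) :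
    ∃ f : Fin 3 ↪ α, (∀ i j, e i ≠ f j) ∧ ∀ i j, f i ≠ e' j := by
  let S : Finset α := Finset.univ.map e ∪ Finset.univ.map e'
  have hS : S.card ≤ 6 := by
    refine (Finset.card_union_le _ _).trans ?_
    rw [Finset.card_map, Finset.card_map, Finset.card_univ, Fintype.card_fin]
  have hc : 3 ≤ Fintype.card {x // x ∉ S} := by
    rw [Fintype.card_subtype_compl, Fintype.card_coe]
    omega
  obtain ⟨f⟩ : Nonempty (Fin 3 ↪ {x // x ∉ S}) := by
    apply Function.Embedding.nonempty_of_card_le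
    rw [Fintype.card_fin]
    exact hc
  refine ⟨f.trans (Function.Embedding.subtype _), fun i j h => ?_, fun i j h => ?_⟩
  · exact (f j).2 (Finset.mem_union_left _ (Finset.mem_map.mpr ⟨i, Finset.mem_univ _, h⟩))
  · exact (f i).2 (Finset.mem_union_right _ (Finset.mem_map.mpr ⟨j, Finset.mem_univ _, h.symm⟩))

/-- **The dichotomy for `|α| ≥ 9`, characteristic not 3, degree at most 12.** -/
theorem nine (h9 : 9 ≤ Fintype.card α) (h3 : ((3 : ℕ) : K) ≠ 0) (hle : Module.finrank K V ≤ 12) (hirr : Irr ρ)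
    {g₀ : alternatingGroup α} {v₀ : V} (hne : ρ g₀ v₀ ≠ v₀) :
    Indep ρ ∨ (Module.finrank K V = 8 ∧ ∀ (e : Fin 3 ↪ α) (v : V), ρ (ex e c3) v = v → v = 0) := by
  classical
  -- nine points
  obtain ⟨q⟩ : Nonempty (Fin 9 ↪ α) :=
    Function.Embedding.nonempty_of_card_le (by rw [Fintype.card_fin]; exact h9)
  let e₀ : Fin 6 ↪ α := (Fin.castLEEmb (by norm_num : 6 ≤ 9)).trans q
  have hd1 : ex q c1 = ex e₀ d1 := by
    apply Subtype.ext
    rw [ex_swap2 q 0 1 1 2 c1 rfl, ex_swap2 e₀ 0 1 1 2 d1 rfl]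
    rfl
  have hd2 : ex q c2 = ex e₀ d2 := by
    apply Subtype.ext
    rw [ex_swap2 q 3 4 4 5 c2 rfl, ex_swap2 e₀ 3 4 4 5 d2 rfl]
    rfl
  rcases dich (ρ := res9 ρ q) h3 hle with h | h
  · left
    intro e
    obtain ⟨g, hg⟩ := exists_move (by omega) e₀ e
    have h1 : ex q c2 ∈ pst ρ (U ρ (ex q c1)) := fun w hw => h w hw
    have h2 := pst_conj ρ (h := g) h1
    rwa [hd1, hd2, ex_conj e₀ e d1 g hg, ex_conj e₀ e d2 g hg] at h2
  · right
    -- fixed points of disjoint 3-cycles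
    have h1 : ∀ (f f' : Fin 3 ↪ α), (∀ i j, f i ≠ f' j) → ∀ v, ρ (ex f c3) v = v → ρ (ex f' c3) v = v := by
      intro f f' hff v hv
      have h2 : ex (emb6 f f' hff) d1 = ex f c3 :=
        ex_eq_of_coe (emb6 f f' hff) f 0 1 2 d1 rfl (by decide) (by decide) (by decide) rfl rfl rfl
      have h3 : ex (emb6 f f' hff) d2 = ex f' c3 :=
        ex_eq_of_coe (emb6 f f' hff) f' 3 4 5 d2 rfl (by decide) (by decide) (by decide) rfl rfl rfl
      obtain ⟨g, hg⟩ := exists_move (by omega) e₀ (emb6 f f' hff)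
      rw [← h2, ← ex_conj e₀ _ d1 g hg, rho_mul, rho_mul] at hv
      have h4 : ρ (ex e₀ d1) (ρ g⁻¹ v) = ρ g⁻¹ v := by
        have h5 := congrArg (ρ g⁻¹) hv
        rwa [rho_inv_self] at h5
      rw [← hd1] at h4
      have h5 : ρ (ex q c2) (ρ g⁻¹ v) = ρ g⁻¹ v := h _ h4
      rw [hd2] at h5
      rw [← h3, ← ex_conj e₀ _ d2 g hg, rho_mul, rho_mul, h5, rho_self_inv]
    have h2 : ∀ (f : Fin 3 ↪ α) (v : V), ρ (ex f c3) v = v → v = 0 := by
      intro f v hv
      have h4 : ∀ f' : Fin 3 ↪ α, ρ (ex f' c3) v = v := by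
        intro f'
        obtain ⟨k, hk1, hk2⟩ := exists_disjoint h9 f f'
        exact h1 k f' hk2 v (h1 f k hk1 v hv)
      have h5 : v ∈ fixV ρ := by
        intro g
        let H : Subgroup (alternatingGroup α) := pst ρ (Submodule.span K {v})
        have hH : ∀ k : alternatingGroup α, k ∈ H ↔ ρ k v = v := by
          intro k
          constructor
          · intro hk
            exact hk v (Submodule.mem_span_singleton_self v)
          · intro hk w hw
            obtain ⟨c, rfl⟩ := Submodule.mem_span_singleton.mp hw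
            rw [map_smul, hk]
        rw [← hH]
        refine mem_of_cyc H Set.univ (Set.mem_univ (q 0)) (Set.mem_univ (q 1)) (q.injective.ne (by decide)) ?_ g ?_
        · intro e' _ _ _
          rw [hH]
          exact h4 e'
        · intro z hz
          exact absurd (Set.mem_univ z) hz
      rw [fixV_eq_bot ρ hirr hne] at h5
      exact h5
    refine ⟨?_, h2⟩
    apply finrank_eight (ρ := res9 ρ q) h3 hle
    · haveI : Nontrivial V := ⟨⟨ρ g₀ v₀, v₀, hne⟩⟩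
      exact Module.finrank_pos
    · intro v hv
      let f : Fin 3 ↪ α := (Fin.castLEEmb (by norm_num : 3 ≤ 9)).trans q
      have h4 : ex q c1 = ex f c3 :=
        ex_eq_of_coe q f 0 1 2 c1 rfl (by decide) (by decide) (by decide) rfl rfl rfl
      apply h2 f v
      rw [← h4]
      exact hv

end Cfsg.Agent.H614.AMod
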