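import Cfsg.Agent.H614.AMod.NineB
import Cfsg.Agent.H943.TracePow

/-!
# `Alt (Fin 9)`, characteristic 2, degree 8, 3-cycles fixed point free

* `types` : the cycle types of elements of odd order; `sq_conj` : `g ^ 2 ~ g`; `inv_conj` : `g⁻¹ ~ g`
  unless the cycle type is `{5, 3}`;
* `y5_fpf` : the 5-cycles are fixed point free; `trace_y` : their trace is `0`;
* `trace_inv`, `trace_sq` : the traces of elements of odd order.
-/

set_option autoImplicit false
set_option linter.unusedSectionVars false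

namespace Cfsg.Agent.H614.AMod.E9

open Equiv Equiv.Perm

/-! ### elements of odd order -/

theorem types_aux (s : Multiset ℕ) (h1 : ∀ n ∈ s, 3 ≤ n ∧ Odd n) (h2 : s.sum ≤ 9) :
    s = 0 ∨ s = {3} ∨ s = {5} ∨ s = {7} ∨ s = {9} ∨ s = {3, 3} ∨ s = {5, 3} ∨ s = {3, 3, 3} := by
  have hcard : s.card * 3 ≤ s.sum := by
    have := Multiset.card_nsmul_le_sum (s := s) (a := 3) (fun x hx => (h1 x hx).1)
    simpa using this
  have hc : s.card ≤ 3 := by omega
  interval_cases h : s.card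
  · left; exact Multiset.card_eq_zero.mp h
  · obtain ⟨a, rfl⟩ := Multiset.card_eq_one.mp h
    obtain ⟨ha, ha'⟩ := h1 a (by simp)
    rw [Multiset.sum_singleton] at h2
    rw [Nat.odd_iff] at ha'
    have : a = 3 ∨ a = 5 ∨ a = 7 ∨ a = 9 := by omega
    rcases this with rfl | rfl | rfl | rfl <;> simp
  · obtain ⟨a, b, rfl⟩ := Multiset.card_eq_two.mp h
    obtain ⟨ha, ha'⟩ := h1 a (by simp)
    obtain ⟨hb, hb'⟩ := h1 b (by simp)
    rw [Multiset.insert_eq_cons, Multiset.sum_cons, Multiset.sum_singleton] at h2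
    rw [Nat.odd_iff] at ha' hb'
    have : (a = 3 ∧ b = 3) ∨ (a = 5 ∧ b = 3) ∨ (a = 3 ∧ b = 5) := by omega
    rcases this with ⟨rfl, rfl⟩ | ⟨rfl, rfl⟩ | ⟨rfl, rfl⟩
    · simp
    · simp
    · right; right; right; right; right; right; left
      exact Multiset.pair_comm 3 5
  · obtain ⟨a, b, c, rfl⟩ := Multiset.card_eq_three.mp h
    obtain ⟨ha, ha'⟩ := h1 a (by simp)
    obtain ⟨hb, hb'⟩ := h1 b (by simp)
    obtain ⟨hc, hc'⟩ := h1 c (by simp)
    rw [Multiset.insert_eq_cons, Multiset.insert_eq_cons, Multiset.sum_cons, Multiset.sum_cons,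
      Multiset.sum_singleton] at h2
    have : a = 3 ∧ b = 3 ∧ c = 3 := by omega
    obtain ⟨rfl, rfl, rfl⟩ := this
    simp

theorem types (σ : Perm (Fin 9)) (h : Odd (orderOf σ)) :
    σ.cycleType = 0 ∨ σ.cycleType = {3} ∨ σ.cycleType = {5} ∨ σ.cycleType = {7} ∨ σ.cycleType = {9} ∨
      σ.cycleType = {3, 3} ∨ σ.cycleType = {5, 3} ∨ σ.cycleType = {3, 3, 3} := by
  apply types_aux
  · intro n hn
    have h1 := Equiv.Perm.dvd_of_mem_cycleType hn
    have h2 := Equiv.Perm.two_le_of_mem_cycleType hn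
    have h3 : Odd n := Odd.of_dvd_nat h h1
    refine ⟨?_, h3⟩
    rw [Nat.odd_iff] at h3
    omega
  · rw [Equiv.Perm.sum_cycleType]
    have := Finset.card_le_univ σ.support
    simpa using this

/-- conjugation by an even permutation -/
theorem ec_of {σ r h : Perm (Fin 9)} (hc : σ.cycleType = r.cycleType) (hs : sign h = 1) {k : ℤ}
    (e : h * r * h⁻¹ = r ^ k) : ∃ τ : Perm (Fin 9), sign τ = 1 ∧ τ * σ * τ⁻¹ = σ ^ k := by
  obtain ⟨g, hg⟩ := isConj_iff.1 (isConj_iff_cycleType_eq.2 hc.symm)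
  refine ⟨g * h * g⁻¹, ?_, ?_⟩
  · rw [Perm.sign_mul, Perm.sign_mul, hs, mul_one, ← Perm.sign_mul, mul_inv_cancel, Perm.sign_one]
  · rw [← hg, conj_zpow, ← e]
    group

/-- representatives -/
def r3 : Perm (Fin 9) := swap 0 1 * swap 1 2
def r33 : Perm (Fin 9) := swap 0 1 * swap 1 2 * (swap 3 4 * swap 4 5)
def r333 : Perm (Fin 9) := swap 0 1 * swap 1 2 * (swap 3 4 * swap 4 5) * (swap 6 7 * swap 7 8)
def r5 : Perm (Fin 9) := swap 0 1 * swap 1 2 * swap 2 3 * swap 3 4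
def r53 : Perm (Fin 9) := swap 0 1 * swap 1 2 * swap 2 3 * swap 3 4 * (swap 5 6 * swap 6 7)
def r7 : Perm (Fin 9) := swap 0 1 * swap 1 2 * swap 2 3 * swap 3 4 * swap 4 5 * swap 5 6
def r9 : Perm (Fin 9) := swap 0 1 * swap 1 2 * swap 2 3 * swap 3 4 * swap 4 5 * swap 5 6 * swap 6 7 * swap 7 8

theorem ct3 : r3.cycleType = {3} := by decide +kernel
theorem ct33 : r33.cycleType = {3, 3} := by decide +kernel
theorem ct333 : r333.cycleType = {3, 3, 3} := by decide +kernel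
theorem ct5 : r5.cycleType = {5} := by decide +kernel
theorem ct53 : r53.cycleType = {5, 3} := by decide +kernel
theorem ct7 : r7.cycleType = {7} := by decide +kernel
theorem ct9 : r9.cycleType = {9} := by decide +kernel

def k3 : Perm (Fin 9) := ⟨![0, 2, 1, 3, 4, 5, 6, 8, 7], ![0, 2, 1, 3, 4, 5, 6, 8, 7], by decide, by decide⟩
def k33 : Perm (Fin 9) := ⟨![0, 2, 1, 3, 5, 4, 6, 7, 8], ![0, 2, 1, 3, 5, 4, 6, 7, 8], by decide, by decide⟩
def k333 : Perm (Fin 9) := ⟨![0, 2, 1, 6, 8, 7, 3, 5, 4], ![0, 2, 1, 6, 8, 7, 3, 5, 4], by decide, by decide⟩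
def k5 : Perm (Fin 9) := ⟨![0, 2, 4, 1, 3, 5, 6, 8, 7], ![0, 3, 1, 4, 2, 5, 6, 8, 7], by decide, by decide⟩
def l5 : Perm (Fin 9) := ⟨![0, 4, 3, 2, 1, 5, 6, 7, 8], ![0, 4, 3, 2, 1, 5, 6, 7, 8], by decide, by decide⟩
def k53 : Perm (Fin 9) := ⟨![0, 2, 4, 1, 3, 5, 7, 6, 8], ![0, 3, 1, 4, 2, 5, 7, 6, 8], by decide, by decide⟩
def k7 : Perm (Fin 9) := ⟨![0, 2, 4, 6, 1, 3, 5, 7, 8], ![0, 4, 1, 5, 2, 6, 3, 7, 8], by decide, by decide⟩
def l7 : Perm (Fin 9) := ⟨![0, 6, 5, 4, 3, 2, 1, 8, 7], ![0, 6, 5, 4, 3, 2, 1, 8, 7], by decide, by decide⟩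
def k9 : Perm (Fin 9) := ⟨![0, 2, 4, 6, 8, 1, 3, 5, 7], ![0, 5, 1, 6, 2, 7, 3, 8, 4], by decide, by decide⟩
def l9 : Perm (Fin 9) := ⟨![0, 8, 7, 6, 5, 4, 3, 2, 1], ![0, 8, 7, 6, 5, 4, 3, 2, 1], by decide, by decide⟩

theorem sq_conj (σ : Perm (Fin 9)) (h : Odd (orderOf σ)) :
    ∃ τ : Perm (Fin 9), sign τ = 1 ∧ τ * σ * τ⁻¹ = σ ^ (2 : ℤ) := by
  rcases types σ h with h | h | h | h | h | h | h | h
  · rw [cycleType_eq_zero] at h
    exact ⟨1, Perm.sign_one, by rw [h]; simp⟩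
  · exact ec_of (h := k3) (h.trans ct3.symm) (by decide) (by decide)
  · exact ec_of (h := k5) (h.trans ct5.symm) (by decide) (by decide)
  · exact ec_of (h := k7) (h.trans ct7.symm) (by decide) (by decide)
  · exact ec_of (h := k9) (h.trans ct9.symm) (by decide) (by decide)
  · exact ec_of (h := k33) (h.trans ct33.symm) (by decide) (by decide)
  · exact ec_of (h := k53) (h.trans ct53.symm) (by decide) (by decide)
  · exact ec_of (h := k333) (h.trans ct333.symm) (by decide) (by decide)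

theorem inv_conj (σ : Perm (Fin 9)) (h : Odd (orderOf σ)) (h53 : σ.cycleType ≠ {5, 3}) :
    ∃ τ : Perm (Fin 9), sign τ = 1 ∧ τ * σ * τ⁻¹ = σ ^ (-1 : ℤ) := by
  rcases types σ h with h | h | h | h | h | h | h | h
  · rw [cycleType_eq_zero] at h
    exact ⟨1, Perm.sign_one, by rw [h]; simp⟩
  · exact ec_of (h := k3) (h.trans ct3.symm) (by decide) (by decide)
  · exact ec_of (h := l5) (h.trans ct5.symm) (by decide) (by decide)
  · exact ec_of (h := l7) (h.trans ct7.symm) (by decide) (by decide)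
  · exact ec_of (h := l9) (h.trans ct9.symm) (by decide) (by decide)
  · exact ec_of (h := k33) (h.trans ct33.symm) (by decide) (by decide)
  · exact absurd h h53
  · exact ec_of (h := k333) (h.trans ct333.symm) (by decide) (by decide)


/-! ### 5-cycles -/

variable {K V : Type*} [Field K] [AddCommGroup V] [Module K V] [FiniteDimensional K V] {ρ : Representation K A9 V}

/-- `(0 1 2 3 4)` -/
def y5 : A9 := ⟨swap 0 1 * swap 1 2 * swap 2 3 * swap 3 4, by rw [mem_alternatingGroup]; decide⟩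
/-- `(1 4)(2 3)` -/
def t5 : A9 := ⟨swap 1 4 * swap 2 3, by rw [mem_alternatingGroup]; decide⟩
/-- `(0 2 4 1 3)`-type conjugator: `y ↦ y ^ 2` -/
def k5A : A9 := ⟨k5, by rw [mem_alternatingGroup]; decide⟩

theorem t5_y5 : t5 * y5 = y5⁻¹ * t5 := by decide
theorem y5_5 : y5 ^ 5 = 1 := by decide
theorem k5_y5 : k5A * y5 = y5 ^ 2 * k5A := by decide

/-- the 3-cycles `(2 3 4)`, `(1 2 4)`, `(0 1 3)` -/
def ca : A9 := ⟨swap 2 3 * swap 3 4, by rw [mem_alternatingGroup]; decide⟩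
def cb : A9 := ⟨swap 1 2 * swap 2 4, by rw [mem_alternatingGroup]; decide⟩
def cd : A9 := ⟨swap 0 1 * swap 1 3, by rw [mem_alternatingGroup]; decide⟩

theorem cb_eq : cb = ca * t5 := by decide
theorem cd_eq : cd = y5 * (ca * cb⁻¹) := by decide
theorem ca_3 : ca ^ 3 = 1 := by decide
theorem cb_3 : cb ^ 3 = 1 := by decide

theorem ca_c3 : ca = ex (emb3 2 3 4 (by decide) (by decide) (by decide)) AMod.c3 := by
  apply Subtype.ext
  rw [coe_c3]
  rfl

theorem cb_c3 : cb = ex (emb3 1 2 4 (by decide) (by decide) (by decide)) AMod.c3 := by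
  apply Subtype.ext
  rw [coe_c3]
  rfl

theorem cd_c3 : cd = ex (emb3 0 1 3 (by decide) (by decide) (by decide)) AMod.c3 := by
  apply Subtype.ext
  rw [coe_c3]
  rfl

/-- 3-cycles are fixed point free -/
def Fpf (ρ : Representation K A9 V) : Prop := ∀ (e : Fin 3 ↪ Fin 9) (v : V), ρ (ex e AMod.c3) v = v → v = 0

theorem fixed_eq_zero (h : Fpf ρ) {u : V} (hy : ρ y5 u = u) (ht : ρ t5 u = u) : u = 0 := by
  have ha : ∀ v, ρ ca v = v → v = 0 := by rw [ca_c3]; exact h _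
  have hb : ∀ v, ρ cb v = v → v = 0 := by rw [cb_c3]; exact h _
  have hd : ∀ v, ρ cd v = v → v = 0 := by rw [cd_c3]; exact h _
  have e1 : ρ cb u = ρ ca u := by rw [cb_eq, rho_mul, ht]
  have q1 := quad_of_fpf ca_3 ha u
  have q2 := quad_of_fpf cb_3 hb u
  have e2 : ρ ca (ρ ca u) = ρ cb (ρ cb u) := by
    have a1 : ρ ca (ρ ca u) = -(ρ ca u + u) := eq_neg_of_add_eq_zero_left (by rw [← add_assoc]; exact q1)
    have a2 : ρ cb (ρ cb u) = -(ρ cb u + u) := eq_neg_of_add_eq_zero_left (by rw [← add_assoc]; exact q2)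
    rw [a1, a2, e1]
  have e3 : ρ ca⁻¹ u = ρ cb⁻¹ u := by
    have i1 : ρ ca⁻¹ u = ρ ca (ρ ca u) := by
      rw [← rho_mul, show ca * ca = ca⁻¹ by decide]
    have i2 : ρ cb⁻¹ u = ρ cb (ρ cb u) := by
      rw [← rho_mul, show cb * cb = cb⁻¹ by decide]
    rw [i1, i2, e2]
  have e4 : ρ (ca * cb⁻¹) u = u := by rw [rho_mul, ← e3, rho_self_inv]
  apply hd
  rw [cd_eq, rho_mul, e4, hy]

theorem y5_fpf (h2 : (2 : K) = 0) (h : Fpf ρ) {v : V} (hv : ρ y5 v = v) : v = 0 := by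
  have hneg : ∀ w : V, -w = w := by
    intro w
    have : w + w = 0 := by rw [← two_smul K w, h2, zero_smul]
    exact neg_eq_of_add_eq_zero_left this
  have h1 : ρ y5 (ρ t5 v) = ρ t5 v := by
    have h3 : ρ y5⁻¹ v = v := by
      conv_lhs => rw [← hv]
      exact rho_inv_self ρ y5 v
    have h4 : y5 * t5 = t5 * y5⁻¹ := by decide
    rw [← rho_mul, h4, rho_mul, h3]
  have h3 : v + ρ t5 v = 0 := by
    apply fixed_eq_zero h
    · rw [map_add, hv, h1]
    · have h4 : ρ t5 (ρ t5 v) = v := by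
        rw [← rho_mul, show t5 * t5 = 1 by decide, rho_one]
      rw [map_add, h4, add_comm]
  have h4 : ρ t5 v = v := by
    have := eq_neg_of_add_eq_zero_right h3
    rw [this, hneg]
  exact fixed_eq_zero h hv h4

open Polynomial in
/-- the trace of a 5-cycle -/
theorem trace_y_closed [IsAlgClosed K] (h2 : (2 : K) = 0) (h : Fpf ρ) (h8 : Module.finrank K V = 8) :
    LinearMap.trace K V (ρ y5) = 0 := by
  classical
  have h5 : ((5 : ℕ) : K) ≠ 0 := by
    intro h5
    have h6 : ((5 : ℕ) : K) = 1 := by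
      push_cast
      linear_combination 2 * h2
    rw [h6] at h5
    exact one_ne_zero h5
  haveI : NeZero ((5 : ℕ) : K) := ⟨h5⟩
  obtain ⟨ζ, hζ⟩ := HasEnoughRootsOfUnity.exists_primitiveRoot K 5
  have hζ5 := hζ.pow_eq_one
  set f : Module.End K V := ρ y5 with hf
  have hf5 : f ^ 5 = 1 := by rw [hf, ← map_pow, y5_5, map_one]
  have hss : f.IsSemisimple := by
    refine Module.End.isSemisimple_of_squarefree_aeval_eq_zero (p := X ^ 5 - C 1) ?_ ?_
    · exact (separable_X_pow_sub_C (1 : K) h5 one_ne_zero).squarefree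
    · rw [map_sub, map_pow, aeval_X, hf5, aeval_C, map_one, sub_self]
  have hgen : ∀ μ : K, Module.finrank K (f.maxGenEigenspace μ) = Module.finrank K (eg ρ y5 μ) := by
    intro μ
    rw [hss.isFinitelySemisimple.maxGenEigenspace_eq_eigenspace]
    have : f.eigenspace μ = eg ρ y5 μ := by
      ext v
      rw [Module.End.mem_eigenspace_iff, mem_eg]
    rw [this]
  have hcount : ∀ μ : K, f.charpoly.roots.count μ = Module.finrank K (eg ρ y5 μ) := by
    intro μ
    rw [count_roots, ← LinearMap.finrank_maxGenEigenspace_eq, hgen]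
  -- conjugacy with the square
  have hstep : ∀ i : ℕ, Module.finrank K (eg ρ y5 (ζ ^ i)) ≤ Module.finrank K (eg ρ y5 (ζ ^ (3 * i))) := by
    intro i
    apply finrank_le_of_map ρ k5A
    intro w hw
    have h3 := eg_move ρ k5_y5 hw
    have h4 := pow_eg ρ h3 3
    rw [← pow_mul, show 2 * 3 = 5 + 1 from rfl, pow_succ, y5_5, one_mul, ← pow_mul, mul_comm i 3] at h4
    exact h4
  have hmod : ∀ i : ℕ, ζ ^ (i % 5) = ζ ^ i := by
    intro i
    conv_rhs => rw [← Nat.mod_add_div i 5, pow_add, pow_mul, hζ5, one_pow, mul_one]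
  have z9 : ζ ^ (3 * 3) = ζ ^ 4 := by rw [← hmod (3 * 3)]
  have z12 : ζ ^ (3 * 4) = ζ ^ 2 := by rw [← hmod (3 * 4)]
  have z6 : ζ ^ (3 * 2) = ζ := by
    rw [← hmod (3 * 2)]
    exact pow_one ζ
  have s1 := hstep 1
  have s3 := hstep 3
  have s4 := hstep 4
  have s2 := hstep 2
  rw [show 3 * 1 = 3 from rfl, pow_one] at s1
  rw [z9] at s3
  rw [z12] at s4
  rw [z6] at s2
  have hroot : ∀ μ ∈ f.charpoly.roots, μ ∈ ({ζ ^ 1, ζ ^ 2, ζ ^ 3, ζ ^ 4} : Finset K) := by
    intro μ hμ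
    have h6 : f.charpoly.roots.count μ ≠ 0 := Multiset.count_ne_zero.mpr hμ
    rw [hcount] at h6
    have h7 : eg ρ y5 μ ≠ ⊥ := by
      intro h7
      rw [h7, finrank_bot] at h6
      exact h6 rfl
    obtain ⟨v, hv, hv0⟩ := (Submodule.ne_bot_iff _).mp h7
    obtain ⟨i, hi, hiμ⟩ := hζ.eq_pow_of_pow_eq_one (eig_pow ρ hv hv0 y5_5)
    rw [← hiμ]
    have hi0 : i ≠ 0 := by
      rintro rfl
      rw [pow_zero] at hiμ
      rw [← hiμ, mem_eg_one] at hv
      exact hv0 (y5_fpf h2 h hv)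
    have : i = 1 ∨ i = 2 ∨ i = 3 ∨ i = 4 := by omega
    rcases this with rfl | rfl | rfl | rfl <;> simp
  have hinj : ∀ i j : ℕ, i < 5 → j < 5 → i ≠ j → ζ ^ i ≠ ζ ^ j := fun i j hi hj hij h =>
    hij (hζ.pow_inj hi hj h)
  have hcard := Multiset.sum_count_eq_card hroot
  have hsum := Finset.sum_multiset_count_of_subset f.charpoly.roots ({ζ ^ 1, ζ ^ 2, ζ ^ 3, ζ ^ 4} : Finset K) (by
    intro μ hμ
    exact hroot μ (Multiset.mem_toFinset.mp hμ))
  have n1 : ζ ^ 1 ∉ ({ζ ^ 2, ζ ^ 3, ζ ^ 4} : Finset K) := by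
    rw [Finset.mem_insert, Finset.mem_insert, Finset.mem_singleton]
    rintro (h | h | h)
    · exact hinj 1 2 (by norm_num) (by norm_num) (by norm_num) h
    · exact hinj 1 3 (by norm_num) (by norm_num) (by norm_num) h
    · exact hinj 1 4 (by norm_num) (by norm_num) (by norm_num) h
  have n2 : ζ ^ 2 ∉ ({ζ ^ 3, ζ ^ 4} : Finset K) := by
    rw [Finset.mem_insert, Finset.mem_singleton]
    rintro (h | h)
    · exact hinj 2 3 (by norm_num) (by norm_num) (by norm_num) h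
    · exact hinj 2 4 (by norm_num) (by norm_num) (by norm_num) h
  have n3 : ζ ^ 3 ∉ ({ζ ^ 4} : Finset K) := by
    rw [Finset.mem_singleton]
    exact hinj 3 4 (by norm_num) (by norm_num) (by norm_num)
  rw [Finset.sum_insert n1, Finset.sum_insert n2, Finset.sum_insert n3, Finset.sum_singleton] at hcard hsum
  rw [hcount, hcount, hcount, hcount] at hcard hsum
  have hdeg : f.charpoly.roots.card = 8 := by
    rw [← h8, ← LinearMap.charpoly_natDegree f]
    exact (splits_iff_card_roots.mp (IsAlgClosed.splits _))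
  rw [hdeg] at hcard
  rw [pow_one] at hcard hsum
  have e1 : Module.finrank K (eg ρ y5 ζ) = 2 := by omega
  have e2 : Module.finrank K (eg ρ y5 (ζ ^ 2)) = 2 := by omega
  have e3 : Module.finrank K (eg ρ y5 (ζ ^ 3)) = 2 := by omega
  have e4 : Module.finrank K (eg ρ y5 (ζ ^ 4)) = 2 := by omega
  have htr := H943.TracePow.trace_pow f 1
  rw [pow_one] at htr
  simp only [pow_one, Multiset.map_id'] at htr
  rw [htr, hsum, e1, e2, e3, e4]
  have h20 : ∀ x : K, (2 : ℕ) • x = 0 := by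
    intro x
    rw [two_nsmul, ← two_mul, h2, zero_mul]
  rw [h20, h20, h20, h20]
  simp

/-- `Fpf` is preserved by extension of scalars -/
theorem Fpf.bc (h3 : ((3 : ℕ) : K) ≠ 0) (h : Fpf ρ) : Fpf (AMod.bc ρ) := by
  intro e v hv
  have h3' : ((3 : ℕ) : AlgebraicClosure K) ≠ 0 := by
    have h1 : algebraMap K (AlgebraicClosure K) ((3 : ℕ) : K) = ((3 : ℕ) : AlgebraicClosure K) := map_natCast _ 3
    rw [← h1]
    intro h
    exact h3 ((algebraMap K (AlgebraicClosure K)).injective (h.trans (map_zero _).symm))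
  have hc : (ex e AMod.c3) ^ 3 = 1 := by
    rw [← map_pow, show AMod.c3 ^ 3 = 1 by decide, map_one]
  exact fpf_of_quad h3' (quad_bc (quad_of_fpf hc (h e))) hv

theorem trace_y (h2 : (2 : K) = 0) (h : Fpf ρ) (h8 : Module.finrank K V = 8) :
    LinearMap.trace K V (ρ y5) = 0 := by
  have h3 : ((3 : ℕ) : K) ≠ 0 := by
    intro h3
    have h6 : ((3 : ℕ) : K) = 1 := by
      push_cast
      linear_combination h2
    rw [h6] at h3
    exact one_ne_zero h3
  have h2' : (2 : AlgebraicClosure K) = 0 := by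
    have h1 : algebraMap K (AlgebraicClosure K) 2 = 2 := map_ofNat _ 2
    rw [← h1, h2, map_zero]
  have h4 := trace_y_closed (ρ := AMod.bc ρ) h2' (h.bc h3) (by rw [finrank_bc]; exact h8)
  have h5 : AMod.bc ρ y5 = (ρ y5).baseChange (AlgebraicClosure K) := rfl
  rw [h5, LinearMap.trace_baseChange] at h4
  exact (algebraMap K (AlgebraicClosure K)).injective (h4.trans (map_zero _).symm)

theorem trace_conj {G : Type*} [Group G] (ρ : Representation K G V) (g h : G) :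
    LinearMap.trace K V (ρ (h * g * h⁻¹)) = LinearMap.trace K V (ρ g) := by
  have h1 : ρ (h * g * h⁻¹) = ρ (h * g) * ρ h⁻¹ := map_mul ρ _ _
  rw [h1, LinearMap.trace_mul_comm, ← map_mul ρ, ← mul_assoc, inv_mul_cancel, one_mul]

/-- `(5 6 7)` and the product with the 5-cycle -/
def c57 : A9 := ⟨swap 5 6 * swap 6 7, by rw [mem_alternatingGroup]; decide⟩
def l5A : A9 := ⟨l5, by rw [mem_alternatingGroup]; decide⟩
/-- odd, inverts `r53` -/
def m53 : Perm (Fin 9) := l5 * swap 5 6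

theorem c57_c3 : c57 = ex (emb3 5 6 7 (by decide) (by decide) (by decide)) AMod.c3 := by
  apply Subtype.ext
  rw [coe_c3]
  rfl

theorem trace_r53 (h2 : (2 : K) = 0) (h : Fpf ρ) (h8 : Module.finrank K V = 8) :
    LinearMap.trace K V (ρ (y5 * c57)⁻¹) = LinearMap.trace K V (ρ (y5 * c57)) := by
  have hc : ∀ v, ρ c57 v = v → v = 0 := by rw [c57_c3]; exact h _
  have q := quad_of_fpf (show c57 ^ 3 = 1 by decide) hc
  have e1 : ρ (y5 * c57 ^ 2) + ρ (y5 * c57) + ρ y5 = 0 := by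
    ext v
    have h1 := congrArg (ρ y5) (q v)
    rw [map_add, map_add, map_zero] at h1
    rw [LinearMap.add_apply, LinearMap.add_apply, LinearMap.zero_apply, rho_mul, rho_mul, pow_two, rho_mul]
    exact h1
  have e2 := congrArg (LinearMap.trace K V) e1
  rw [map_add, map_add, map_zero, trace_y h2 h h8, add_zero] at e2
  have e3 : (y5 * c57)⁻¹ = l5A * (y5 * c57 ^ 2) * l5A⁻¹ := by decide
  rw [e3, trace_conj]
  have e4 := eq_neg_of_add_eq_zero_left e2
  rw [e4]
  have : ∀ x : K, -x = x := fun x => by linear_combination (-x) * h2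
  exact this _

theorem exists_even {σ r m : Perm (Fin 9)} (hc : σ.cycleType = r.cycleType) (hm : sign m = -1) (e : m * r * m⁻¹ = r⁻¹) :
    ∃ τ : Perm (Fin 9), sign τ = 1 ∧ (τ * r * τ⁻¹ = σ ∨ τ * r⁻¹ * τ⁻¹ = σ) := by
  obtain ⟨g, hg⟩ := isConj_iff.1 (isConj_iff_cycleType_eq.2 hc.symm)
  rcases Int.units_eq_one_or (sign g) with h | h
  · exact ⟨g, h, Or.inl hg⟩
  · refine ⟨g * m⁻¹, ?_, Or.inr ?_⟩
    · rw [Perm.sign_mul, Perm.sign_inv, h, hm]; decide
    · rw [← hg, ← e]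
      group

/-- **Traces are real.** -/
theorem trace_inv (h2 : (2 : K) = 0) (h : Fpf ρ) (h8 : Module.finrank K V = 8) (a : A9) (ha : Odd (orderOf a)) :
    LinearMap.trace K V (ρ a⁻¹) = LinearMap.trace K V (ρ a) := by
  have ha' : Odd (orderOf (a : Perm (Fin 9))) := by rwa [Subgroup.orderOf_coe]
  by_cases h53 : (a : Perm (Fin 9)).cycleType = {5, 3}
  · obtain ⟨τ, hτ, hτa⟩ := exists_even (r := r53) (m := m53) (h53.trans ct53.symm) (by decide) (by decide)
    let t : A9 := ⟨τ, mem_alternatingGroup.mpr hτ⟩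
    have h53' : ((y5 * c57 : A9) : Perm (Fin 9)) = r53 := by decide
    rcases hτa with h1 | h1
    · have e1 : a = t * (y5 * c57) * t⁻¹ := by
        apply Subtype.ext
        rw [← h1, Subgroup.coe_mul, Subgroup.coe_mul, h53']
        rfl
      have e2 : a⁻¹ = t * (y5 * c57)⁻¹ * t⁻¹ := by rw [e1]; group
      rw [e2, e1, trace_conj, trace_conj, trace_r53 h2 h h8]
    · have e1 : a = t * (y5 * c57)⁻¹ * t⁻¹ := by
        apply Subtype.ext
        rw [← h1, Subgroup.coe_mul, Subgroup.coe_mul, Subgroup.coe_inv, h53']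
        rfl
      have e2 : a⁻¹ = t * (y5 * c57) * t⁻¹ := by rw [e1]; group
      rw [e2, e1, trace_conj, trace_conj, trace_r53 h2 h h8]
  · obtain ⟨τ, hτ, hτa⟩ := inv_conj (a : Perm (Fin 9)) ha' h53
    let t : A9 := ⟨τ, mem_alternatingGroup.mpr hτ⟩
    have e1 : a⁻¹ = t * a * t⁻¹ := by
      apply Subtype.ext
      rw [zpow_neg_one] at hτa
      rw [Subgroup.coe_inv, ← hτa]
      rfl
    rw [e1, trace_conj]

/-- **Traces are rational over the prime field.** -/
theorem trace_sq (a : A9) (ha : Odd (orderOf a)) :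
    LinearMap.trace K V (ρ (a ^ 2)) = LinearMap.trace K V (ρ a) := by
  have ha' : Odd (orderOf (a : Perm (Fin 9))) := by rwa [Subgroup.orderOf_coe]
  obtain ⟨τ, hτ, hτa⟩ := sq_conj (a : Perm (Fin 9)) ha'
  let t : A9 := ⟨τ, mem_alternatingGroup.mpr hτ⟩
  have e1 : a ^ 2 = t * a * t⁻¹ := by
    apply Subtype.ext
    rw [zpow_ofNat] at hτa
    rw [Subgroup.coe_pow, ← hτa]
    rfl
  rw [e1, trace_conj]

end Cfsg.Agent.H614.AMod.E9
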