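import Cfsg.Agent.H614.AMod.Emb
import Cfsg.Agent.H614.AMod.Disp

/-!
# Recognition of the natural module of `Alt α`, `|α| ≥ 8`

If `V` is an irreducible non-trivial module and disjoint 3-cycles satisfy `(c - 1)(c' - 1) = 0`, then `V` is
spanned by vectors `F i j` with `F i j + F j k = F i k`, permuted by the group (`natural`).
-/

set_option autoImplicit false
set_option linter.unusedSectionVars false

namespace Cfsg.Agent.H614.AMod

open Equiv Equiv.Perm

variable {α : Type*} [Fintype α] [DecidableEq α]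

/-- three points of eight -/
def f3 (i j k : Fin 8) (h : i ≠ j ∧ j ≠ k ∧ i ≠ k := by decide) : Fin 3 ↪ Fin 8 := emb3 i j k h.1 h.2.1 h.2.2

/-- the 3-cycle -/
def T (q : Fin 8 ↪ α) (i j k : Fin 8) (h : i ≠ j ∧ j ≠ k ∧ i ≠ k := by decide) : alternatingGroup α :=
  ex ((f3 i j k h).trans q) c3

theorem coe_T (q : Fin 8 ↪ α) (i j k : Fin 8) (h : i ≠ j ∧ j ≠ k ∧ i ≠ k) :
    ((T q i j k h : alternatingGroup α) : Perm α) = swap (q i) (q j) * swap (q j) (q k) := by
  unfold T
  rw [coe_c3]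
  rfl

theorem T_apply_fst (q : Fin 8 ↪ α) (i j k : Fin 8) (h : i ≠ j ∧ j ≠ k ∧ i ≠ k) :
    ((T q i j k h : alternatingGroup α) : Perm α) (q i) = q j := by
  rw [coe_T, Perm.mul_apply, swap_apply_of_ne_of_ne (q.injective.ne h.1) (q.injective.ne h.2.2), swap_apply_left]

theorem T_apply_snd (q : Fin 8 ↪ α) (i j k : Fin 8) (h : i ≠ j ∧ j ≠ k ∧ i ≠ k) :
    ((T q i j k h : alternatingGroup α) : Perm α) (q j) = q k := by
  rw [coe_T, Perm.mul_apply, swap_apply_left, swap_apply_of_ne_of_ne (q.injective.ne h.2.2.symm)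
    (q.injective.ne h.2.1.symm)]

theorem T_apply_thd (q : Fin 8 ↪ α) (i j k : Fin 8) (h : i ≠ j ∧ j ≠ k ∧ i ≠ k) :
    ((T q i j k h : alternatingGroup α) : Perm α) (q k) = q i := by
  rw [coe_T, Perm.mul_apply, swap_apply_right, swap_apply_right]

theorem T_apply_of_ne (q : Fin 8 ↪ α) (i j k : Fin 8) (h : i ≠ j ∧ j ≠ k ∧ i ≠ k) {x : α} (hi : x ≠ q i) (hj : x ≠ q j)
    (hk : x ≠ q k) : ((T q i j k h : alternatingGroup α) : Perm α) x = x := by
  rw [coe_T, Perm.mul_apply, swap_apply_of_ne_of_ne hj hk, swap_apply_of_ne_of_ne hi hj]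

theorem T_conj (q : Fin 8 ↪ α) (i j k i' j' k' : Fin 8) (h : i ≠ j ∧ j ≠ k ∧ i ≠ k) (h' : i' ≠ j' ∧ j' ≠ k' ∧ i' ≠ k')
    (g : alternatingGroup α) (h1 : (g : Perm α) (q i) = q i') (h2 : (g : Perm α) (q j) = q j')
    (h3 : (g : Perm α) (q k) = q k') : g * T q i j k h * g⁻¹ = T q i' j' k' h' := by
  apply ex_conj
  intro l
  fin_cases l
  · exact h1
  · exact h2
  · exact h3

theorem exists_emb (h8 : 8 ≤ Fintype.card α) : Nonempty (Fin 8 ↪ α) :=
  Function.Embedding.nonempty_of_card_le (by simpa using h8)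

/-- the basic pair of disjoint 3-cycles in `Alt (Fin 6)` -/
def d1 : alternatingGroup (Fin 6) := ⟨swap 0 1 * swap 1 2, by rw [mem_alternatingGroup]; decide⟩
def d2 : alternatingGroup (Fin 6) := ⟨swap 3 4 * swap 4 5, by rw [mem_alternatingGroup]; decide⟩

variable {K V : Type*} [Field K] [AddCommGroup V] [Module K V] (ρ : Representation K (alternatingGroup α) V)

/-- disjoint 3-cycles act independently -/
def Indep : Prop := ∀ e : Fin 6 ↪ α, ex e d2 ∈ pst ρ (U ρ (ex e d1))

theorem ex_eq_of_coe {k : ℕ} (e : Fin k ↪ α) (e3 : Fin 3 ↪ α) (i j l : Fin k) (σ : alternatingGroup (Fin k))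
    (hσ : (σ : Perm (Fin k)) = swap i j * swap j l) (hij : i ≠ j) (hjl : j ≠ l) (hil : i ≠ l)
    (h0 : e3 0 = e i) (h1 : e3 1 = e j) (h2 : e3 2 = e l) : ex e σ = ex e3 c3 := by
  have h := ex_congr e e3 (emb3 i j l hij hjl hil) (by
    intro t
    fin_cases t
    · exact h0
    · exact h1
    · exact h2) c3
  rw [h]
  congr 1
  apply Subtype.ext
  rw [hσ, coe_c3]
  rfl

/-- six points from two triples -/
def emb6 (e e' : Fin 3 ↪ α) (h : ∀ i j, e i ≠ e' j) : Fin 6 ↪ α :=
  ⟨![e 0, e 1, e 2, e' 0, e' 1, e' 2], by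
    have h01 : e 0 ≠ e 1 := e.injective.ne (by decide)
    have h02 : e 0 ≠ e 2 := e.injective.ne (by decide)
    have h12 : e 1 ≠ e 2 := e.injective.ne (by decide)
    have g01 : e' 0 ≠ e' 1 := e'.injective.ne (by decide)
    have g02 : e' 0 ≠ e' 2 := e'.injective.ne (by decide)
    have g12 : e' 1 ≠ e' 2 := e'.injective.ne (by decide)
    have h' : ∀ i j, e' j ≠ e i := fun i j => (h i j).symm
    intro i j hij
    fin_cases i <;> fin_cases j <;> simp_all [h01.symm, h02.symm, h12.symm, g01.symm, g02.symm, g12.symm]⟩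

theorem Indep.disj {ρ : Representation K (alternatingGroup α) V} (hD : Indep ρ) (e e' : Fin 3 ↪ α)
    (h : ∀ i j, e i ≠ e' j) : ex e' c3 ∈ pst ρ (U ρ (ex e c3)) := by
  have h1 := hD (emb6 e e' h)
  have h2 : ex (emb6 e e' h) d1 = ex e c3 :=
    ex_eq_of_coe (emb6 e e' h) e 0 1 2 d1 rfl (by decide) (by decide) (by decide) rfl rfl rfl
  have h3 : ex (emb6 e e' h) d2 = ex e' c3 :=
    ex_eq_of_coe (emb6 e e' h) e' 3 4 5 d2 rfl (by decide) (by decide) (by decide) rfl rfl rfl
  rwa [h2, h3] at h1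

/-- elements fixing the points of a 3-cycle fix its commutator space -/
theorem Indep.off {ρ : Representation K (alternatingGroup α) V} (hD : Indep ρ) (h8 : 8 ≤ Fintype.card α)
    (e : Fin 3 ↪ α) (g : alternatingGroup α) (hg : ∀ i, (g : Perm α) (e i) = e i) : g ∈ pst ρ (U ρ (ex e c3)) := by
  obtain ⟨x, hx⟩ : ∃ x, x ∉ Finset.univ.map e := by
    by_contra hne
    push Not at hne
    have h1 : (Finset.univ : Finset α) ⊆ Finset.univ.map e := fun x _ => hne x
    have h2 := Finset.card_le_card h1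
    rw [Finset.card_map, Finset.card_univ, Finset.card_univ, Fintype.card_fin] at h2
    omega
  obtain ⟨y, hy⟩ : ∃ y, y ∉ insert x (Finset.univ.map e) := by
    by_contra hne
    push Not at hne
    have h1 : (Finset.univ : Finset α) ⊆ insert x (Finset.univ.map e) := fun x _ => hne x
    have h2 := (Finset.card_le_card h1).trans (Finset.card_insert_le _ _)
    rw [Finset.card_map, Finset.card_univ, Finset.card_univ, Fintype.card_fin] at h2
    omega
  have hyx : y ≠ x := fun h => hy (h ▸ Finset.mem_insert_self _ _)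
  have hy' : ∀ i, e i ≠ y := by
    intro i hi
    exact hy (Finset.mem_insert_of_mem (Finset.mem_map.mpr ⟨i, Finset.mem_univ _, hi⟩))
  have hx' : ∀ i, e i ≠ x := by
    intro i hi
    exact hx (Finset.mem_map.mpr ⟨i, Finset.mem_univ _, hi⟩)
  apply mem_of_cyc (pst ρ (U ρ (ex e c3))) {z | ∀ i, e i ≠ z} hx' hy' hyx.symm
  · intro e' h0 h1 h2
    apply hD.disj e e'
    intro i j
    fin_cases j
    · show e i ≠ e' 0
      rw [h0]; exact hx' i
    · show e i ≠ e' 1
      rw [h1]; exact hy' i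
    · exact h2 i
  · intro z hz
    simp only [Set.mem_setOf_eq, not_forall, not_not] at hz
    obtain ⟨i, rfl⟩ := hz
    exact hg i

section main

variable [FiniteDimensional K V]

/-- the two triples `(0 1 2)`, `(0 1 3)` -/
def t012 : Fin 3 ↪ Fin 4 := ⟨![0, 1, 2], by decide⟩
def t013 : Fin 3 ↪ Fin 4 := ⟨![0, 1, 3], by decide⟩

theorem finrank_const (h8 : 8 ≤ Fintype.card α) (e e' : Fin 3 ↪ α) :
    Module.finrank K (U ρ (ex e c3)) = Module.finrank K (U ρ (ex e' c3)) := by
  obtain ⟨g, hg⟩ := exists_move (by omega) e e'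
  rw [← ex_conj e e' c3 g hg, finrank_U_conj]

theorem inter_ne_bot {ρ : Representation K (alternatingGroup α) V} (hD : Indep ρ) (h8 : 8 ≤ Fintype.card α)
    (hirr : Irr ρ) {g₀ : alternatingGroup α} {v₀ : V} (hne : ρ g₀ v₀ ≠ v₀) (e : Fin 4 ↪ α) :
    U ρ (ex (t012.trans e) c3) ⊓ U ρ (ex (t013.trans e) c3) ≠ ⊥ := by
  intro hbot
  have hall : ∀ e' : Fin 4 ↪ α, U ρ (ex (t012.trans e') c3) ⊓ U ρ (ex (t013.trans e') c3) = ⊥ := by
    intro e'
    obtain ⟨g, hg⟩ := exists_move (by omega) e e'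
    rw [← ex_conj (t012.trans e) (t012.trans e') c3 g (fun i => hg _),
      ← ex_conj (t013.trans e) (t013.trans e') c3 g (fun i => hg _)]
    exact map_inf_conj ρ _ _ _ hbot
  obtain ⟨q⟩ := exists_emb h8
  set W : Submodule K V := U ρ (T q 0 1 2) ⊔ U ρ (T q 2 3 4) with hW
  set d := Module.finrank K (U ρ (T q 0 1 2)) with hd
  have hdim : ∀ e : Fin 3 ↪ α, Module.finrank K (U ρ (ex e c3)) = d := fun e => finrank_const ρ h8 _ _
  have hWd : Module.finrank K W ≤ 2 * d := by
    have h1 := Submodule.finrank_sup_add_finrank_inf_eq (U ρ (T q 0 1 2)) (U ρ (T q 2 3 4))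
    have h2 : Module.finrank K (U ρ (T q 2 3 4)) = d := hdim _
    rw [← hd, h2, ← hW] at h1
    omega
  -- pairs
  have hpair : ∀ (i j k l : Fin 8) (h : i ≠ j ∧ j ≠ k ∧ i ≠ k) (h' : i ≠ j ∧ j ≠ l ∧ i ≠ l) (hkl : k ≠ l),
      U ρ (T q i j k h) ≤ W → U ρ (T q i j l h') ≤ W → U ρ (T q i j k h) ⊔ U ρ (T q i j l h') = W := by
    intro i j k l h h' hkl hk hl
    apply Submodule.eq_of_le_of_finrank_le (sup_le hk hl)
    have h1 := Submodule.finrank_sup_add_finrank_inf_eq (U ρ (T q i j k h)) (U ρ (T q i j l h'))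
    have e4 : Fin 4 ↪ α := ⟨![q i, q j, q k, q l], by
      have a1 := h.1; have a2 := h.2.1; have a3 := h.2.2; have a4 := h'.2.1; have a5 := h'.2.2
      have hinj : Function.Injective ![i, j, k, l] := by
        intro s t hst
        fin_cases s <;> fin_cases t <;> simp_all [a1.symm, a2.symm, a3.symm, a4.symm, a5.symm, hkl.symm]
      have : ![q i, q j, q k, q l] = q ∘ ![i, j, k, l] := by
        funext s; fin_cases s <;> rfl
      rw [this]
      exact q.injective.comp hinj⟩
    have h2 : U ρ (T q i j k h) ⊓ U ρ (T q i j l h') = ⊥ := by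
      have a1 := h.1; have a2 := h.2.1; have a3 := h.2.2; have a4 := h'.2.1; have a5 := h'.2.2
      have hinj : Function.Injective ![i, j, k, l] := by
        intro s t hst
        fin_cases s <;> fin_cases t <;> simp_all [a1.symm, a2.symm, a3.symm, a4.symm, a5.symm, hkl.symm]
      have h3 := hall ((⟨![i, j, k, l], hinj⟩ : Fin 4 ↪ Fin 8).trans q)
      have h4 : t012.trans ((⟨![i, j, k, l], hinj⟩ : Fin 4 ↪ Fin 8).trans q) = (f3 i j k h).trans q := by
        ext s; fin_cases s <;> rfl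
      have h5 : t013.trans ((⟨![i, j, k, l], hinj⟩ : Fin 4 ↪ Fin 8).trans q) = (f3 i j l h').trans q := by
        ext s; fin_cases s <;> rfl
      rw [h4, h5] at h3
      exact h3
    have h6 : Module.finrank K (U ρ (T q i j k h)) = d := hdim _
    have h7 : Module.finrank K (U ρ (T q i j l h')) = d := hdim _
    rw [h2, finrank_bot, h6, h7] at h1
    omega
  -- membership in W
  have hinj := q.injective
  have ma : T q 0 1 2 ∈ triv ρ W := (U_le_iff ρ).mp le_sup_left
  have mb : T q 2 3 4 ∈ triv ρ W := (U_le_iff ρ).mp le_sup_right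
  have m013 : T q 0 1 3 ∈ triv ρ W := by
    have h1 : T q 2 3 4 * T q 0 1 2 * (T q 2 3 4)⁻¹ = T q 0 1 3 := by
      apply T_conj
      · exact T_apply_of_ne _ _ _ _ _ (hinj.ne (by decide)) (hinj.ne (by decide)) (hinj.ne (by decide))
      · exact T_apply_of_ne _ _ _ _ _ (hinj.ne (by decide)) (hinj.ne (by decide)) (hinj.ne (by decide))
      · exact T_apply_fst _ _ _ _ _
    rw [← h1]
    exact mul_mem (mul_mem mb ma) (inv_mem mb)
  have m014 : T q 0 1 4 ∈ triv ρ W := by
    have h1 : T q 2 3 4 * T q 0 1 3 * (T q 2 3 4)⁻¹ = T q 0 1 4 := by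
      apply T_conj
      · exact T_apply_of_ne _ _ _ _ _ (hinj.ne (by decide)) (hinj.ne (by decide)) (hinj.ne (by decide))
      · exact T_apply_of_ne _ _ _ _ _ (hinj.ne (by decide)) (hinj.ne (by decide)) (hinj.ne (by decide))
      · exact T_apply_snd _ _ _ _ _
    rw [← h1]
    exact mul_mem (mul_mem mb m013) (inv_mem mb)
  have mb' : T q 3 4 2 ∈ triv ρ W := by
    have h1 : T q 2 3 4 * T q 2 3 4 * (T q 2 3 4)⁻¹ = T q 3 4 2 :=
      T_conj q _ _ _ _ _ _ _ _ _ (T_apply_fst _ _ _ _ _) (T_apply_snd _ _ _ _ _) (T_apply_thd _ _ _ _ _)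
    rw [← h1]
    exact mul_mem (mul_mem mb mb) (inv_mem mb)
  have m340 : T q 3 4 0 ∈ triv ρ W := by
    have h1 : T q 0 1 2 * T q 3 4 2 * (T q 0 1 2)⁻¹ = T q 3 4 0 := by
      apply T_conj
      · exact T_apply_of_ne _ _ _ _ _ (hinj.ne (by decide)) (hinj.ne (by decide)) (hinj.ne (by decide))
      · exact T_apply_of_ne _ _ _ _ _ (hinj.ne (by decide)) (hinj.ne (by decide)) (hinj.ne (by decide))
      · exact T_apply_thd _ _ _ _ _
    rw [← h1]
    exact mul_mem (mul_mem ma mb') (inv_mem ma)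
  have m341 : T q 3 4 1 ∈ triv ρ W := by
    have h1 : T q 0 1 2 * T q 3 4 0 * (T q 0 1 2)⁻¹ = T q 3 4 1 := by
      apply T_conj
      · exact T_apply_of_ne _ _ _ _ _ (hinj.ne (by decide)) (hinj.ne (by decide)) (hinj.ne (by decide))
      · exact T_apply_of_ne _ _ _ _ _ (hinj.ne (by decide)) (hinj.ne (by decide)) (hinj.ne (by decide))
      · exact T_apply_fst _ _ _ _ _
    rw [← h1]
    exact mul_mem (mul_mem ma m340) (inv_mem ma)
  -- the five descriptions of W
  have w4 := hpair 0 1 2 3 (by decide) (by decide) (by decide) ((U_le_iff ρ).mpr ma) ((U_le_iff ρ).mpr m013)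
  have w2 := hpair 0 1 3 4 (by decide) (by decide) (by decide) ((U_le_iff ρ).mpr m013) ((U_le_iff ρ).mpr m014)
  have w3 := hpair 0 1 2 4 (by decide) (by decide) (by decide) ((U_le_iff ρ).mpr ma) ((U_le_iff ρ).mpr m014)
  have w1 := hpair 3 4 2 0 (by decide) (by decide) (by decide) ((U_le_iff ρ).mpr mb') ((U_le_iff ρ).mpr m340)
  have w0 := hpair 3 4 2 1 (by decide) (by decide) (by decide) ((U_le_iff ρ).mpr mb') ((U_le_iff ρ).mpr m341)
  -- everything fixes W
  have hoff : ∀ (i j k l : Fin 8) (h : i ≠ j ∧ j ≠ k ∧ i ≠ k) (h' : i ≠ j ∧ j ≠ l ∧ i ≠ l) (g : alternatingGroup α),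
      (g : Perm α) (q i) = q i → (g : Perm α) (q j) = q j → (g : Perm α) (q k) = q k → (g : Perm α) (q l) = q l →
      g ∈ pst ρ (U ρ (T q i j k h) ⊔ U ρ (T q i j l h')) := by
    intro i j k l h h' g gi gj gk gl
    apply mem_pst_sup
    · apply hD.off h8
      intro s
      fin_cases s
      · exact gi
      · exact gj
      · exact gk
    · apply hD.off h8
      intro s
      fin_cases s
      · exact gi
      · exact gj
      · exact gl
  have htop : pst ρ W = ⊤ := by
    rw [eq_top_iff]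
    intro g _
    apply mem_of_cyc (pst ρ W) Set.univ (x := q 5) (y := q 6) trivial trivial (hinj.ne (by decide))
    · intro e' h0 h1 _
      -- the 3-cycle fixes every point different from q 5, q 6, e' 2
      have hfix : ∀ z, z ≠ q 5 → z ≠ q 6 → z ≠ e' 2 → ((ex e' c3 : alternatingGroup α) : Perm α) z = z := by
        intro z h5 h6 h7
        apply ex_of_notMem
        intro i
        fin_cases i
        · exact fun h => h5 (by rw [← h]; exact h0)
        · exact fun h => h6 (by rw [← h]; exact h1)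
        · exact fun h => h7 h.symm
      have hq : ∀ i : Fin 8, i ≠ 5 → i ≠ 6 → q i ≠ e' 2 → ((ex e' c3 : alternatingGroup α) : Perm α) (q i) = q i :=
        fun i h5 h6 h7 => hfix _ (hinj.ne h5) (hinj.ne h6) h7
      by_cases z0 : e' 2 = q 0
      · rw [← w0]
        apply hoff <;> apply hq <;> first | decide | (rw [z0]; exact hinj.ne (by decide))
      by_cases z1 : e' 2 = q 1
      · rw [← w1]
        apply hoff <;> apply hq <;> first | decide | (rw [z1]; exact hinj.ne (by decide))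
      by_cases z2 : e' 2 = q 2
      · rw [← w2]
        apply hoff <;> apply hq <;> first | decide | (rw [z2]; exact hinj.ne (by decide))
      by_cases z3 : e' 2 = q 3
      · rw [← w3]
        apply hoff <;> apply hq <;> first | decide | (rw [z3]; exact hinj.ne (by decide))
      · rw [← w4]
        exact hoff 0 1 2 3 _ _ _ (hq 0 (by decide) (by decide) fun h => z0 h.symm)
          (hq 1 (by decide) (by decide) fun h => z1 h.symm) (hq 2 (by decide) (by decide) fun h => z2 h.symm)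
          (hq 3 (by decide) (by decide) fun h => z3 h.symm)
    · intro z hz
      exact absurd trivial hz
  have hWne : W ≠ ⊥ := by
    intro hW0
    have hcyc : T q 0 1 2 ∈ triv ρ (⊥ : Submodule K V) := by rw [← hW0]; exact ma
    have h3 : ∀ g : alternatingGroup α, g ∈ triv ρ (⊥ : Submodule K V) := by
      intro g
      apply mem_of_cyc (triv ρ ⊥) Set.univ (x := q 5) (y := q 6) trivial trivial (hinj.ne (by decide))
      · intro e' _ _ _
        obtain ⟨g, hg⟩ := exists_move (by omega) ((f3 0 1 2).trans q) e'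
        rw [← ex_conj _ e' c3 g hg]
        intro v
        rw [Submodule.mem_bot, sub_eq_zero, rho_mul, rho_mul]
        have h4 := hcyc (ρ g⁻¹ v)
        rw [Submodule.mem_bot, sub_eq_zero] at h4
        have h5 : ρ (ex ((f3 0 1 2).trans q) c3) (ρ g⁻¹ v) = ρ g⁻¹ v := h4
        rw [h5, rho_self_inv]
      · intro z hz
        exact absurd trivial hz
    have h4 := h3 g₀ v₀
    rw [Submodule.mem_bot, sub_eq_zero] at h4
    exact hne h4
  exact pst_ne_top ρ hirr hne hWne htop

end main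

end Cfsg.Agent.H614.AMod
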