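import Cfsg.Agent.H614.AMod.Disp

/-!
# Weight spaces of commuting involutions in odd or zero characteristic

* `eg ρ g c` : the eigenspace of `g`;
* `split` : `dim W = dim (W ∩ {g = 1}) + dim (W ∩ {g = -1})`;
* `finrank_conj` : conjugate weight spaces have the same dimension;
* `four` : the three non-trivial weights of a four-group permuted by an element of order 3.
-/

set_option autoImplicit false
set_option linter.unusedSectionVars false

namespace Cfsg.Agent.H614.AMod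

variable {K V G : Type*} [Field K] [AddCommGroup V] [Module K V] [Group G] (ρ : Representation K G V)

/-- eigenspace -/
def eg (g : G) (c : K) : Submodule K V where
  carrier := {v | ρ g v = c • v}
  zero_mem' := by simp
  add_mem' := fun {a b} ha hb => by
    have ha' : ρ g a = c • a := ha
    have hb' : ρ g b = c • b := hb
    show ρ g (a + b) = c • (a + b)
    rw [map_add, ha', hb', smul_add]
  smul_mem' := fun d {a} ha => by
    have ha' : ρ g a = c • a := ha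
    show ρ g (d • a) = c • (d • a)
    rw [map_smul, ha', smul_comm]

theorem mem_eg {g : G} {c : K} {v : V} : v ∈ eg ρ g c ↔ ρ g v = c • v := Iff.rfl

theorem mem_eg_one {g : G} {v : V} : v ∈ eg ρ g 1 ↔ ρ g v = v := by rw [mem_eg, one_smul]

theorem mem_eg_neg {g : G} {v : V} : v ∈ eg ρ g (-1) ↔ ρ g v = -v := by rw [mem_eg, neg_one_smul]

theorem eg_conj (g h : G) (c : K) : (eg ρ g c).map (aut ρ h : V →ₗ[K] V) = eg ρ (h * g * h⁻¹) c := by
  ext v
  constructor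
  · rintro ⟨u, hu, rfl⟩
    rw [SetLike.mem_coe, mem_eg] at hu
    rw [mem_eg]
    show ρ (h * g * h⁻¹) (ρ h u) = c • ρ h u
    rw [rho_mul, rho_mul, rho_inv_self, hu, map_smul]
  · intro hv
    rw [mem_eg, rho_mul, rho_mul] at hv
    refine ⟨ρ h⁻¹ v, ?_, rho_self_inv ρ h v⟩
    rw [SetLike.mem_coe, mem_eg]
    have h1 := congrArg (ρ h⁻¹) hv
    rwa [rho_inv_self, map_smul] at h1

/-- invariance -/
def Inv (W : Submodule K V) (g : G) : Prop := ∀ w ∈ W, ρ g w ∈ W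

theorem Inv.inf {W W' : Submodule K V} {g : G} (h : Inv ρ W g) (h' : Inv ρ W' g) : Inv ρ (W ⊓ W') g :=
  fun w hw => ⟨h w hw.1, h' w hw.2⟩

theorem inv_top (g : G) : Inv ρ (⊤ : Submodule K V) g := fun _ _ => trivial

theorem inv_eg {g h : G} (hc : g * h = h * g) (c : K) : Inv ρ (eg ρ g c) h := by
  intro w hw
  rw [mem_eg] at hw ⊢
  rw [← rho_mul, hc, rho_mul, hw, map_smul]

variable [FiniteDimensional K V]

theorem finrank_map_aut (W : Submodule K V) (h : G) :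
    Module.finrank K (W.map (aut ρ h : V →ₗ[K] V)) = Module.finrank K W := LinearEquiv.finrank_map_eq (aut ρ h) _

theorem split (h2 : (2 : K) ≠ 0) {g : G} (hg : g * g = 1) {W : Submodule K V} (hW : Inv ρ W g) :
    Module.finrank K W = Module.finrank K (W ⊓ eg ρ g 1 : Submodule K V) +
      Module.finrank K (W ⊓ eg ρ g (-1) : Submodule K V) := by
  have hdis : (W ⊓ eg ρ g 1) ⊓ (W ⊓ eg ρ g (-1)) = ⊥ := by
    rw [eq_bot_iff]
    intro v hv
    obtain ⟨⟨-, h3⟩, ⟨-, h4⟩⟩ := hv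
    rw [SetLike.mem_coe, mem_eg_one] at h3
    rw [SetLike.mem_coe, mem_eg_neg, h3] at h4
    rw [Submodule.mem_bot]
    have h5 : (2 : K) • v = 0 := by
      rw [two_smul]
      nth_rw 1 [h4]
      exact neg_add_cancel v
    rcases smul_eq_zero.mp h5 with h | h
    · exact absurd h h2
    · exact h
  have hsup : (W ⊓ eg ρ g 1) ⊔ (W ⊓ eg ρ g (-1)) = W := by
    apply le_antisymm (sup_le inf_le_left inf_le_left)
    intro v hv
    have hgg : ρ g (ρ g v) = v := by rw [← rho_mul, hg, rho_one]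
    have e1 : v = (2 : K)⁻¹ • (v + ρ g v) + (2 : K)⁻¹ • (v - ρ g v) := by
      rw [← smul_add]
      have : (v + ρ g v) + (v - ρ g v) = (2 : K) • v := by rw [two_smul]; abel
      rw [this, smul_smul, inv_mul_cancel₀ h2, one_smul]
    rw [e1]
    apply Submodule.add_mem_sup
    · refine ⟨W.smul_mem _ (W.add_mem hv (hW v hv)), ?_⟩
      rw [SetLike.mem_coe, mem_eg_one, map_smul, map_add, hgg, add_comm (ρ g v) v]
    · refine ⟨W.smul_mem _ (W.sub_mem hv (hW v hv)), ?_⟩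
      rw [SetLike.mem_coe, mem_eg_neg, map_smul, map_sub, hgg, ← smul_neg, neg_sub]
  have h3 := Submodule.finrank_sup_add_finrank_inf_eq (W ⊓ eg ρ g 1) (W ⊓ eg ρ g (-1))
  rw [hdis, hsup, finrank_bot, add_zero] at h3
  exact h3

/-- transport of a dimension by an element of the group -/
theorem finrank_le_of_map {W W' : Submodule K V} (h : G) (hm : ∀ w ∈ W, ρ h w ∈ W') :
    Module.finrank K W ≤ Module.finrank K W' := by
  rw [← finrank_map_aut ρ W h]
  apply Submodule.finrank_mono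
  rintro _ ⟨w, hw, rfl⟩
  exact hm w hw

theorem finrank_eq_of_map {W W' : Submodule K V} (h : G) (hm : ∀ w ∈ W, ρ h w ∈ W')
    (hm' : ∀ w ∈ W', ρ h⁻¹ w ∈ W) : Module.finrank K W = Module.finrank K W' :=
  le_antisymm (finrank_le_of_map ρ h hm) (finrank_le_of_map ρ h⁻¹ hm')

/-- moving an eigenvector -/
theorem eg_move {g h g' : G} (hh : h * g = g' * h) {c : K} {v : V} (hv : v ∈ eg ρ g c) : ρ h v ∈ eg ρ g' c := by
  rw [mem_eg] at hv ⊢
  rw [← rho_mul, ← hh, rho_mul, hv, map_smul]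

theorem eg_mul {g h : G} {c d : K} {v : V} (hg : v ∈ eg ρ g c) (hh : v ∈ eg ρ h d) : v ∈ eg ρ (g * h) (c * d) := by
  rw [mem_eg] at hg hh ⊢
  rw [rho_mul, hh, map_smul, hg, smul_smul, mul_comm]

/-- a four-group `⟨x, y⟩` and an element `c` with `c x c⁻¹ = x y`, `c y c⁻¹ = x` -/
structure Four (x y c : G) : Prop where
  xx : x * x = 1
  yy : y * y = 1
  xy : x * y = y * x
  cx : c * x = (x * y) * c
  cy : c * y = x * c

theorem Four.conj {x y c : G} (h : Four x y c) {Z : Submodule K V} (hc : Inv ρ Z c) (hc' : Inv ρ Z c⁻¹) :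
    Module.finrank K (Z ⊓ eg ρ x 1 ⊓ eg ρ y (-1) : Submodule K V) =
      Module.finrank K (Z ⊓ eg ρ x (-1) ⊓ eg ρ y (-1) : Submodule K V) ∧
    Module.finrank K (Z ⊓ eg ρ x (-1) ⊓ eg ρ y (-1) : Submodule K V) =
      Module.finrank K (Z ⊓ eg ρ x (-1) ⊓ eg ρ y 1 : Submodule K V) := by
  have e1 : ∀ w ∈ Z ⊓ eg ρ x 1 ⊓ eg ρ y (-1), ρ c w ∈ Z ⊓ eg ρ x (-1) ⊓ eg ρ y (-1) := by
    rintro w ⟨⟨hZ, hx⟩, hy⟩
    have h1 := eg_move ρ h.cx hx
    have h2 := eg_move ρ h.cy hy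
    refine ⟨⟨hc w hZ, h2⟩, ?_⟩
    have h3 := eg_mul ρ h2 h1
    rwa [← mul_assoc, h.xx, one_mul, mul_one] at h3
  have e2 : ∀ w ∈ Z ⊓ eg ρ x (-1) ⊓ eg ρ y (-1), ρ c w ∈ Z ⊓ eg ρ x (-1) ⊓ eg ρ y 1 := by
    rintro w ⟨⟨hZ, hx⟩, hy⟩
    have h1 := eg_move ρ h.cx hx
    have h2 := eg_move ρ h.cy hy
    refine ⟨⟨hc w hZ, h2⟩, ?_⟩
    have h3 := eg_mul ρ h2 h1
    rwa [← mul_assoc, h.xx, one_mul, neg_mul_neg, one_mul] at h3
  have e3 : ∀ w ∈ Z ⊓ eg ρ x (-1) ⊓ eg ρ y 1, ρ c w ∈ Z ⊓ eg ρ x 1 ⊓ eg ρ y (-1) := by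
    rintro w ⟨⟨hZ, hx⟩, hy⟩
    have h1 := eg_move ρ h.cx hx
    have h2 := eg_move ρ h.cy hy
    refine ⟨⟨hc w hZ, h2⟩, ?_⟩
    have h3 := eg_mul ρ h2 h1
    rwa [← mul_assoc, h.xx, one_mul, one_mul] at h3
  have l1 := finrank_le_of_map ρ c e1
  have l2 := finrank_le_of_map ρ c e2
  have l3 := finrank_le_of_map ρ c e3
  constructor <;> omega

theorem Four.sum (h2 : (2 : K) ≠ 0) {x y c : G} (h : Four x y c) {Z : Submodule K V} (hx : Inv ρ Z x) (hy : Inv ρ Z y)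
    (hc : Inv ρ Z c) (hc' : Inv ρ Z c⁻¹) :
    Module.finrank K Z = Module.finrank K (Z ⊓ eg ρ x 1 ⊓ eg ρ y 1 : Submodule K V) +
      3 * Module.finrank K (Z ⊓ eg ρ x 1 ⊓ eg ρ y (-1) : Submodule K V) := by
  have s1 := split ρ h2 h.xx hx
  have s2 := split ρ h2 h.yy (hy.inf ρ (inv_eg ρ h.xy 1))
  have s3 := split ρ h2 h.yy (hy.inf ρ (inv_eg ρ h.xy (-1)))
  obtain ⟨c1, c2⟩ := h.conj ρ hc hc'
  omega

end Cfsg.Agent.H614.AMod
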